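import Cfsg.Agent.Lib.MC.Core

/-! Two applications of the transfer trick. -/

set_option autoImplicit false
set_option linter.style.haveILetI false
set_option linter.unusedVariables false
set_option linter.unusedSectionVars false

namespace Cfsg.Agent.MC

open Finset Module

theorem le_of_irr {F : Type*} [Field F] {V : Type*} [AddCommGroup V] [Module F V]
    {Γ : Type*} [Group Γ] {σ : Γ →* End F V} {co : ℕ → V →ₗ[F] F} {a b : ℕ} {N : End F V} {d : ℕ}
    {v : ℕ → V} (h : Reg N d v co) {g₀ : Γ} (hg : Ex d v co 1 (σ g₀ - 1))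
    (hirr : ∀ c, a < c → c < b → ¬ FI σ co c) (hab : a < b) {K : Submodule F V}
    (hK : ∀ g, ∀ w ∈ K, σ g w ∈ K) (h1 : Fl co (b - 1) ≤ K) : Fl co a ≤ K := by
  obtain ⟨c, hc, e⟩ := h.exists_eq_Fl hg (U := K) fun w hw => sub_mem (hK g₀ w hw) hw
  have h2 : c ≤ b - 1 := h.le_of_Fl_le hc (e ▸ h1)
  have h3 : c ≤ a := by
    by_contra h3
    exact hirr c (by omega) (by omega) fun g w hw => e ▸ hK g w (e ▸ hw)
  exact e ▸ Fl_anti h3

variable {p : ℕ} [hp : Fact p.Prime] {X : Type*} [Group X] {V : Type*} [AddCommGroup V]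
  [Module (ZMod p) V] [Finite X] [Module.Finite (ZMod p) V] {ρ : X →* End (ZMod p) V} {d : ℕ}
  {v : ℕ → V} {co : ℕ → V →ₗ[ZMod p] ZMod p} {P P₁ : Subgroup X} {s t x g : X} {r : ℕ}

namespace Core

variable (h : Core ρ d v co P P₁ s t)
include h

theorem exists_eq {k : ℕ} {A : End (ZMod p) V} (hA : Ex d v co k A) (hk : k < d)
    (e : A * (ρ s - 1) = (ρ s - 1) * A) {w : V} (hw : w ∈ Fl co k) : ∃ w', A w' = w := by
  refine h.reg.Fl_le_of_inv h.reg.ex_N (U := LinearMap.range A) ?_ ⟨v 0, rfl⟩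
    (by simpa using hA.1 0 _ (mem_Fl_zero _)) (by simpa [cf] using hA.2 0 (by omega)) hw
  rintro _ ⟨y, rfl⟩
  exact ⟨_, LinearMap.congr_fun e y⟩

theorem pow_not_mem {c : ZMod p} (hc : c ≠ 0) : s ^ c.val ∉ P₁ := fun e =>
  h.s_not_mem (mem_of_pow_val_mem (h.pow_eq_one h.s_mem) hc e)

theorem le_St_of_normal {Y : Subgroup X} (hPY : P ≤ Y)
    (hn : ∀ g ∈ Y, ∀ x ∈ P₁, g * x * g⁻¹ ∈ P₁) (hc : ∀ g ∈ Y, Commute t g)
    (hw : ∀ g ∈ Y, g ∈ St ρ co → cf v co 1 (ρ (g * s * g⁻¹) - 1) 0 = cf v co 0 (ρ g) 0) :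
    Y ≤ St ρ co := by
  classical
  let σ : Y →* End (ZMod p) V := ρ.comp Y.subtype
  have hσ : ∀ g : Y, σ g = ρ g := fun _ => rfl
  by_contra hY
  obtain ⟨a', c, h₁, h₂, h₃, h₄⟩ : ∃ a' c, 1 ≤ a' ∧ a' ≤ c ∧ FI σ co a' ∧ ¬ FI σ co c := by
    by_cases h1 : FI σ co 1
    · obtain ⟨c, hc⟩ : ∃ c, ¬ FI σ co c := by
        by_contra e
        push Not at e
        exact hY fun g hg a w hw => e a ⟨g, hg⟩ w hw
      refine ⟨1, c, le_rfl, Nat.pos_of_ne_zero ?_, h1, hc⟩
      rintro rfl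
      exact hc fun _ _ _ => mem_Fl_zero _
    · obtain ⟨k, k₁, k₂, k₃⟩ := h.exists_k
      have hT : ∀ (g : Y) w, (ρ t - 1) (σ g w) = σ g ((ρ t - 1) w) := fun g w =>
        LinearMap.congr_fun (((hc g g.2).map ρ).sub_left (Commute.one_left _)).eq w
      refine ⟨k, k + 1, by omega, by omega, fun g w hw => ?_, fun e => h1 fun g w hw => ?_⟩
      · obtain ⟨w', rfl⟩ := h.exists_eq k₃ k₂ (((h.tc s h.sP).map ρ).sub_left
          (Commute.one_left _) |>.sub_right (Commute.one_right _)).eq hw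
        rw [← hT]
        simpa using k₃.1 0 _ (mem_Fl_zero _)
      · refine h.reg.mem_of_apply_mem k₃ (by omega) ?_
        rw [hT, add_comm]
        exact e g _ (add_comm 1 k ▸ k₃.1 1 w hw)
  obtain ⟨a, b, k₁, k₂, k₃, k₄, W, hirr⟩ := exists_gap h.reg h₃ h₄ h₂
  have hdp := h.dp
  let s' : Y := ⟨s, hPY h.sP⟩
  have hs' : s' ^ p = 1 := Subtype.ext (h.pow_eq_one h.s_mem)
  have hex : Ex d v co 1 (σ s' - 1) := h.reg.ex_N
  have htriv : ∀ w ∈ Fl co a, ∀ x ∈ P₁, (ρ x - 1) w ∈ Fl co b := fun w hw => by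
    have := le_of_irr h.reg hex hirr W.lt (K := ⨅ x ∈ P₁, (Fl co b).comap (ρ x - 1))
      (fun g w hw => by
        simp only [Submodule.mem_iInf, Submodule.mem_comap] at hw ⊢
        intro x hx
        have := W.ib g _ (hw _ (hn _ (inv_mem g.2) x hx))
        rwa [conj_sub_one, inv_inv, End.mul_apply, End.mul_apply, hσ, rep_inv_apply] at this)
      (fun w hw => by
        simp only [Submodule.mem_iInf, Submodule.mem_comap]
        exact fun x hx => Fl_anti (by omega) (h.dg2 x hx _ w hw)) hw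
    simpa only [Submodule.mem_iInf, Submodule.mem_comap] using this
  have hψ : ∀ w ∈ Fl co b, co (a + 1) w = 0 := fun w hw => hw _ (by omega)
  obtain ⟨U, u₁, u₂, f, u₃, u₄⟩ := trick (F := ZMod p) (D := Dom W) (ι := Fin 2)
    (Fil := ![FilE W, FilD W a]) (p := p) (P := P.subgroupOf Y) (N := (St ρ co).subgroupOf Y)
    (fun e => h.idx (e.trans (Subgroup.relIndex_dvd_index_of_le hPY)))
    (Subgroup.comap_mono h.le_St) (I := Multiplicative (ZMod p)) (by simp) (cyc s' hs')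
    (fun i => pow_mem h.sP _)
    (fun i hi g hg => h.mem_St_of_conj (pow_mem h.sP _) (h.pow_not_mem (c := i.toAdd) hi) hg)
    (Fin.forall_fin_two.2 ⟨FilE_anti, FilD_anti⟩)
    (Fin.forall_fin_two.2 ⟨fun g f => act_mem_FilE g, fun g f => act_mem_FilD W.ia g⟩)
    (len := ![2 * (b - a - 1), a - 1]) (l := ![1 + (b - a - 1), a - 1])
    (Fin.forall_fin_two.2 ⟨FilE_len, FilD_len (by omega)⟩)
    (fun u hu => by
      have := trace_mem (x := s') (κ := 1) (Fin.forall_fin_two.2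
        ⟨act_sub_mem_FilE (W := W) (x := s') h.s_mem (inv_mem h.s_mem),
          act_sub_mem_FilD (W := W) (x := s') (inv_mem h.s_mem)⟩) hu
      rw [← Equiv.sum_comp Multiplicative.ofAdd]
      exact PF_anti (by simp; omega) this)
    (m := ![fE W (ρ s - 1), fun e => co 0 e.y])
    (Fin.forall_fin_two.2 ⟨fE_mem h.s_mem, co 0, fun w hw => hw 0 (by simp; omega), rfl⟩)
    (fun g hg => Fin.forall_fin_two.2 ⟨by
      obtain ⟨n, hn⟩ := h.gen g hg
      have e : (g : X) * s * (g : X)⁻¹ = (g * (s ^ n)⁻¹) * s * (g * (s ^ n)⁻¹)⁻¹ := by group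
      change act (ZMod p) (Dom W) g (fE W (ρ s - 1)) = fE W (ρ s - 1)
      rw [act_fE, hσ, hσ, Subgroup.coe_inv, ← conj_sub_one, e, conj_sub_one]
      funext z
      set y := (g : X) * (s ^ n)⁻¹
      have k₅ := z.hψ _ (htriv _ (Fl_anti (Nat.le_succ a) (h.s_mem a _
        (h.le_St (inv_mem (h.le hn)) a _ z.hx))) y hn)
      have k₆ := z.hψ _ (Fl_anti (Nat.le_succ b) (h.s_mem b _ (htriv _ z.hx _ (inv_mem hn))))
      simp only [fE_apply, End.mul_apply, LinearMap.sub_apply, End.one_apply, map_sub] at k₅ k₆ ⊢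
      linear_combination k₅ + k₆, by
      funext z
      change co 0 (ρ (g : X)⁻¹ z.y) = co 0 z.y
      have := h.le_Un (inv_mem hg) 0 z.y (mem_Fl_zero _) 0 Nat.one_pos
      rwa [LinearMap.sub_apply, map_sub, sub_eq_zero] at this⟩)
    (fun g hg => ⟨![cf v co 1 (ρ (g * s * g⁻¹) - 1) 0, cf v co 0 (ρ (g : X)⁻¹) 0], by
      rw [Fin.prod_univ_two]
      change _ * cf v co 0 (ρ (g : X)⁻¹) 0 = 1
      rw [← h.cf_mul_inv (g := (g : X)) hg (a := 0) (by omega), ← hw g g.2 hg]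
      rfl, Fin.forall_fin_two.2 ⟨by
      change act (ZMod p) (Dom W) g (fE W (ρ s - 1)) - _ • fE W (ρ s - 1) ∈ FilE W _
      rw [act_fE, hσ, hσ, Subgroup.coe_inv, ← conj_sub_one, ← map_smul, ← map_sub]
      have := fE_mem (W := W) (h.lam_pow hg 1)
      rw [pow_one, pow_one, pow_one] at this
      exact FilE_anti (by change 1 + (b - a - 1) + 1 ≤ _; omega) this, by
      convert Submodule.zero_mem _
      funext z
      exact sub_eq_zero.2 (h.reg.co_apply (a := 0) (inv_mem hg) (mem_Fl_zero _))⟩⟩)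
    (d := ![⟨v a, co (a + 1), 0, h.reg.v_mem a, hψ⟩, ⟨0, 0, v 0, zero_mem _, fun _ _ => rfl⟩])
    (Fin.forall_fin_two.2 ⟨fun f hf => hf.2 _ a (a + 2) (h.reg.v_mem a)
      (fun w hw => hw _ (by omega)) (by simp; omega), by
      rintro _ ⟨φ, hφ, rfl⟩
      exact hφ _ (Fl_anti (by simp; omega) (mem_Fl_zero _))⟩)
    (Fin.forall_fin_two.2 ⟨h.reg.ex_N.2 a (by omega), by
      change co 0 (v 0) ≠ 0
      rw [h.reg.co_self (by omega)]
      exact one_ne_zero⟩)
    (j₀ := 0) (ρ := b - a) (by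
      rw [show (univ : Finset (Fin 2)).erase 0 = {1} from rfl]
      simp
      omega)
  exact u₄ (eq_zero_of_irr h.reg hex hirr u₁ u₂ k₄ u₃)

theorem mem_St_of_cyclic (h₁ : ∀ x ∈ P₁, x ∈ Subgroup.zpowers t)
    (hC : ∀ g, Commute t g → g ∈ St ρ co) (g : X) : g ∈ St ρ co := by
  classical
  by_contra hY
  obtain ⟨c, hc⟩ : ∃ c, ¬ FI ρ co c := by
    by_contra e
    push Not at e
    exact hY fun a w hw => e a g w hw
  obtain ⟨a, b, -, k₂, k₃, k₄, W, hirr⟩ := exists_gap h.reg (a' := 0)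
    (fun _ _ _ => mem_Fl_zero _) hc (Nat.zero_le c)
  have hdp := h.dp
  have hs : s ^ p = 1 := h.pow_eq_one h.s_mem
  have ht : t ^ p = 1 := h.pow_eq_one (h.le_Un (h.le h.tP))
  have hcomm : ∀ x ∈ P, Commute s x := fun x hx => by
    obtain ⟨n, hn⟩ := h.gen x hx
    obtain ⟨j, hj⟩ := h₁ _ hn
    have : x = t ^ j * s ^ n := by rw [show t ^ j = _ from hj, inv_mul_cancel_right]
    rw [this]
    exact ((h.tc s h.sP).symm.zpow_right j).mul_right ((Commute.refl s).pow_right n)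
  obtain ⟨ε, hε⟩ : ∃ ε, ε = b - a - 1 := ⟨_, rfl⟩
  obtain ⟨β, hβ⟩ : ∃ β, β = (p - 2) / ε := ⟨_, rfl⟩
  have hβ₁ : β * ε ≤ p - 2 := hβ ▸ Nat.div_mul_le_self _ _
  have hβ₂ : p - 2 < β * ε + ε := hβ ▸ Nat.lt_div_mul_add (by omega)
  let l : Option (Fin β) → ℕ := fun j => j.elim (p - 1 - β * ε) fun _ => ε
  have hl : ∀ j, l j ≤ ε := fun j => by cases j <;> simp [l]; omega
  have hsum : ∑ j, l j = p - 1 := by simp [l, Fintype.sum_option]; omega
  have hsum' : ∑ j, (l j + (b - a - 1)) = p - 1 + (β * ε + ε) := by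
    rw [sum_add_distrib, hsum, ← hε]; simp [add_mul]
  have hcyc : ∀ i j, Commute (cyc s hs i) (cyc t ht j) := fun i j =>
    (h.tc s h.sP).symm.pow_pow _ _
  obtain ⟨U, u₁, u₂, f, u₃, u₄⟩ := trick (F := ZMod p) (D := Dom W) (ι := Option (Fin β))
    (Fil := fun _ => FilE W) (p := p) (P := P) (N := St ρ co) h.idx h.le_St
    (I := Multiplicative (ZMod p) × Multiplicative (ZMod p)) (by simp)
    ((cyc s hs).noncommCoprod (cyc t ht) hcyc)
    (fun i => mul_mem (pow_mem h.sP _) (pow_mem (h.le h.tP) _))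
    (fun i hi g hg => by
      by_cases hi' : i.1 = 1
      · have hj : i.2.toAdd ≠ 0 := fun e => hi (Prod.ext hi' e)
        rw [MonoidHom.noncommCoprod_apply, hi', map_one, one_mul, cyc_apply, ← inv_inv g,
          inv_inv g⁻¹, ← conj_pow] at hg
        have k₅ := hcomm _ (mem_of_pow_val_mem (by rw [conj_pow, ht, mul_one, mul_inv_cancel]) hj hg)
        have k₆ : Commute t (g * s * g⁻¹) := by
          have := k₅.symm.map (MulAut.conj g)
          simpa [mul_assoc] using this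
        have k₇ := h.mem_of_pow (hC _ k₆) (e := 1) (by
          rw [pow_one, conj_pow, hs, mul_one, mul_inv_cancel])
        exact inv_mem_iff.1 (h.mem_St_of_conj h.sP h.s_not_mem (by rwa [inv_inv]))
      · refine h.mem_St_of_conj (mul_mem (pow_mem h.sP _) (pow_mem (h.le h.tP) _)) ?_ hg
        rw [P₁.mul_mem_cancel_right (pow_mem h.tP _)]
        exact h.pow_not_mem (c := i.1.toAdd) hi')
    (fun _ => FilE_anti) (fun _ g f => act_mem_FilE g)
    (len := fun _ => 2 * (b - a - 1)) (l := fun j => l j + (b - a - 1)) (fun _ => FilE_len)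
    (fun u hu => by
      have k₅ := trace_mem (x := t) (κ := 2) (fun _ =>
        act_sub_mem_FilE (h.dg2 t h.tP) (h.dg2 _ (inv_mem h.tP))) hu
      have k₆ := trace_mem (x := s) (κ := 1) (fun _ =>
        act_sub_mem_FilE h.s_mem (inv_mem h.s_mem)) k₅
      refine PF_anti (by rw [hsum']; omega) (?_ : _ ∈ PF _ (0 + 2 * (p - 1) + 1 * (p - 1)))
      convert k₆ using 1
      rw [Fintype.sum_prod_type, ← Equiv.sum_comp Multiplicative.ofAdd]
      refine sum_congr rfl fun i _ => ?_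
      rw [map_sum, ← Equiv.sum_comp Multiplicative.ofAdd]
      refine sum_congr rfl fun j _ => ?_
      rw [MonoidHom.noncommCoprod_apply, map_mul]
      rfl)
    (m := fun j => fE W ((ρ s - 1) ^ l j)) (fun j => fE_mem (h.reg.dg_pow_N _))
    (fun g hg j => by
      rw [act_fE, conj_pow_sub_one, ← (hcomm g hg).eq, mul_inv_cancel_right])
    (fun g hg => ⟨fun j => cf v co 1 (ρ (g * s * g⁻¹) - 1) 0 ^ l j, by
      rw [prod_pow_eq_pow_sum, hsum, ZMod.pow_card_sub_one_eq_one (h.lam_ne_zero hg)], fun j => by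
      rw [act_fE, conj_pow_sub_one, ← map_smul, ← map_sub]
      exact FilE_anti (by omega) (fE_mem (W := W) (h.lam_pow hg (l j)))⟩)
    (d := fun j => ⟨v a, co (a + l j), 0, h.reg.v_mem a,
      fun w hw => hw _ (by have := hl j; omega)⟩)
    (fun j f hf => hf.2 _ a (a + l j + 1) (h.reg.v_mem a) (fun w hw => hw _ (by omega))
      (by omega))
    (fun j => by
      change cf v co (l j) ((ρ s - 1) ^ l j) a ≠ 0
      rw [h.reg.cf_pow_N (by have := hl j; omega)]
      exact one_ne_zero)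
    (j₀ := none) (ρ := b - a) (by
      rw [hsum', sum_const, card_erase_of_mem (mem_univ _), ← hε]
      simp only [card_univ, Fintype.card_option, Fintype.card_fin, Nat.add_sub_cancel, smul_eq_mul]
      rw [mul_left_comm]
      omega)
  exact u₄ (eq_zero_of_irr h.reg h.reg.ex_N hirr u₁ u₂ k₄ u₃)

end Core

end Cfsg.Agent.MC
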