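import Cfsg.Agent.Lib.Ess.Wt

/-!
Blackburn's theorem on the two-step centralizers of a `p`-group of maximal class.
-/

set_option autoImplicit false
set_option linter.style.haveILetI false
set_option linter.unusedVariables false
set_option linter.unusedSectionVars false

namespace Cfsg.Agent.Ess

open Subgroup Cfsg.Agent.Fus Cfsg.Agent.TwoGrp
open scoped commutatorElement

universe u

variable {G : Type u} [Group G] {p n : ℕ} {K : Subgroup G} {x : G}

theorem exists_not_mem_two {A B : Subgroup G} (hA : A ≠ ⊤) (hB : B ≠ ⊤) : ∃ g, g ∉ A ∧ g ∉ B := by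
  obtain ⟨a, -, ha⟩ := SetLike.exists_of_lt (lt_top_iff_ne_top.2 hA)
  obtain ⟨b, -, hb⟩ := SetLike.exists_of_lt (lt_top_iff_ne_top.2 hB)
  by_cases h₁ : a ∈ B
  · by_cases h₂ : b ∈ A
    · exact ⟨a * b, fun e => ha ((A.mul_mem_cancel_right h₂).1 e),
        fun e => hb ((B.mul_mem_cancel_left h₁).1 e)⟩
    · exact ⟨b, h₂, hb⟩
  · exact ⟨a, ha, h₁⟩

theorem tsr_le_lcs (K : Subgroup G) (i : ℕ) : tsr K i ≤ lcs G i := by
  cases i with
  | zero => exact le_top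
  | succ i => exact le_rfl

theorem comm_tsr_le (K : Subgroup G) (i j : ℕ) : ⁅tsr K i, tsr K j⁆ ≤ lcs G (i + j + 1) :=
  (commutator_mono (tsr_le_lcs K i) (tsr_le_lcs K j)).trans (commutator_lcs i j)

theorem theta_eq {s a b : G} (h₁ : Commute ⁅a, b⁆ ⁅s, b⁆) (h₂ : Commute ⁅⁅s, a⁆, b⁆ ⁅s, b⁆)
    (h₃ : Commute ⁅a, ⁅s, b⁆⁆ ⁅s, a⁆) (h₄ : Commute ⁅a, b⁆ ⁅s, a⁆)
    (h₅ : Commute ⁅a, b⁆ (⁅⁅s, a⁆, ⁅s, b⁆⁆ * ⁅⁅s, a⁆, b⁆)) :
    ⁅s, ⁅a, b⁆⁆ = ⁅a, ⁅s, b⁆⁆ * ⁅⁅s, a⁆, ⁅s, b⁆⁆ * ⁅⁅s, a⁆, b⁆ := by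
  have e : ⁅s, ⁅a, b⁆⁆ * ⁅a, b⁆ = ⁅⁅s, a⁆ * a, ⁅s, b⁆ * b⁆ := by
    simp only [commutatorElement_def]; group
  generalize ⁅s, a⁆ = a' at *
  generalize ⁅s, b⁆ = b' at *
  have e' : ⁅a' * a, b' * b⁆ = a' * (⁅a, b'⁆ * (b' * ⁅a, b⁆ * b'⁻¹)) * a'⁻¹ *
      (⁅a', b'⁆ * (b' * ⁅a', b⁆ * b'⁻¹)) := by
    simp only [commutatorElement_def]; group
  rw [← h₁.eq, ← h₂.eq, mul_inv_cancel_right, mul_inv_cancel_right,
    ← (h₃.mul_left h₄).eq, mul_inv_cancel_right, mul_assoc, h₅.eq, ← mul_assoc, ← e] at e'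
  rw [mul_right_cancel e', mul_assoc]

/-- The iterated commutators with `s`. -/
def ys (s y : G) : ℕ → G
  | 0 => y
  | j + 1 => ⁅s, ys s y j⁆

namespace TwoStep

variable [hp : Fact p.Prime] [Finite G] (hK : TwoStep p K) (h : MaxCl p n G)
include hK h

theorem comm_le_of_gen {i j : ℕ} {y z : G} (hy : y ∈ tsr K i) (hy' : y ∉ tsr K (i + 1))
    (hz : z ∈ tsr K j) (hz' : z ∉ tsr K (j + 1)) (hc : ⁅y, z⁆ ∈ lcs G (i + j + 2)) :
    ⁅tsr K i, tsr K j⁆ ≤ lcs G (i + j + 2) := by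
  have e := sup_eq_of_relIndex_prime' (hK.anti (Nat.le_succ _)) (hK.relIndex_dvd h i) hy hy'
  have e' := sup_eq_of_relIndex_prime' (hK.anti (Nat.le_succ _)) (hK.relIndex_dvd h j) hz hz'
  refine commutator_le_of_sup' e ((comm_tsr_le K _ _).trans (lcs_anti (by omega))) fun w hw => ?_
  refine comm_mem_symm (mem_cEl.1 ((e'.ge.trans (sup_le (zpowers_le.2 (mem_cEl.2
    (comm_mem_symm hc))) fun g hg => mem_cEl.2 ?_)) hw))
  exact lcs_anti (by omega) (comm_tsr_le K _ _ (commutator_mem_commutator hg hy))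

theorem card_centralizer_le' (hx : x ∉ K) (hu : ∀ j, j + 3 ≤ n → ∀ y ∈ tsr K j,
    y ∉ tsr K (j + 1) → ⁅y, x⁆ ∉ lcs G (j + 2)) : Nat.card (centralizer {x}) ≤ p ^ 2 := by
  have h3 := h.le
  have key : ∀ j, j + 2 ≤ n → K ⊓ centralizer {x} ≤ tsr K j := fun j hj => by
    induction j with
    | zero => exact inf_le_left
    | succ j ih =>
      intro y hy
      by_contra hy'
      exact hu j hj y (ih (by omega) hy) hy' (by
        rw [Commute.commutator_eq (mem_centralizer_singleton_iff.1 hy.2)]; exact one_mem _)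
  have h₁ := Subgroup.card_le_of_le (key (n - 2) (by omega))
  rw [tsr_of_pos K (by omega), ← h.center_eq, h.card_center] at h₁
  have h₂ : K.relIndex (centralizer {x}) ≤ p := hK.idx ▸ relIndex_top_right K ▸
    relIndex_le_of_le_right le_top index_ne_zero_of_finite
  exact (card_le_mul_of_relIndex_le h₂).trans (sq p ▸ Nat.mul_le_mul_left _ h₁)

/-- An element outside the `j`-th two-step centralizer. -/
theorem comm_not_mem_of {j : ℕ} (hx : ¬ ∀ y ∈ tsr K j, ⁅x, y⁆ ∈ lcs G (j + 2)) {y : G}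
    (hy : y ∈ tsr K j) (hy' : y ∉ tsr K (j + 1)) : ⁅y, x⁆ ∉ lcs G (j + 2) := fun hc => by
  have e := sup_eq_of_relIndex_prime' (hK.anti (Nat.le_succ _)) (hK.relIndex_dvd h j) hy hy'
  exact hx fun w hw => comm_mem_symm (mem_cEl.1 ((e.ge.trans (sup_le (zpowers_le.2
    (mem_cEl.2 hc)) fun g hg => mem_cEl.2 (comm_mem_lcs hg x))) hw))

section Step

variable {m : ℕ} (hn : n = m + 4) (hm : 3 ≤ m) (hpos : Pos K m)
  (hne : ¬ ⁅K, lcs G m⁆ ≤ lcs G (m + 2))
include hn hm hpos hne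

theorem nonvan (i j : ℕ) (hij : i + j = m) : ¬ ⁅tsr K i, tsr K j⁆ ≤ lcs G (m + 2) := by
  induction i generalizing j with
  | zero =>
    rw [zero_add] at hij
    subst hij
    rwa [tsr_of_pos K (i := j) (by omega)]
  | succ i ih =>
    intro hc
    refine ih (j + 1) (by omega) ?_
    rw [commutator_comm, hK.tsr_succ j]
    refine three_sub ?_ ?_
    · rwa [commutator_comm ⊤, ← hK.tsr_succ]
    · refine (commutator_mono (hK.comm_tsr' h hpos (by omega)) le_rfl).trans ?_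
      rw [show m + 2 = i + j + 2 + 1 by omega]
      exact le_rfl

theorem cent_second {g : G} (hg : g ∈ K) {w : G} (hw : w ∈ lcs G (m + 1)) : Commute w g := by
  have hb : lcs G (m + 3) = ⊥ := h.eq_bot (by omega)
  have h₁ : ⁅⁅lcs G 1, lcs G (m - 1)⁆, K⁆ ≤ ⊥ := by
    refine three_sub ?_ ?_
    · rw [commutator_comm _ K, ← hb]
      exact (commutator_mono (hpos _ (by omega) (by omega)) le_rfl).trans
        ((commutator_lcs _ _).trans (lcs_anti (by omega)))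
    · rw [← hb]
      exact (commutator_mono hK.comm le_rfl).trans
        ((commutator_lcs _ _).trans (lcs_anti (by omega)))
  have h₂ := hK.nonvan h hn hm hpos hne 1 (m - 1) (by omega)
  rw [tsr_of_pos K le_rfl, tsr_of_pos K (by omega)] at h₂
  obtain ⟨u, hu, hu'⟩ := SetLike.not_le_iff_exists.1 h₂
  have hu₁ : u ∈ lcs G (m + 1) := lcs_anti (by omega) (commutator_lcs _ _ hu)
  have e := sup_eq_of_relIndex_prime' (lcs_anti (Nat.le_succ _)) (h.relIndex_dvd (by omega))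
    hu₁ hu'
  refine commute_of_mem_zpowers_sup ?_ (fun z hz => ?_) (e.ge hw)
  · exact commutatorElement_eq_one_iff_commute.1 (h₁ (commutator_mem_commutator hu hg))
  · refine commutatorElement_eq_one_iff_commute.1 ?_
    rw [← mem_bot, ← hb]
    exact comm_mem_lcs hz g

theorem exists_good : ∃ s, s ∉ K ∧ ∀ j, j + 3 ≤ n → ∀ y ∈ tsr K j,
    y ∉ tsr K (j + 1) → ⁅y, s⁆ ∉ lcs G (j + 2) := by
  obtain ⟨y₀, hy₀, hy₀'⟩ := SetLike.exists_of_lt (hK.tsr_lt h (j := m) (by omega))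
  have h₁ : cEl (lcs G (m + 2)) y₀ ≠ ⊤ := fun e => by
    refine hK.nonvan h hn hm hpos hne 0 m (zero_add m) ?_
    obtain ⟨k, hk, hk'⟩ := SetLike.exists_of_lt (hK.tsr_lt h (j := 0) (by omega))
    have := hK.comm_le_of_gen h hk hk' hy₀ hy₀' (by
      rw [zero_add]; exact mem_cEl.1 (e.ge (mem_top k)))
    rwa [zero_add] at this
  have h₂ : K ≠ ⊤ := fun e => hp.out.ne_one (hK.idx ▸ index_eq_one.2 e)
  obtain ⟨s, hs, hs'⟩ := exists_not_mem_two h₂ h₁
  refine ⟨s, hs, fun j hj y hy hy' => ?_⟩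
  rcases lt_trichotomy j m with hj' | rfl | hj'
  · exact hK.comm_not_mem' h hpos hs hj' hj hy hy'
  · exact hK.comm_not_mem_of h (fun e => hs' (mem_cEl.2 (e y₀ hy₀))) hy hy'
  · obtain rfl : j = m + 1 := by omega
    intro hc
    rw [h.eq_bot (by omega), mem_bot, commutatorElement_eq_one_iff_commute] at hc
    refine hy' ?_
    rw [tsr_of_pos K (by omega), show m + 1 + 1 = n - 2 by omega, ← h.center_eq,
      Subgroup.mem_center_iff]
    intro g
    exact (commute_of_mem_zpowers_sup hc.symm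
      (fun k hk => (hK.cent_second h hn hm hpos hne hk hy).symm) ((hK.sup_eq hs).ge trivial)).eq

theorem step_false (h2 : p ≠ 2) : False := by
  obtain ⟨s, hs, hu⟩ := hK.exists_good h hn hm hpos hne
  have hsu := hK.card_centralizer_le' h hs hu
  obtain ⟨y₀, hy₀, hy₀'⟩ := SetLike.exists_of_lt (hK.tsr_lt h (j := 0) (by omega))
  have hy : ∀ j, ys s y₀ j ∈ tsr K j := fun j => by
    induction j with
    | zero => exact hy₀
    | succ j ih => exact comm_mem_symm ((hK.tsr_succ j).ge (commutator_mem_commutator ih trivial))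
  have hy' : ∀ j, j + 2 ≤ n → ys s y₀ j ∉ tsr K (j + 1) := fun j hj => by
    induction j with
    | zero => exact hy₀'
    | succ j ih => exact fun e => hu j hj _ (hy j) (ih (by omega)) (comm_mem_symm e)
  have hyK : ∀ j, ys s y₀ j ∈ K := fun j => hK.anti (Nat.zero_le j) (hy j)
  have hb : lcs G (m + 3) = ⊥ := h.eq_bot (by omega)
  have hZ : ∀ z ∈ lcs G (m + 2), ∀ g, Commute z g := fun z hz g =>
    commutatorElement_eq_one_iff_commute.1 (by rw [← mem_bot, ← hb]; exact comm_mem_lcs hz g)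
  have hcs := @TwoStep.cent_second _ _ _ _ _ _ _ hK h _ hn hm hpos hne
  have hc₁ : ∀ i j, m ≤ i + j + 1 → ⁅ys s y₀ i, ys s y₀ j⁆ ∈ lcs G (m + 1) := fun i j hij => by
    by_cases e : i + j < m
    · exact lcs_anti (by omega) (hK.comm_tsr' h hpos e (commutator_mem_commutator (hy i) (hy j)))
    · exact lcs_anti (by omega) (comm_tsr_le K _ _ (commutator_mem_commutator (hy i) (hy j)))
  have hc₂ : ∀ i j k, k ≤ i + j + 1 → ⁅ys s y₀ i, ys s y₀ j⁆ ∈ lcs G k := fun i j k hij =>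
    lcs_anti hij (comm_tsr_le K _ _ (commutator_mem_commutator (hy i) (hy j)))
  have hc₃ : ∀ i j, i + j = m → ⁅ys s y₀ i, ys s y₀ j⁆ ∉ lcs G (m + 2) := fun i j hij e =>
    hK.nonvan h hn hm hpos hne i j hij (hij ▸ hK.comm_le_of_gen h (hy i) (hy' i (by omega))
      (hy j) (hy' j (by omega)) (hij ▸ e))
  have hth : ∀ i j, m ≤ i + j + 1 → ⁅s, ⁅ys s y₀ i, ys s y₀ j⁆⁆ =
      ⁅ys s y₀ i, ys s y₀ (j + 1)⁆ * ⁅ys s y₀ (i + 1), ys s y₀ (j + 1)⁆ *
        ⁅ys s y₀ (i + 1), ys s y₀ j⁆ := fun i j hij =>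
    theta_eq (hcs (hyK (j + 1)) (hc₁ i j hij)) (hcs (hyK (j + 1)) (hc₁ (i + 1) j (by omega)))
      (hcs (hyK (i + 1)) (hc₁ i (j + 1) (by omega))) (hcs (hyK (i + 1)) (hc₁ i j hij))
      (hcs (mul_mem (comm_mem_of_mem (hyK (i + 1)) (hyK (j + 1)))
        (comm_mem_of_mem (hyK (i + 1)) (hyK j))) (hc₁ i j hij))
  have hθ : ∀ w ∈ lcs G (m + 1), ⁅s, w⁆ ∈ lcs G (m + 2) := fun w hw =>
    comm_mem_symm (comm_mem_lcs hw s)
  have hmul : ∀ u, ∀ w ∈ lcs G (m + 1), ⁅s, u * w⁆ = ⁅s, u⁆ * ⁅s, w⁆ := fun u w hw => by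
    have : ⁅s, u * w⁆ = ⁅s, u⁆ * (u * ⁅s, w⁆ * u⁻¹) := by
      simp only [commutatorElement_def]; group
    rw [this, ← (hZ _ (hθ w hw) u).eq, mul_inv_cancel_right]
  have hA : ∀ i j, i + j + 1 = m → ⁅s, ⁅ys s y₀ i, ys s y₀ (j + 1)⁆⁆ *
      ⁅s, ⁅ys s y₀ (i + 1), ys s y₀ j⁆⁆ = 1 := fun i j hij => by
    have e := congrArg (fun w => ⁅s, w⁆) (hth i j (by omega))
    rw [hmul _ _ (hc₁ _ _ (by omega)), hmul _ _ (hc₁ _ _ (by omega)),
      (hZ _ (hc₂ (i + 1) (j + 1) _ (by omega)) s).symm.commutator_eq,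
      (hZ _ (hθ _ (hc₁ _ _ (by omega))) s).symm.commutator_eq, mul_one] at e
    exact e.symm
  have hB : ∀ i j, i + j = m → ⁅s, ⁅ys s y₀ i, ys s y₀ j⁆⁆ =
      ⁅ys s y₀ i, ys s y₀ (j + 1)⁆ * ⁅ys s y₀ (i + 1), ys s y₀ j⁆ := fun i j hij => by
    have e := hc₂ (i + 1) (j + 1) (m + 3) (by omega)
    rw [hb, mem_bot] at e
    rw [hth i j (by omega), e, mul_one]
  have hC : ⁅ys s y₀ (m + 1), ys s y₀ 0⁆ = 1 := (hcs (hyK 0) (hy (m + 1))).commutator_eq
  set ζ := ⁅s, ⁅ys s y₀ 0, ys s y₀ m⁆⁆ with hζ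
  have hP : ∀ i j, i + j = m → ⁅s, ⁅ys s y₀ i, ys s y₀ j⁆⁆ = ζ ^ ((-1 : ℤ) ^ i) ∧
      ⁅ys s y₀ i, ys s y₀ (j + 1)⁆ = ζ ^ (-(-1 : ℤ) ^ i * i) := fun i => by
    induction i with
    | zero =>
      intro j hj
      rw [zero_add] at hj
      subst hj
      exact ⟨by simp [hζ], by simpa using (hcs (hyK 0) (hy (j + 1))).symm.commutator_eq⟩
    | succ i ih =>
      intro j hj
      obtain ⟨h₁, h₂⟩ := ih (j + 1) (by omega)
      have h₃ := hA i j (by omega)
      have h₄ := hB i (j + 1) (by omega)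
      rw [h₁] at h₃ h₄
      rw [h₂] at h₄
      refine ⟨?_, ?_⟩
      · rw [eq_inv_of_mul_eq_one_right h₃, ← zpow_neg]; congr 1; ring
      · rw [eq_inv_mul_of_mul_eq h₄.symm, ← zpow_neg, ← zpow_add]; congr 1; push_cast; ring
  obtain ⟨h₁, h₂⟩ := hP m 0 rfl
  have h₃ := hB m 0 rfl
  rw [h₁, h₂, hC, mul_one] at h₃
  have h₄ : ζ ^ ((-1 : ℤ) ^ m * (m + 1 : ℕ)) = 1 := by
    rw [show (-1 : ℤ) ^ m * (m + 1 : ℕ) = (-1) ^ m + -(-(-1 : ℤ) ^ m * m) by push_cast; ring,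
      zpow_add, h₃, zpow_neg, mul_inv_cancel]
  have hζ1 : ζ ≠ 1 := fun e => hu (m + 1) (by omega) _ (hc₁ 0 m (by omega))
    (hc₃ 0 m (zero_add m)) (comm_mem_symm (by rw [← hζ, e]; exact one_mem _))
  have hζp : orderOf ζ = p := orderOf_eq_prime (by
    have := hK.pow_mem_tsr h (m + 2) ζ (hθ _ (hc₁ 0 m (by omega)))
    rwa [tsr_of_pos K (by omega), hb, mem_bot] at this) hζ1
  have h₅ : p ∣ m + 1 := by
    have := orderOf_dvd_iff_zpow_eq_one.2 h₄
    rw [hζp] at this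
    have h₆ : (p : ℤ) ∣ (m + 1 : ℕ) := by
      rcases neg_one_pow_eq_or ℤ m with e | e <;> rw [e] at this
      · rwa [one_mul] at this
      · rwa [neg_one_mul, dvd_neg] at this
    exact Int.natCast_dvd_natCast.1 h₆
  have hodd : ¬ Even m := fun ⟨r, hr⟩ => hc₃ r r hr.symm (by simp)
  have hp2 := hp.out.two_le
  have h₆ : 2 * p ≤ m + 1 := by
    obtain ⟨k, hk⟩ := h₅
    rcases k with _ | _ | k
    · omega
    · exact absurd (by
        have := hp.out.odd_of_ne_two h2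
        rw [Nat.odd_iff] at this
        rw [Nat.even_iff]; omega) hodd
    · rw [hk]; nlinarith
  obtain ⟨b, hb'⟩ : ∃ b, m = p + b := ⟨m - p, by omega⟩
  have h3 := h.le
  have hx₁ : ys s y₀ 1 ^ p ∈ tsr K p := by
    rw [tsr_of_pos K (by omega)]
    simpa using pow_mem_lcs h.card h3 hsu le_rfl (hy 1)
  have hx₂ : ys s y₀ 1 ^ p ∉ tsr K (p + 1) := by
    rw [tsr_of_pos K (by omega), add_comm p 1]
    exact pow_not_mem_lcs h.card h3 hsu le_rfl (by omega) (hy 1) (hy' 1 (by omega))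
  have hz : ⁅(ys s y₀ 1)⁻¹, ys s y₀ b⁆ ∈ lcs G (b + 3) := lcs_anti (by omega)
    (hK.comm_tsr' h hpos (i := 1) (j := b) (by omega)
      (commutator_mem_commutator (inv_mem (hy 1)) (hy b)))
  have h₇ := filt_lcs.pow_formula hp.out (k := b + 3) (by omega) (x := ys s y₀ 1) trivial hz
    fun i hi w hw => lcs_anti (by omega) (pow_mem_lcs h.card h3 hsu (by omega) hw)
  have h₈ : ((ys s y₀ 1) ^ p)⁻¹ * (ys s y₀ 1 * ⁅(ys s y₀ 1)⁻¹, ys s y₀ b⁆) ^ p ∈ lcs G (m + 2) := by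
    have := mul_mem (mul_mem
      (lcs_anti (show m + 2 ≤ _ by omega) (pow_mem_lcs h.card h3 hsu (by omega) hz))
      (lcs_anti (show m + 2 ≤ _ by omega) (itc_mem (x := ys s y₀ 1) hz (p - 1))))
      (lcs_anti (show m + 2 ≤ _ by omega) h₇)
    rwa [mul_inv_cancel_left] at this
  rw [← inv_mul_conj_eq, mul_inv_cancel_left, conj_pow, inv_mul_conj_eq] at h₈
  refine hK.nonvan h hn hm hpos hne p b hb'.symm ?_
  rw [hb'] at h₈ ⊢
  exact hK.comm_le_of_gen h (inv_mem hx₁) (by simpa using hx₂) (hy b) (hy' b (by omega)) h₈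

end Step

end TwoStep

theorem map_lcs {G' : Type u} [Group G'] {f : G →* G'} (hf : Function.Surjective f) (i : ℕ) :
    (lcs G i).map f = lcs G' i := by
  rw [map_lowerCentralSeries, map_top_of_surjective _ hf]

theorem MaxCl.quot [hp : Fact p.Prime] [Finite G] (h : MaxCl p (n + 1) G) (h3 : 3 ≤ n) :
    MaxCl p n (G ⧸ lcs G (n - 1)) := by
  refine ⟨?_, h3, fun e => ?_⟩
  · rw [← index_eq_card, h.index_lcs (by omega) (by omega), Nat.sub_add_cancel (by omega)]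
  · rw [← map_lcs (QuotientGroup.mk'_surjective _), Subgroup.map_eq_bot_iff,
      QuotientGroup.ker_mk', show n - 1 = n - 2 + 1 by omega] at e
    exact (lcs_lt h.isPGroup (h.ne_bot (j := n - 2) (by omega))).not_ge e

theorem TwoStep.quot (hK : TwoStep p K) {N : Subgroup G} [N.Normal] (hN : N ≤ K) :
    TwoStep p (K.map (QuotientGroup.mk' N)) := by
  refine ⟨?_, ?_, ?_⟩
  · rw [index_map_eq _ (QuotientGroup.mk'_surjective N) (by rwa [QuotientGroup.ker_mk']), hK.idx]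
  · rw [← map_lcs (QuotientGroup.mk'_surjective _)]; exact map_mono hK.le
  · rw [← map_lcs (QuotientGroup.mk'_surjective _), ← map_lcs (QuotientGroup.mk'_surjective _),
      ← map_commutator]
    exact map_mono hK.comm

/-- **Blackburn**: all two-step centralizers but possibly the last one agree. -/
theorem TwoStep.pos [hp : Fact p.Prime] (h2 : p ≠ 2) (n : ℕ) : ∀ {G : Type u} [Group G] [Finite G]
    {K : Subgroup G}, TwoStep p K → MaxCl p n G → Pos K (n - 3) := by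
  induction n with
  | zero => exact fun hK h => (hK.pos_init h).mono (by omega)
  | succ n ih =>
    intro G _ _ K hK h
    by_cases hn : n ≤ 5
    · exact (hK.pos_init h).mono (by omega)
    have h₁ := ih (hK.quot (N := lcs G (n - 1)) ((lcs_anti (by omega)).trans hK.le))
      (h.quot (by omega))
    have h₂ : Pos K (n - 3) := fun i hi hi' => by
      have := h₁ i hi hi'
      rw [← map_lcs (QuotientGroup.mk'_surjective _), ← map_lcs (QuotientGroup.mk'_surjective _),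
        ← map_commutator, Subgroup.map_le_map_iff, QuotientGroup.ker_mk',
        sup_eq_left.2 (lcs_anti (by omega))] at this
      exact this
    intro i hi hi'
    by_cases e : i < n - 3
    · exact h₂ i hi e
    · obtain rfl : i = n - 3 := by omega
      by_contra hne
      exact hK.step_false h (by omega) (by omega) h₂ hne h2

namespace TwoStep

variable [hp : Fact p.Prime] [Finite G] (hK : TwoStep p K) (h : MaxCl p n G) (h2 : p ≠ 2)
  (h4 : 4 ≤ n)
include hK h h2 h4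

theorem comm_not_mem_unif (hx : x ∉ K) (hx' : x ∉ centralizer (lcs G (n - 3) : Set G)) {j : ℕ}
    (hj : j + 3 ≤ n) {y : G} (hy : y ∈ tsr K j) (hy' : y ∉ tsr K (j + 1)) :
    ⁅y, x⁆ ∉ lcs G (j + 2) := by
  by_cases e : j < n - 3
  · exact hK.comm_not_mem' h (hK.pos h2 n h) hx e hj hy hy'
  · obtain rfl : j = n - 3 := by omega
    refine hK.comm_not_mem_of h (fun hc => hx' fun w hw => ?_) hy hy'
    have := hc w (by rwa [tsr_of_pos K (by omega)])
    rw [h.eq_bot (by omega), mem_bot, commutatorElement_eq_one_iff_commute] at this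
    exact this.eq.symm

/-- Elements outside the two two-step centralizers are uniform. -/
theorem unif (hx : x ∉ K) (hx' : x ∉ centralizer (lcs G (n - 3) : Set G)) :
    Nat.card (centralizer {x}) ≤ p ^ 2 :=
  hK.card_centralizer_le' h hx fun j hj y hy hy' => hK.comm_not_mem_unif h h2 h4 hx hx' hj hy hy'

theorem exists_unif : ∃ x, x ∉ K ∧ x ∉ centralizer (lcs G (n - 3) : Set G) := by
  refine exists_not_mem_two (fun e => hp.out.ne_one (hK.idx ▸ index_eq_one.2 e)) fun e => ?_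
  rw [centralizer_eq_top_iff_subset, h.center_eq, show n - 2 = n - 3 + 1 by omega] at e
  exact (lcs_lt h.isPGroup (h.ne_bot (j := n - 3) (by omega))).not_ge e

end TwoStep

end Cfsg.Agent.Ess
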