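import Cfsg.Agent.Lib.MC.Win

/-! Linear groups whose Sylow subgroup contains a regular unipotent element. -/

set_option autoImplicit false
set_option linter.style.haveILetI false
set_option linter.unusedVariables false
set_option linter.unusedSectionVars false

namespace Cfsg.Agent.MC

open Finset Module

section Unip

variable {F : Type*} [Field F] {V : Type*} [AddCommGroup V] [Module F V]
  {N A B : End F V} {d : ℕ} {v : ℕ → V} {co : ℕ → V →ₗ[F] F} {a r : ℕ}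

theorem mul_sub_one_eq {R : Type*} [Ring R] (A B : R) :
    A * B - 1 = (A - 1) * (B - 1) + (A - 1) + (B - 1) := by noncomm_ring

theorem Dg.unip_mul (hA : Dg co r (A - 1)) (hB : Dg co r (B - 1)) : Dg co r (A * B - 1) := by
  rw [mul_sub_one_eq]
  exact (((hA.mul hB).mono (by omega)).add hA).add hB

theorem Reg.cf_unip_mul (h : Reg N d v co) (hr : 1 ≤ r) (hA : Dg co r (A - 1))
    (hB : Dg co r (B - 1)) :
    cf v co r (A * B - 1) a = cf v co r (A - 1) a + cf v co r (B - 1) a := by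
  rw [mul_sub_one_eq, cf_add, cf_add, h.cf_eq_zero ((hA.mul hB).mono (by omega)), zero_add]

theorem Dg.unip_pow (hA : Dg co r (A - 1)) (m : ℕ) : Dg co r (A ^ m - 1) := by
  induction m with
  | zero => rw [pow_zero, sub_self]; exact dg_zero
  | succ m ih => rw [pow_succ]; exact ih.unip_mul hA

theorem Reg.cf_unip_pow (h : Reg N d v co) (hr : 1 ≤ r) (hA : Dg co r (A - 1)) (m : ℕ) :
    cf v co r (A ^ m - 1) a = m * cf v co r (A - 1) a := by
  induction m with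
  | zero => simp [cf]
  | succ m ih => rw [pow_succ, h.cf_unip_mul hr (hA.unip_pow m) hA, ih]; push_cast; ring

theorem Reg.cf_zero_pow (h : Reg N d v co) (hA : Dg co 0 A) (ha : a < d) (m : ℕ) :
    cf v co 0 (A ^ m) a = cf v co 0 A a ^ m := by
  induction m with
  | zero => rw [pow_zero, pow_zero, h.cf_one ha]
  | succ m ih =>
    rw [pow_succ, h.cf_mul_zero (by simpa using hA.pow m) hA, ih, pow_succ]

theorem Reg.cf_pow_const (h : Reg N d v co) (hA : Dg co 1 A) {c : F}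
    (hc : ∀ a, a + 1 < d → cf v co 1 A a = c) (m : ℕ) (ha : a + m < d) :
    cf v co m (A ^ m) a = c ^ m := by
  induction m generalizing a with
  | zero => rw [pow_zero, pow_zero, h.cf_one (a := a) ha]
  | succ m ih =>
    rw [pow_succ, h.cf_mul (by simpa using hA.pow m) hA, ih (by omega), hc a (by omega), pow_succ]

theorem pow_char_sub_one {p : ℕ} [hp : Fact p.Prime] [CharP F p] {R : Type*} [Ring R]
    [Algebra F R] (x : R) : x ^ p - 1 = (x - 1) ^ p := by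
  rw [← mul_geom_sum, geom_eq_pow (F := F), ← pow_succ', Nat.sub_add_cancel hp.out.one_le]

end Unip

variable {p : ℕ} [hp : Fact p.Prime] {X : Type*} [Group X] {V : Type*} [AddCommGroup V]
  [Module (ZMod p) V]

/-- The basic configuration. -/
structure Core (ρ : X →* End (ZMod p) V) (d : ℕ) (v : ℕ → V) (co : ℕ → V →ₗ[ZMod p] ZMod p)
    (P P₁ : Subgroup X) (s t : X) : Prop where
  inj : Function.Injective ρ
  reg : Reg (ρ s - 1) d v co
  dp : d < p
  le : P₁ ≤ P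
  sP : s ∈ P
  pg : IsPGroup p P
  idx : ¬ p ∣ P.index
  dg2 : ∀ x ∈ P₁, Dg co 2 (ρ x - 1)
  gen : ∀ x ∈ P, ∃ c : ℕ, x * (s ^ c)⁻¹ ∈ P₁
  tP : t ∈ P₁
  t1 : t ≠ 1
  tc : ∀ x ∈ P, Commute t x

/-- The subgroup of elements of a finite group closed under products. -/
def subOf [Finite X] (Q : X → Prop) (h₁ : Q 1) (h₂ : ∀ x y, Q x → Q y → Q (x * y)) :
    Subgroup X where
  carrier := {x | Q x}
  one_mem' := h₁
  mul_mem' := h₂ _ _
  inv_mem' {x} hx := by
    have e : x⁻¹ = x ^ (orderOf x - 1) := by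
      rw [eq_comm, eq_inv_iff_mul_eq_one, ← pow_succ, Nat.sub_add_cancel (orderOf_pos x),
        pow_orderOf_eq_one]
    rw [e]
    induction (orderOf x - 1) with
    | zero => rw [pow_zero]; exact h₁
    | succ m ih => rw [pow_succ]; exact h₂ _ _ ih hx

/-- The stabiliser of the flag. -/
def St [Finite X] (ρ : X →* End (ZMod p) V) (co : ℕ → V →ₗ[ZMod p] ZMod p) : Subgroup X :=
  subOf (fun g => Dg co 0 (ρ g)) (by rw [map_one]; exact dg_one)
    fun x y hx hy => by rw [map_mul]; exact hx.mul hy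

/-- Elements of degree at least `r`. -/
def Un [Finite X] (ρ : X →* End (ZMod p) V) (co : ℕ → V →ₗ[ZMod p] ZMod p) (r : ℕ) :
    Subgroup X :=
  subOf (fun g => Dg co r (ρ g - 1)) (by rw [map_one, sub_self]; exact dg_zero)
    fun x y hx hy => by rw [map_mul]; exact hx.unip_mul hy

variable [Finite X] {ρ : X →* End (ZMod p) V} {d : ℕ} {v : ℕ → V}
  {co : ℕ → V →ₗ[ZMod p] ZMod p} {P P₁ : Subgroup X} {s t x g : X} {r : ℕ}

theorem mem_St : g ∈ St ρ co ↔ Dg co 0 (ρ g) := Iff.rfl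

theorem mem_Un : g ∈ Un ρ co r ↔ Dg co r (ρ g - 1) := Iff.rfl

theorem conj_sub_one (g x : X) : ρ (g * x * g⁻¹) - 1 = ρ g * (ρ x - 1) * ρ g⁻¹ := by
  rw [mul_sub, sub_mul, mul_one, ← map_mul ρ g g⁻¹, mul_inv_cancel, map_one, map_mul, map_mul]

theorem conj_mem_Un (hg : g ∈ St ρ co) (hx : x ∈ Un ρ co r) : g * x * g⁻¹ ∈ Un ρ co r := by
  rw [mem_Un, conj_sub_one]
  exact (Dg.zero_mul hg hx).mul_zero (inv_mem hg)

namespace Core

variable (h : Core ρ d v co P P₁ s t)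
include h

theorem eq_one (e : ρ x - 1 = 0) : x = 1 := h.inj (by rw [map_one, ← sub_eq_zero, e])

theorem pow_eq_one (hx : x ∈ Un ρ co 1) : x ^ p = 1 := h.eq_one (by
  rw [map_pow, pow_char_sub_one (F := ZMod p)]
  exact h.reg.eq_zero_of_dg (Dg.pow hx p) (by have := h.dp; omega))

theorem s_mem : s ∈ Un ρ co 1 := h.reg.dg_N

theorem exists_lam (hx : x ∈ P) : x ∈ Un ρ co 1 ∧ ∃ c : ZMod p,
    (∀ a, a + 1 < d → cf v co 1 (ρ x - 1) a = c) ∧ (c = 0 → x ∈ P₁) := by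
  obtain ⟨c, hc⟩ := h.gen x hx
  have h1 : Dg co 1 (ρ (x * (s ^ c)⁻¹) - 1) := (h.dg2 _ hc).mono one_le_two
  have h2 : Dg co 1 (ρ (s ^ c) - 1) := pow_mem h.s_mem c
  have e : ρ x = ρ (x * (s ^ c)⁻¹) * ρ (s ^ c) := by rw [← map_mul, inv_mul_cancel_right]
  refine ⟨by rw [mem_Un, e]; exact h1.unip_mul h2, c, fun a ha => ?_, fun e0 => ?_⟩
  · rw [e, h.reg.cf_unip_mul le_rfl h1 h2, h.reg.cf_eq_zero (h.dg2 _ hc), map_pow,
      h.reg.cf_unip_pow le_rfl h.reg.dg_N, h.reg.cf_N ha, zero_add, mul_one]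
  · obtain ⟨m, rfl⟩ := (ZMod.natCast_eq_zero_iff c p).1 e0
    rwa [pow_mul, h.pow_eq_one h.s_mem, one_pow, inv_one, mul_one] at hc

theorem le_Un : P ≤ Un ρ co 1 := fun x hx => (h.exists_lam hx).1

theorem le_St : P ≤ St ρ co := fun x hx => Dg.of_sub_one (h.le_Un hx)

theorem ex (hx : x ∈ P) (hx' : x ∉ P₁) : Ex d v co 1 (ρ x - 1) := by
  obtain ⟨h₁, c, h₂, h₃⟩ := h.exists_lam hx
  exact ⟨h₁, fun a ha => h₂ a ha ▸ fun e => hx' (h₃ e)⟩

theorem two_lt : 2 < d := by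
  by_contra e
  exact h.t1 (h.eq_one (h.reg.eq_zero_of_dg (h.dg2 t h.tP) (by omega)))

theorem mem_P₁ (hx : x ∈ P) (hx' : Dg co 2 (ρ x - 1)) : x ∈ P₁ := by
  by_contra e
  exact (h.ex hx e).2 0 (by have := h.two_lt; omega) (h.reg.cf_eq_zero hx')

theorem s_not_mem : s ∉ P₁ := fun e =>
  h.reg.ex_N.2 0 (by have := h.two_lt; omega) (h.reg.cf_eq_zero (h.dg2 s e))

theorem Un_eq : Un ρ co 1 = P := by
  have hU : IsPGroup p (Un ρ co 1) := fun x => ⟨1, Subtype.ext (by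
    rw [pow_one]; exact h.pow_eq_one x.2)⟩
  obtain ⟨n, hn⟩ := hU.index (P.subgroupOf (Un ρ co 1))
  have h1 := Subgroup.relIndex_mul_index h.le_Un
  rcases n with _ | n
  · exact le_antisymm (Subgroup.relIndex_eq_one.1 hn) h.le_Un
  · refine absurd ?_ h.idx
    rw [← h1, Subgroup.relIndex, hn]
    exact (dvd_pow_self p n.succ_ne_zero).mul_right _

theorem conj_mem (hg : g ∈ St ρ co) (hx : x ∈ P) : g * x * g⁻¹ ∈ P :=
  h.Un_eq ▸ conj_mem_Un hg (h.le_Un hx)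

theorem conj_mem₁ (hg : g ∈ St ρ co) (hx : x ∈ P₁) : g * x * g⁻¹ ∈ P₁ :=
  h.mem_P₁ (h.conj_mem hg (h.le hx)) (conj_mem_Un hg (h.dg2 x hx))

theorem mem_of_pow (hg : g ∈ St ρ co) {e : ℕ} (he : g ^ p ^ e = 1) : g ∈ P := by
  rw [← h.Un_eq]
  refine h.reg.dg_succ (Dg.sub hg dg_one) fun a ha => ?_
  have := h.reg.cf_zero_pow (a := a) hg ha (p ^ e)
  rw [← map_pow, he, map_one, ZMod.pow_card_pow] at this
  rw [cf_sub, this, sub_self]

theorem mem_St_of_conj [Module.Finite (ZMod p) V] (hx : x ∈ P) (hx' : x ∉ P₁)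
    (e : g⁻¹ * x * g ∈ P) : g ∈ St ρ co :=
  h.reg.dg_zero_of_inv (h.ex hx hx') (rep_inj ρ g) ((h.le_Un e).mono (Nat.zero_le 1)) (by
    rw [sub_mul, mul_sub, ← map_mul, ← map_mul, one_mul, mul_one, ← mul_assoc, mul_inv_cancel_left])

theorem cf_mul_inv (hg : g ∈ St ρ co) {a : ℕ} (ha : a < d) :
    cf v co 0 (ρ g) a * cf v co 0 (ρ g⁻¹) a = 1 := by
  rw [← h.reg.cf_mul_zero hg (inv_mem hg), ← map_mul, mul_inv_cancel, map_one, h.reg.cf_one ha]

theorem wt_succ (hg : g ∈ St ρ co) {a : ℕ} (ha : a + 1 < d) :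
    cf v co 0 (ρ g) (a + 1) = cf v co 1 (ρ (g * s * g⁻¹) - 1) 0 * cf v co 0 (ρ g) a := by
  obtain ⟨h₁, c, h₂, -⟩ := h.exists_lam (h.conj_mem hg h.sP)
  have e : (ρ (g * s * g⁻¹) - 1) * ρ g = ρ g * (ρ s - 1) := by
    rw [conj_sub_one, mul_assoc, ← map_mul, inv_mul_cancel, map_one, mul_one]
  have k₁ := h.reg.cf_mul_zero h₁ hg (a := a)
  rw [e, h.reg.cf_zero_mul hg h.reg.dg_N, h.reg.cf_N ha, mul_one, h₂ a ha] at k₁
  rw [k₁, h₂ 0 (by omega)]

theorem lam_ne_zero (hg : g ∈ St ρ co) : cf v co 1 (ρ (g * s * g⁻¹) - 1) 0 ≠ 0 := fun e => by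
  have h1 := h.wt_succ hg (a := 0) (by have := h.two_lt; omega)
  have h2 := h.cf_mul_inv hg (a := 0 + 1) (by have := h.two_lt; omega)
  rw [h1, e, zero_mul, zero_mul] at h2
  exact zero_ne_one h2

theorem lam_pow (hg : g ∈ St ρ co) (m : ℕ) :
    Dg co (m + 1) ((ρ (g * s * g⁻¹) - 1) ^ m -
      cf v co 1 (ρ (g * s * g⁻¹) - 1) 0 ^ m • (ρ s - 1) ^ m) := by
  obtain ⟨h₁, c, h₂, -⟩ := h.exists_lam (h.conj_mem hg h.sP)
  refine h.reg.dg_succ (Dg.sub (by simpa using Dg.pow h₁ m) ((h.reg.dg_pow_N m).smul _))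
    fun a ha => ?_
  rw [cf_sub, cf_smul, h.reg.cf_pow_N ha, h.reg.cf_pow_const h₁ h₂ m ha,
    h₂ 0 (by have := h.two_lt; omega), mul_one, sub_self]

theorem exists_k : ∃ k, 2 ≤ k ∧ k < d ∧ Ex d v co k (ρ t - 1) := by
  obtain ⟨k, h₁, h₂⟩ := h.reg.exists_ex (A := ρ t - 1) (fun e => h.t1 (h.eq_one e))
    (((h.tc s h.sP).map ρ).sub_left (Commute.one_left _) |>.sub_right (Commute.one_right _)).eq
  refine ⟨k, ?_, h₁, h₂⟩
  by_contra e
  exact h₂.2 0 (by omega) (h.reg.cf_eq_zero ((h.dg2 t h.tP).mono (by omega)))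

end Core

theorem conj_pow_sub_one (g x : X) (m : ℕ) :
    ρ g * (ρ x - 1) ^ m * ρ g⁻¹ = (ρ (g * x * g⁻¹) - 1) ^ m := by
  induction m with
  | zero => rw [pow_zero, pow_zero, mul_one, ← map_mul, mul_inv_cancel, map_one]
  | succ m ih =>
    rw [pow_succ, pow_succ, ← ih, conj_sub_one]
    simp only [mul_assoc]
    rw [← mul_assoc (ρ g⁻¹) (ρ g), ← map_mul, inv_mul_cancel, map_one, one_mul]

/-- The cyclic group generated by an element of order dividing `p`. -/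
def cyc {Y : Type*} [Group Y] (y : Y) (hy : y ^ p = 1) : Multiplicative (ZMod p) →* Y :=
  MonoidHom.mk' (fun c => y ^ c.toAdd.val) fun a b => by
    rw [toAdd_mul, ZMod.val_add, ← pow_add, ← pow_eq_pow_mod _ hy]

theorem cyc_apply {Y : Type*} [Group Y] (y : Y) (hy : y ^ p = 1) (c : Multiplicative (ZMod p)) :
    cyc y hy c = y ^ c.toAdd.val := rfl

theorem mem_of_pow_val_mem {Y : Type*} [Group Y] {y : Y} (hy : y ^ p = 1) {c : ZMod p}
    (hc : c ≠ 0) {H : Subgroup Y} (h : y ^ c.val ∈ H) : y ∈ H := by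
  have := pow_mem h (c⁻¹).val
  rwa [← pow_mul, pow_eq_pow_mod _ hy, ← ZMod.val_mul, mul_inv_cancel₀ hc, ZMod.val_one,
    pow_one] at this

end Cfsg.Agent.MC
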