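import Cfsg.Agent.Lib.MC.Exc

/-!
Essential subgroups of order `p ^ 3` of a `p`-group of maximal class.
-/

set_option autoImplicit false
set_option linter.style.haveILetI false
set_option linter.unusedVariables false
set_option linter.unusedSectionVars false

namespace Cfsg.Agent.Ess

open Subgroup Cfsg.Agent.Fus Cfsg.Agent.TwoGrp
open Cfsg.FusionSystem (normalizerIn centralizerIn)
open Cfsg.Agent.Fus2 (M afn img HomOn)
open scoped commutatorElement

universe u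

variable {G : Type u} [Group G] {p n : ℕ} [hp : Fact p.Prime] {K : Subgroup G}
  {F : FusionSystem (⊤ : Subgroup G)} {E : Subgroup G}

/-- The elements of `B` fixed modulo `D`. -/
def trivFn {B D : Subgroup G} {f : G → G} (hf : HomOn B f) (hD : B ≤ normalizer (D : Set G)) :
    Subgroup G where
  carrier := {x | x ∈ B ∧ x⁻¹ * f x ∈ D}
  one_mem' := ⟨one_mem _, by rw [hf.map_one, mul_one, inv_one]; exact one_mem _⟩
  mul_mem' {x y} hx hy := ⟨mul_mem hx.1 hy.1, by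
    have := mul_mem ((hD (inv_mem hy.1) _).1 hx.2) hy.2
    rw [hf x hx.1 y hy.1]
    simpa [mul_assoc] using this⟩
  inv_mem' {x} hx := ⟨inv_mem hx.1, by
    have := (hD hx.1 _).1 (inv_mem hx.2)
    rw [hf.map_inv hx.1]
    simpa [mul_assoc] using this⟩

theorem triv_of_sup {B D Y : Subgroup G} {f : G → G} (hf : HomOn B f)
    (hD : B ≤ normalizer (D : Set G)) {g : G} (h : zpowers g ⊔ Y = B) (h₁ : g⁻¹ * f g ∈ D)
    (h₂ : ∀ y ∈ Y, y⁻¹ * f y ∈ D) : ∀ x ∈ B, x⁻¹ * f x ∈ D := fun x hx =>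
  ((sup_le (zpowers_le.2 ⟨h.le (mem_sup_left (mem_zpowers g)), h₁⟩) fun y hy =>
    ⟨h.le (mem_sup_right hy), h₂ y hy⟩ : zpowers g ⊔ Y ≤ trivFn hf hD) (h.ge hx)).2

variable [Finite G]

theorem MaxCl.exists_gen (h : MaxCl p n G) : ∃ z : G, z ≠ 1 ∧ z ^ p = 1 ∧ zpowers z = center G := by
  obtain ⟨⟨z, hz⟩, h1⟩ := ne_bot_iff_exists_ne_one.1 (h.center_eq ▸ h.ne : center G ≠ ⊥)
  have h₂ : z ^ p = 1 := by
    simpa [h.card_center] using congrArg Subtype.val (pow_card_eq_one' (x := (⟨z, hz⟩ : center G)))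
  have h₃ : z ≠ 1 := fun e => h1 (Subtype.ext e)
  exact ⟨z, h₃, h₂, eq_of_le_of_card_ge (zpowers_le.2 hz)
    (by rw [h.card_center, card_zpowers_eq h₂ h₃])⟩

theorem TwoStep.exc_of (hK : TwoStep p K) (h : MaxCl p n G) (h4 : 4 ≤ n)
    (hC : ¬ centralizer (lcs G (n - 3) : Set G) ≤ K) : ⁅K, lcs G (n - 3)⁆ ≠ ⊥ := fun e => hC (by
  have h₁ : K ≤ centralizer (lcs G (n - 3) : Set G) := commutator_eq_bot_iff_le_centralizer.1 e
  refine ((eq_or_eq_of_relIndex_dvd (p := p) h₁ le_top (by rw [relIndex_top_right, hK.idx])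
    ).resolve_right fun e' => ?_).le
  have := h.index_cent h4
  rw [e', index_top] at this
  exact hp.out.ne_one this.symm)

theorem TwoStep.cent_eq (hK : TwoStep p K) (h : MaxCl p n G) (h4 : 4 ≤ n)
    (e : ⁅K, lcs G (n - 3)⁆ = ⊥) : centralizer (lcs G (n - 3) : Set G) = K :=
  le_antisymm (not_not.1 fun e' => hK.exc_of h h4 e' e) (commutator_eq_bot_iff_le_centralizer.1 e)

variable (hF : F.IsSaturated p) (hK : TwoStep p K)
include hF hK

theorem normal_essential_top (h : MaxCl p n G) (h5 : 5 ≤ p) (h4 : 4 ≤ n) (hE : F.IsEssential p E)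
    [hn : E.Normal] : E.index = p ∧ (E = K ∨ E = centralizer (lcs G (n - 3) : Set G) ∨ n = 4) := by
  have h' : MaxCl p n (⊤ : Subgroup G) := ⟨card_top.trans h.card, h.le, mt lcs_eq_bot_iff.1 h.ne⟩
  obtain ⟨K', hK'⟩ := h'.exists_twoStep h4
  have hl : ∀ i (x : G), (⟨x, trivial⟩ : (⊤ : Subgroup G)) ∈ lcs _ i ↔ x ∈ lcs G i := fun i x => by
    have e := lcs_map_subtype (⊤ : Subgroup G) i
    exact ⟨fun hx => e.le ⟨_, hx, rfl⟩, fun hx => by obtain ⟨y, hy, rfl⟩ := e.ge hx; exact hy⟩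
  obtain ⟨h₁, h₂⟩ := normal_essential h'.isPGroup hF h' h5 h4 hE inferInstance hK'
  refine ⟨relIndex_top_right E ▸ h₁, h₂.imp (fun e => ?_) (Or.imp (fun e => ?_) And.left)⟩
  · ext x
    rw [hK.mem_iff h h4, show x ∈ E ↔ _ from SetLike.ext_iff.1 e ⟨x, trivial⟩, hK'.mem_iff h' h4]
    exact ⟨fun e' y hy => (hl 3 _).1 (e' ⟨y, trivial⟩ ((hl 1 y).2 hy)),
      fun e' y hy => (hl 3 _).2 (e' y ((hl 1 y).1 hy))⟩
  · ext x
    rw [show x ∈ E ↔ _ from SetLike.ext_iff.1 e ⟨x, trivial⟩]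
    exact ⟨fun e' y hy => congrArg Subtype.val (e' ⟨y, trivial⟩ ((hl _ y).2 hy)),
      fun e' y hy => Subtype.ext (e' y ((hl _ y).1 hy))⟩

variable {m : ℕ} (h : MaxCl p (m + 5) G) (h5 : 5 ≤ p) (hE : F.IsEssential p E)
  (hc : Nat.card E = p ^ 3) (hab : ∀ x ∈ E, ∀ y ∈ E, Commute x y) (hel : ∀ x ∈ E, x ^ p = 1)
include h h5 hE hc hab hel

theorem cube_aux {g z : G} (hg : g ∈ lcs G (m + 1)) (hgE : g ∉ E)
    (hBN : lcs G (m + 1) ≤ normalizer (E : Set G)) (hz : z ∈ E) (hzB : z ∈ lcs G (m + 1))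
    (hgz : ∀ x ∈ E, ⁅x, g⁆ ∈ zpowers z) : ∃ f, M F (lcs G (m + 1)) f ∧
      (∀ x ∈ lcs G (m + 1), x⁻¹ * f x ∈ zpowers z) ∧ f z = z⁻¹ := by
  have hS := h.isPGroup.to_subgroup ⊤
  have h2 : p ≠ 2 := by omega
  set B := lcs G (m + 1) with hB
  have cB : Nat.card B = p ^ 3 := by rw [h.card_lcs (by omega) (by omega)]; congr 1; omega
  have aB : ∀ x ∈ B, ∀ y ∈ B, Commute x y := fun x hx y hy =>
    commutatorElement_eq_one_iff_commute.1 (commutator_le_of_relIndex (N := ⊥)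
      (lcs_anti (Nat.le_succ _)) (h.relIndex_dvd (by omega))
      ((commutator_lcs _ _).trans (h.eq_bot (by omega)).le) (commutator_mem_commutator hx hy))
  have hi : E.relIndex (normalizerIn ⊤ E) ∣ p := relIndex_Inn_eq hE.1 ▸
    (essData hS hF hE).relIndex_Inn_of_elem (fun x y => Subtype.ext (hab x x.2 y y.2).eq)
      (fun x => Subtype.ext (hel x x.2)) hc.le
  obtain ⟨w, C, hw, -, h₁, -, h₃, -, -, -, h₄⟩ := exists_tvAb hS hF hE hab hi ⟨trivial, hBN hg⟩ hgE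
    hz (hel z hz) (aB g hg z hzB) hgz
  obtain ⟨f, hf, hfN, f₁, -, f₂, f₃⟩ := h₄ (-1) (neg_ne_zero.2 one_ne_zero)
  rw [normalizerIn_top] at hi hf hfN
  rw [zp_neg (hel z hz), zp_one (hel z hz)] at f₁
  rw [neg_mul_neg, mul_one, ZMod.val_one, pow_one] at f₃
  set N := normalizer (E : Set G)
  have hN : zpowers g ⊔ E = N := sup_eq_of_relIndex_prime' le_normalizer hi (hBN hg) hgE
  have cN : Nat.card N = p * p ^ 3 := by
    rw [← hN, card_zpowers_sup (p := p) (hBN hg) (pow_mem_of_relIndex_dvd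
      (h.isPGroup.to_subgroup N) le_normalizer hi (hBN hg)) hgE, hc, mul_comm]
  have iN : B.relIndex N = p := relIndex_eq_of_card_eq hBN (by rw [cN, cB])
  have iE : (E ⊓ B).relIndex E ∣ p := by
    rw [inf_relIndex_left]
    exact relIndex_dvd_of_le' (h.isPGroup.to_subgroup E) (iN ▸ relIndex_le_of_le_right
      le_normalizer (by rw [iN]; exact hp.out.ne_zero))
  have iB : (E ⊓ B).relIndex B ∣ p := by
    rw [inf_relIndex_right]
    exact relIndex_dvd_of_le' (h.isPGroup.to_subgroup B) ((relIndex_le_of_le_right hBN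
      (ne_zero_of_dvd_ne_zero hp.out.ne_zero hi)).trans (Nat.le_of_dvd hp.out.pos hi))
  have hY : E ⊓ centralizer {g} = E ⊓ B := (eq_or_eq_of_relIndex_dvd (le_inf inf_le_left
    fun x hx => mem_centralizer_singleton_iff.2 (aB x hx.2 g hg)) inf_le_left
      iE).resolve_right fun e => h₁ (Commute.symm (mem_centralizer_singleton_iff.1 (e.ge hw).2))
  have hY' : E ⊓ B = N ⊓ centralizer (N : Set G) := le_antisymm (fun y hy =>
    ⟨le_normalizer hy.1, fun x hx => commute_of_mem_zpowers_sup (aB g hg y hy.2)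
      (fun x hx => hab x hx y hy.1) (hN.ge hx)⟩) fun y hy => hY.le
        ⟨mem_of_comm hE fun x hx => (hy.2 x (le_normalizer hx)).symm,
          mem_centralizer_singleton_iff.2 (hy.2 g (hBN hg)).symm⟩
  rw [hY] at h₃
  have hYN : zpowers z ⊔ C ≤ N := h₃.ge.trans (inf_le_left.trans le_normalizer)
  have t₂ : ∀ x ∈ E ⊓ B, x⁻¹ * f x ∈ zpowers z :=
    triv_of_sup (hf.mono (inf_le_left.trans le_normalizer)).homOn (fun x hx =>
      mem_normalizer_of_commute (by rintro _ ⟨j, rfl⟩; exact (hab x hx.1 z hz).zpow_right j)) h₃.symm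
      (by rw [f₁]; exact mul_mem (inv_mem (mem_zpowers z)) (inv_mem (mem_zpowers z)))
      fun y hy => by rw [f₂ y hy, inv_mul_cancel]; exact one_mem _
  have hzY : zpowers z ≤ E ⊓ B := zpowers_le.2 ⟨hz, hzB⟩
  have cG : Nat.card N < Nat.card G := by
    rw [cN, h.card, ← pow_succ']; exact Nat.pow_lt_pow_right hp.out.one_lt (by omega)
  obtain ⟨u, -, hu, hu'⟩ := exists_mem_normalizer_not_mem hS (P := N)
    (lt_top_iff_ne_top.2 fun e => cG.ne (by rw [e, card_top]))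
  have hfB := img_le_of_fn h.isPGroup hE.2.1 hf hfN (Y := E ⊓ B) (B := B)
    (fun x hx => by simpa using mul_mem hx (hzY (t₂ x hx))) hu
    (hY' ▸ mem_normalizer_inf hu (mem_normalizer_centralizer hu))
    (by rw [normalizer_eq_top]; trivial) hu' inf_le_left inf_le_right le_normalizer hBN iE iB
    iN.dvd (fun e => hgE ((eq_of_le_of_card_ge e (by rw [hc, cB])).ge hg))
    (by rwa [normalizer_eq_top (H := B), card_top])
  exact exists_triv_mod h2 h.isPGroup (hf.mono hBN) (Y := E ⊓ B) inf_le_right ⟨hz, hzB⟩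
    (fun x hx => aB x hx z hzB) (triv_of_sup (hf.mono hBN).homOn (fun x hx =>
      mem_normalizer_of_commute fun y hy => aB x hx y hy.2)
      (sup_eq_of_relIndex_prime' inf_le_right iB hg fun e => hgE e.1)
      ⟨by simpa using inv_mem f₃, B.mul_mem (inv_mem hg) (hfB g hg)⟩
      fun y hy => hzY (t₂ y hy)) t₂ f₁

theorem not_cube : False := by
  have hS := h.isPGroup.to_subgroup ⊤
  have h2 : p ≠ 2 := by omega
  have hZ : center G = lcs G (m + 3) := h.center_eq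
  have cB : Nat.card (lcs G (m + 1)) = p ^ 3 := by
    rw [h.card_lcs (by omega) (by omega)]; congr 1; omega
  obtain ⟨g, hg, hgE⟩ : ∃ g ∈ lcs G (m + 1), g ∉ E := SetLike.not_le_iff_exists.1 fun e => by
    obtain rfl := eq_of_le_of_card_ge e (by rw [hc, cB])
    have := (normal_essential_top hF hK h h5 (by omega) hE).1
    rw [h.index_lcs (by omega) (by omega)] at this
    exact (Nat.pow_lt_pow_right hp.out.one_lt (show 1 < m + 1 + 1 by omega)).ne'
      (by rwa [pow_one])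
  have hEC := hK.le_or_le h h2 (by omega) (E := E) fun x hx e => by
    have := (Subgroup.card_le_of_le (H := E) fun y hy =>
      mem_centralizer_singleton_iff.2 (hab y hy x hx)).trans e
    rw [hc, Nat.pow_le_pow_iff_right hp.out.one_lt] at this
    omega
  obtain ⟨z, hz₁, hz₂, hz₃⟩ := h.exists_gen
  have hz : z ∈ center G := hz₃.le (mem_zpowers z)
  by_cases hEK : E ≤ K
  · have h₁ : ∀ x ∈ E, ∀ y ∈ lcs G (m + 1), ⁅x, y⁆ ∈ center G := fun x hx y hy =>
      hZ.ge (hK.pos h2 _ h (m + 1) (by omega) (by omega) (commutator_mem_commutator (hEK hx) hy))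
    obtain ⟨f, hf, f₁, f₂⟩ := cube_aux hF hK h h5 hE hc hab hel hg hgE
      (fun y hy => mem_normalizer_of_comm_mem fun x hx => center_le_ess hE
        (comm_mem_symm (h₁ x hx y hy))) (center_le_ess hE hz) (lcs_anti (by omega) (hZ.le hz))
      fun x hx => hz₃.ge (h₁ x hx g hg)
    exact not_tv hF hK h h2 hf (fun x hx => hz₃.le (f₁ x hx)) hz hz₁ f₂
  replace hEC : E ≤ centralizer (lcs G (m + 2) : Set G) := hEC.resolve_left hEK
  have hCK : ¬ centralizer (lcs G (m + 2) : Set G) ≤ K := fun e => hEK (hEC.trans e)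
  have hexc := hK.exc_of h (by omega) hCK
  have h₁ : lcs G (m + 2) ≤ E := fun y hy => mem_of_comm hE fun x hx => hEC hx y hy
  have i₁ : (lcs G (m + 2)).relIndex E = p := relIndex_eq_of_card_eq h₁ (by
    rw [hc, h.card_lcs (by omega) (by omega), ← pow_succ']; congr 1; omega)
  have h₂ : E ⊓ K = tsr K (m + 2) := (eq_or_eq_of_relIndex_dvd (le_inf h₁
    ((lcs_anti (by omega)).trans hK.le)) inf_le_left i₁.dvd).resolve_right
      fun e => hEK (e.ge.trans inf_le_right)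
  obtain ⟨x, hx, hx'⟩ := SetLike.not_le_iff_exists.1 hEK
  have hBN : lcs G (m + 1) ≤ normalizer (E : Set G) := fun y hy =>
    mem_normalizer_of_comm_mem fun x hx => h₁ (comm_mem_lcs hy x)
  have w₁ : ⁅x⁻¹, g⁆ ∈ lcs G (m + 2) := comm_mem_symm (comm_mem_lcs hg _)
  have w₂ : ⁅x⁻¹, g⁆ ∉ lcs G (m + 3) := fun e => hK.comm_nm h h2 (x := x⁻¹) (by simpa)
    (j := m + 1) le_rfl hg (fun e' => hgE (h₁ e')) (comm_mem_symm e)
  obtain ⟨f, hf, f₁, f₂⟩ := cube_aux hF hK h h5 hE hc hab hel hg hgE hBN (h₁ w₁)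
    (lcs_anti (Nat.le_succ _) w₁) fun y hy => by
      have := triv_of_sup (Fus2.homOn_conj E g) (D := zpowers ⁅x⁻¹, g⁆) (fun x hx =>
        mem_normalizer_of_commute (by rintro _ ⟨j, rfl⟩; exact (hab x hx _ (h₁ w₁)).zpow_right j))
        (sup_eq_of_relIndex_prime' h₁ i₁.dvd hx fun e => hx' (hK.le (lcs_anti (by omega) e)))
        (by rw [inv_mul_conj_eq]; exact mem_zpowers _) (fun y hy => by
          rw [inv_mul_conj_eq, (h.eq_bot (j := m + 2 + (m + 1) + 1) (by omega)).le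
            (commutator_lcs _ _ (commutator_mem_commutator (inv_mem hy) hg))]
          exact one_mem _) y⁻¹ (inv_mem hy)
      rwa [inv_mul_conj_eq, inv_inv] at this
  set w := ⁅x⁻¹, g⁆
  have hw : zpowers w ≤ lcs G (m + 2) := zpowers_le.2 w₁
  have hf₂ := hf.mono (lcs_anti (Nat.le_succ (m + 1)))
  have i₂ := hf₂.img_eq_self fun y hy => by
    simpa using mul_mem hy (hw (f₁ y (lcs_anti (Nat.le_succ _) hy)))
  obtain ⟨ρ, hρ, e₁⟩ := Fus2.sat_ext_centralizer hS hF hf₂ (i₂.symm ▸ sat_centralized hS hF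
    (isFullyNormalized_of_normal le_top (by rw [normalizer_eq_top])))
  have hle : centralizer (lcs G (m + 2) : Set G) ≤ lcs G (m + 2) ⊔ centralizerIn ⊤ (lcs G (m + 2)) :=
    fun y hy => mem_sup_right ⟨trivial, hy⟩
  obtain ⟨α, hα, e₂⟩ := (hρ.mono hle).exists_aut' fun y hy => by
    have := (hρ.mem_centralizerIn le_sup_left (hle hy) hy).2
    rwa [Fus2.img_congr e₁, i₂] at this
  obtain ⟨σ₁, -, e₃⟩ := ext_cent hF hK h h2 (by omega) rfl hCK (fun β hβ =>
    inv_lcs_one hK h h2 (by omega) rfl hCK hE.2.1 hEC hEK h₂ (by omega) le_rfl hβ) hα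
  obtain ⟨σ, -, hσ⟩ := ext_lcs hF h (j := m + 2) le_rfl (lcs_anti (by omega)) hf
    (fun y hy => by simpa using mul_mem hy (lcs_anti (Nat.le_succ _) (hw (f₁ y hy))))
    fun i hi y hy => by
      have h₃ := lcs_anti hi hy
      rw [← e₁ y h₃, ← e₂ y (hEC (h₁ h₃)), ← e₃ y (hEC (h₁ h₃))]
      exact inv_char ⊤ _ σ₁ trivial y hy
  obtain ⟨a, b, hab'⟩ := hK.exists_wts h h2 (by omega) σ
  have k₁ : (1 : ZMod p) = b * a ^ (m + 1) := (sc_one (hw (hσ g hg ▸ f₁ g hg))).unique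
    (hab'.mid (m + 1) (by omega) g hg) (fun e => hgE (h₁ e)) (hK.pow_mem_tsr h (m + 1) g hg)
  have k₂ : (-1 : ZMod p) = b * a ^ (m + 2) := (sc_neg (by
    rw [hσ w (lcs_anti (Nat.le_succ _) w₁), f₂, mul_inv_cancel]; exact one_mem _)
      (hK.pow_mem_tsr h (m + 2) w w₁)).unique (hab'.mid (m + 2) le_rfl w w₁) w₂
        (hK.pow_mem_tsr h (m + 2) w w₁)
  have k₃ : (1 : ZMod p) = b * (b * a ^ (m + 2)) := (sc_one (Y := ⊥) (by
    have h₃ : z ∈ lcs G (m + 1) := lcs_anti (by omega) (hZ.le hz)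
    refine ((eq_bot_or_eq_of_le_zpowers (hel w (h₁ w₁)) (K := zpowers w ⊓ center G)
      inf_le_left).resolve_right fun e => w₂ (hZ.le (e.ge (mem_zpowers w)).2)).le
        ⟨hσ z h₃ ▸ f₁ z h₃, (center G).mul_mem (inv_mem hz) (inv_char ⊤ _ σ trivial z hz)⟩)).unique
      (hab'.exc hexc z (hZ.le hz)) hz₁ hz₂
  have k₄ : a = -1 := by rw [pow_succ, ← mul_assoc, ← k₁, one_mul] at k₂; exact k₂.symm
  have k₅ : Even (m + 1) := by
    obtain ⟨j, hj⟩ := (hK.even h h2 (by omega) hexc).1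
    exact ⟨j - 2, by omega⟩
  rw [← k₂] at k₃
  rw [k₄, k₅.neg_one_pow, mul_one] at k₁
  rw [← k₁, one_mul] at k₃
  exact neg_ne_one h2 k₃.symm

end Cfsg.Agent.Ess
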