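import Cfsg.Agent.Lib.MC.Wts

/-!
Essential subgroups inside the centralizer of the second centre; essential subgroups of order `p ^ 3`.
-/

set_option autoImplicit false
set_option linter.style.haveILetI false
set_option linter.unusedVariables false
set_option linter.unusedSectionVars false

namespace Cfsg.Agent.Ess

open Subgroup Cfsg.Agent.Fus Cfsg.Agent.TwoGrp
open Cfsg.FusionSystem (normalizerIn centralizerIn)
open Cfsg.Agent.Fus2 (M afn img HomOn)
open scoped commutatorElement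

universe u

variable {G : Type u} [Group G] [Finite G] {p n : ℕ} [hp : Fact p.Prime] {K : Subgroup G}
  {F : FusionSystem (⊤ : Subgroup G)} {E : Subgroup G}

theorem normalizerIn_top (E : Subgroup G) : normalizerIn ⊤ E = normalizer (E : Set G) :=
  top_inf_eq _

theorem mem_of_comm (hE : F.IsEssential p E) {g : G} (h : ∀ e ∈ E, Commute g e) : g ∈ E :=
  mem_of_commute hE.1 trivial h

theorem center_le_ess (hE : F.IsEssential p E) : center G ≤ E := fun x hx =>
  mem_of_comm hE fun e _ => (Subgroup.mem_center_iff.1 hx e).symm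

theorem card_norm_le (hE : F.IsFullyNormalized E) {f : G → G} (hf : M F E f) {N : Subgroup G}
    (hN : N ≤ normalizer (img E f : Set G)) : Nat.card N ≤ Nat.card (normalizer (E : Set G)) :=
  normalizerIn_top E ▸ not_lt_normalizerIn hE hf.isConj (le_inf le_top hN)

theorem eq_one_of_inv_eq (h2 : p ≠ 2) {z : G} (hz : z ^ p = 1) (e : z⁻¹ = z) : z = 1 :=
  mem_bot.1 (mem_of_pow_mem_of_pow_mem (K := ⊥) (a := p) (b := 2) hz
    (by rw [mem_bot, pow_two, ← eq_inv_iff_mul_eq_one, e])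
    ((Nat.coprime_primes hp.out Nat.prime_two).2 h2))

theorem img_le_of_fn (hG : IsPGroup p G) (hE : F.IsFullyNormalized E) {Y B N : Subgroup G} {u : G}
    {f : G → G} (hf : M F N f) (hfN : ∀ x ∈ N, f x ∈ N) (hfY : ∀ x ∈ Y, f x ∈ Y)
    (hN : u ∈ normalizer (N : Set G)) (hY : u ∈ normalizer (Y : Set G))
    (hB : u ∈ normalizer (B : Set G)) (hu : u ∉ normalizer (E : Set G)) (hYE : Y ≤ E)
    (hYB : Y ≤ B) (hEN : E ≤ N) (hBN : B ≤ N) (iE : Y.relIndex E ∣ p) (iB : Y.relIndex B ∣ p)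
    (iN : B.relIndex N ∣ p) (nE : ¬ E ≤ B)
    (hlt : Nat.card (normalizer (E : Set G)) < Nat.card (normalizer (B : Set G))) :
    ∀ x ∈ B, f x ∈ B := by
  rw [← Fus2.img_le_iff]
  by_contra nQ
  have hfB := hf.mono hBN
  have hYQ : Y ≤ img B f := ((hf.mono (hYB.trans hBN)).img_eq_self hfY).ge.trans
    (Fus2.img_mono f hYB)
  obtain ⟨i, hi⟩ := exists_conj_eq hG hN hY hB hu hYE hYB hYQ hEN hBN
    (Fus2.img_le_iff.2 fun x hx => hfN x (hBN hx)) iE iB (by
      rwa [relIndex_eq_of_card_eq hYQ (m := Y.relIndex B) (by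
        rw [hfB.card_img, relIndex, ← Nat.card_congr (subgroupOfEquivOfLe hYB).toEquiv,
          index_mul_card])]) iN nE nQ
  have := not_lt_normalizerIn hE (isConj_trans (hi ▸ isConj_conj le_top (mem_top (u ^ i)))
    (isConj_symm hfB.isConj)) le_rfl
  rw [normalizerIn_top, normalizerIn_top] at this
  exact hlt.not_ge this

theorem exists_triv_mod (h2 : p ≠ 2) (hG : IsPGroup p G) {B Y : Subgroup G} {f : G → G} {z : G}
    (hf : M F B f) (hY : Y ≤ B) (hz : z ∈ Y) (hzc : ∀ x ∈ B, Commute x z)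
    (h₁ : ∀ x ∈ B, x⁻¹ * f x ∈ Y) (h₂ : ∀ x ∈ Y, x⁻¹ * f x ∈ zpowers z) (h₃ : f z = z⁻¹) :
    ∃ g, M F B g ∧ (∀ x ∈ B, x⁻¹ * g x ∈ zpowers z) ∧ g z = z⁻¹ := by
  obtain ⟨α, hα, e⟩ := hf.exists_aut' fun x hx => by simpa using mul_mem hx (hY (h₁ x hx))
  obtain ⟨k, hk⟩ := exists_pow_coprime (p := p) α
  have hz' := zpowers_le.2 hz
  have t₁ : TrivOn α ⊤ (Y.subgroupOf B) := fun x _ => by
    have := h₁ x x.2
    rwa [← e x x.2, Fus2.afn_coe] at this
  have t₂ : TrivOn α (Y.subgroupOf B) ((zpowers z).subgroupOf B) :=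
    trivOn_subgroupOf_iff.2 fun x hx hx' => e x hx ▸ h₂ x hx'
  have t₃ : TrivOn α ((zpowers z).subgroupOf B) ((zpowers z).subgroupOf B) :=
    trivOn_mono t₂ (subgroupOf_mono B hz') le_rfl
  haveI := normal_subgroupOf_of_le (N := zpowers z) (S := B) fun g hg =>
    mem_normalizer_of_commute (by rintro _ ⟨j, rfl⟩; exact (hzc g hg).zpow_right j)
  have t₄ := trivOn_trans_of_coprime (hG.to_subgroup B) hk
    (fun d hd => (t₃.pow le_rfl _).apply_mem le_rfl hd) (by rw [normalizer_eq_top]; exact le_top)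
    (t₁.pow le_top _) (t₂.pow (subgroupOf_mono B hz') _)
  refine ⟨afn (α ^ p ^ k), M_afn le_top (_root_.pow_mem hα _), fun x hx => ?_, ?_⟩
  · have := t₄ ⟨x, hx⟩ trivial
    rwa [Fus2.afn_apply _ hx]
  · have h₄ : afn (α ^ 2) z = z := by
      rw [pow_two, Fus2.afn_mul, e z (hY hz), h₃, (Fus2.homOn_afn α).map_inv (hY hz), e z (hY hz),
        h₃, inv_inv]
    obtain ⟨j, hj⟩ : Odd (p ^ k) := (hp.out.odd_of_ne_two h2).pow
    rw [hj, pow_succ', Fus2.afn_mul, pow_mul, ← h₃, ← e z (hY hz)]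
    congr 1
    clear hj
    induction j with
    | zero => rw [pow_zero, Fus2.afn_one]
    | succ j ih => rw [pow_succ, Fus2.afn_mul, h₄, ih]

variable (hF : F.IsSaturated p) (hK : TwoStep p K)
include hF

theorem ext_lcs (h : MaxCl p n G) {P : Subgroup G} [P.Normal] {j : ℕ} (h₁ : ⁅P, ⊤⁆ ≤ lcs G j)
    (h₂ : lcs G j ≤ P) {f : G → G} (hf : M F P f) (hP : ∀ x ∈ P, f x ∈ P)
    (hL : ∀ i, j ≤ i → ∀ x ∈ lcs G i, f x ∈ lcs G i) :
    ∃ σ : MulAut G, M F ⊤ σ ∧ ∀ x ∈ P, σ x = f x := by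
  obtain ⟨τ, hτ, e⟩ := hf.exists_aut' hP
  obtain ⟨g, hg, e'⟩ := ext_of_chain (h.isPGroup.to_subgroup ⊤) hF le_top
    (by rw [normalizer_eq_top]) (fun i => match i with | 0 => P | i + 1 => lcs G (j + i))
    (m := n + 1) le_rfl (h.eq_bot (by omega)) (fun i => by
      rcases i with _ | i
      exacts [h₂, lcs_anti (by omega)]) (fun i => by
      rcases i with _ | i
      exacts [le_normalizer, by simp only [normalizer_eq_top, le_top]]) (fun i g _ x hx => by
      rw [inv_mul_conj_eq]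
      rcases i with _ | i
      exacts [h₁ (commutator_mem_commutator (inv_mem hx) trivial), comm_mem_lcs (inv_mem hx) g])
    hτ fun i x hx hx' => by
      rw [e x hx]
      rcases i with _ | i
      exacts [hP x hx, hL _ (by omega) x hx']
  obtain ⟨σ, hσ⟩ := exists_mulAut hg
  exact ⟨σ, hg.congr fun x _ => (hσ x).symm, fun x hx => by rw [hσ, e' x hx, e x hx]⟩

include hK

theorem not_tv {m : ℕ} (h : MaxCl p (m + 5) G) (h2 : p ≠ 2) {f : G → G}
    (hf : M F (lcs G (m + 1)) f) (h₁ : ∀ x ∈ lcs G (m + 1), x⁻¹ * f x ∈ center G) {z : G}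
    (hz : z ∈ center G) (hz1 : z ≠ 1) (e : f z = z⁻¹) : False := by
  have hZ : center G = lcs G (m + 3) := h.center_eq
  have hL : ∀ i, m + 1 ≤ i → ∀ x ∈ lcs G i, f x ∈ lcs G i := fun i hi x hx => by
    by_cases e' : i ≤ m + 3
    · simpa using mul_mem hx (lcs_anti e' (hZ.le (h₁ x (lcs_anti hi hx))))
    · rw [h.eq_bot (by omega), mem_bot] at hx
      rw [hx, hf.map_one]; exact one_mem _
  obtain ⟨σ, -, hσ⟩ := ext_lcs hF h (j := m + 2) le_rfl (lcs_anti (by omega)) hf (hL _ le_rfl)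
    fun i hi => hL i (by omega)
  obtain ⟨a, b, hw⟩ := hK.exists_wts h h2 (by omega) σ
  have key : ∀ j, m + 1 ≤ j → j ≤ m + 2 → (1 : ZMod p) = b * a ^ j := fun j h₃ h₄ => by
    obtain ⟨y, hy, hy'⟩ := SetLike.exists_of_lt (hK.tsr_lt h (j := j) (by omega))
    have h₅ : y ∈ lcs G (m + 1) := lcs_anti h₃ ((tsr_of_pos K (by omega)).le hy)
    exact (sc_one (lcs_anti (by omega) (hZ.le (hσ y h₅ ▸ h₁ y h₅)))).unique
      (hw.mid j (by omega) y hy) hy' (hK.pow_mem_tsr h j y hy)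
  have ha : a = 1 := by
    have := key (m + 2) (by omega) le_rfl
    rw [pow_succ, ← mul_assoc, ← key (m + 1) le_rfl (by omega), one_mul] at this
    exact this.symm
  have hb : b = 1 := by simpa [ha] using (key (m + 1) le_rfl (by omega)).symm
  subst ha hb
  have := hK.fix_of_triv h (by omega) (fun y => (hw.top y).one)
    (fun y hy => Sc.one (Y := tsr K (0 + 1))
      (by simpa only [pow_zero, mul_one] using hw.mid 0 (by omega) y hy)) hz
  rw [hσ z (lcs_anti (by omega) (hZ.le hz)), e] at this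
  exact hz1 (eq_one_of_inv_eq h2 (by
    simpa [h.card_center] using congrArg Subtype.val (pow_card_eq_one' (x := (⟨z, hz⟩ : center G))))
    this)

section Cent

variable (h : MaxCl p n G) (h2 : p ≠ 2) (h5 : 5 ≤ n) {C : Subgroup G}
  (hC : C = centralizer (lcs G (n - 3) : Set G)) (hCK : ¬ C ≤ K)
include h h2 h5 hC hCK

omit hF in
theorem comm_cent : ⁅C, C⁆ = lcs G 2 := by
  subst hC
  refine le_antisymm (commutator_le_of_relIndex (p := p) h.lcs_one_le ?_
    (commutator_mono le_rfl le_top)) ((hK.comm_eq h h2 hCK (j := 1) h5).ge.trans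
      (commutator_mono h.lcs_one_le le_rfl))
  have := relIndex_mul_index h.lcs_one_le
  rw [h.index_cent (by omega), h.index_lcs le_rfl (by omega), pow_succ, pow_one] at this
  exact (Nat.eq_of_mul_eq_mul_right hp.out.pos this).dvd

omit hF in
theorem img_lcs (α : MulAut C) {i : ℕ} (hi : 2 ≤ i) (hi' : i + 3 ≤ n) :
    img (lcs G i) (afn α) = lcs G i := by
  haveI : C.Normal := hC ▸ inferInstance
  induction i, hi using Nat.le_induction with
  | base =>
    rw [← comm_cent hK h h2 h5 hC hCK, (Fus2.homOn_afn α).img_commutator le_rfl le_rfl,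
      Fus2.img_afn]
  | succ i hi ih =>
    have e := hK.comm_eq h h2 hCK (j := i) (by omega)
    rw [tsr_of_pos K (by omega), tsr_of_pos K (by omega)] at e
    rw [← e, (Fus2.homOn_afn α).img_commutator ((lcs_anti (by omega)).trans (hC ▸ h.lcs_one_le))
      le_rfl, Fus2.img_afn, ih (by omega)]

theorem ext_cent (hinv : ∀ α ∈ F.autGroup C, ∀ x ∈ lcs G 1, afn α x ∈ lcs G 1) {α : MulAut C}
    (hα : α ∈ F.autGroup C) : ∃ σ : MulAut G, M F ⊤ σ ∧ ∀ x ∈ C, σ x = afn α x := by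
  haveI : C.Normal := hC ▸ inferInstance
  have hS := h.isPGroup.to_subgroup ⊤
  have hp' := h.isPGroup.to_subgroup C
  have hfn : F.IsFullyNormalized C := isFullyNormalized_of_normal le_top (by rw [normalizer_eq_top])
  have hT := sat_sylow hS hF hfn
  have h₁ : lcs G 1 ≤ C := hC ▸ h.lcs_one_le
  have i₁ : Inv (F.autGroup C) ((lcs G 1).subgroupOf C) :=
    inv_subgroupOf_iff.2 fun β hβ x _ hx => hinv β hβ x hx
  have e₂ : (lcs G 2).subgroupOf C = commutator C := by
    rw [← comm_cent hK h h2 h5 hC hCK, commutator_subgroupOf le_rfl le_rfl, subgroupOf_self]; rfl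
  have hX := fun t (ht : t ∈ autInducedBy ⊤ C) => exists_pow_eq_one_of_mem hT.isPGroup ht
  have c₁ := ctl_ncl_of_relIndex hp' hT.le hX le_top (inv_top _) i₁ (by
    have := relIndex_mul_index h₁
    rw [hC, h.index_cent (by omega), h.index_lcs le_rfl (by omega), pow_succ, pow_one, ← hC] at this
    rw [relIndex_top_right]
    exact (Nat.eq_of_mul_eq_mul_right hp.out.pos this).dvd)
  have c₂ := ctl_ncl_of_relIndex hp' hT.le hX (subgroupOf_mono C (lcs_anti (Nat.le_succ 1))) i₁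
    (e₂ ▸ inv_char _ _) (by rw [relIndex_subgroupOf h₁]; exact h.relIndex_dvd le_rfl)
  rw [e₂] at c₂
  have c₃ := hT.eq_of_le (((c₁.trans_char hp' c₂).mono' le_rfl
    (lcs_one_le_frattini hp')).frattini hp').isPGroup (fun t ht => mem_ncl ht) (ncl_le hT.le)
  obtain ⟨β, hβ, f, hf, -, hfC, e⟩ := exists_ncl_mul hS hF hfn hα
  obtain ⟨g, -, hg⟩ := Fus2.mem_autInducedBy_iff.1 (c₃.le hβ)
  have hf' := (hf.mono (Q := ⊤) (by rw [normalizerIn_top, normalizer_eq_top])).comp
    (Fus2.M_conj F le_rfl (mem_top g)) fun _ _ => trivial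
  obtain ⟨σ, hσ⟩ := exists_mulAut hf'
  exact ⟨σ, hf'.congr fun x _ => (hσ x).symm, fun x hx => by rw [hσ, e x hx, hg _ (hfC x hx)]⟩

omit hF hC hCK in
theorem card_normalizer_le {j : ℕ} (hEK : ¬ E ≤ K) (hj : E ⊓ K = tsr K j) (hj' : j + 3 ≤ n) :
    Nat.card (normalizer (E : Set G)) ≤ p ^ (n + 1 - j) := by
  obtain ⟨x, hx, hx'⟩ := SetLike.not_le_iff_exists.1 hEK
  have hZ : lcs G (n - 2) ≤ E :=
    (tsr_of_pos K (by omega)).ge.trans ((hK.anti (by omega)).trans (hj.ge.trans inf_le_left))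
  obtain ⟨i, hi, e⟩ := hK.exists_inf_eq h h2 hx' (le_normalizer (le_normalizer hx))
    (hZ.trans le_normalizer)
  have hij : j ≤ i + 1 := by
    by_contra e'
    obtain ⟨y, hy, hy'⟩ := SetLike.exists_of_lt (hK.tsr_lt h hi)
    refine hK.comm_nm h h2 hx' (by omega) hy hy' (hK.anti (by omega) (hj.le
      ⟨comm_mem_of_mem_normalizer (e.ge hy).1 hx, hK.le (commutator_mem_commutator trivial trivial)⟩))
  have h₂ : K.relIndex (normalizer (E : Set G)) ≤ p := hK.idx ▸ relIndex_top_right K ▸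
    relIndex_le_of_le_right le_top index_ne_zero_of_finite
  refine (card_le_mul_of_relIndex_le h₂).trans ?_
  rw [inf_comm, e, hK.card_tsr h (by omega), ← pow_succ']
  exact Nat.pow_le_pow_right hp.out.pos (by omega)

omit hF in
theorem inv_lcs_one (hE : F.IsFullyNormalized E) (hEC : E ≤ C) {j : ℕ} (hEK : ¬ E ≤ K)
    (hj : E ⊓ K = tsr K j) (hj₁ : 2 ≤ j) (hj₂ : j + 3 ≤ n) {α : MulAut C}
    (hα : α ∈ F.autGroup C) : ∀ x ∈ lcs G 1, afn α x ∈ lcs G 1 := by
  haveI : C.Normal := hC ▸ inferInstance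
  rw [← Fus2.img_le_iff]
  by_contra nQ
  obtain ⟨x, hx, hx'⟩ := SetLike.not_le_iff_exists.1 hEK
  have h₁ : lcs G 1 ≤ C := hC ▸ h.lcs_one_le
  have h₂ : lcs G 2 ≤ lcs G 1 := lcs_anti (Nat.le_succ 1)
  have hT : tsr K j = lcs G j := tsr_of_pos K (by omega)
  have hnt : ∀ (X : Subgroup G) [X.Normal] (g : G), g ∈ normalizer (X : Set G) := fun X _ g => by
    rw [normalizer_eq_top]; trivial
  have iD := relIndex_zpowers_sup_dvd (hnt (lcs G 2) x) (lcs_anti hj₁ (hT.le (hj.le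
    ⟨_root_.pow_mem hx p, hK.pow_mem h x⟩)))
  have hDK : ¬ zpowers x ⊔ lcs G 2 ≤ K := fun e => hx' (e (mem_sup_left (mem_zpowers x)))
  obtain ⟨u, hu, hu'⟩ := SetLike.exists_of_lt (hK.tsr_lt h (j := 0) (by omega))
  have hM := M_afn le_top hα
  have hYQ : lcs G 2 ≤ img (lcs G 1) (afn α) :=
    (img_lcs hK h h2 h5 hC hCK α le_rfl h5).ge.trans (Fus2.img_mono _ h₂)
  obtain ⟨i, hi⟩ := exists_conj_eq h.isPGroup (hnt C u) (hnt (lcs G 2) u) (hnt (lcs G 1) u)
    (E := zpowers x ⊔ lcs G 2) (fun e => hK.comm_nm h h2 hx' (by omega) hu hu'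
      (((eq_or_eq_of_relIndex_dvd (le_inf le_sup_right (h₂.trans hK.le)) inf_le_left iD).resolve_right
        fun e' => hDK (e'.ge.trans inf_le_right)).le
          ⟨comm_mem_of_mem_normalizer e (mem_sup_left (mem_zpowers x)),
            hK.le (commutator_mem_commutator trivial trivial)⟩))
    le_sup_right h₂ hYQ (sup_le (zpowers_le.2 (hEC hx)) (h₂.trans h₁)) h₁
    (Fus2.img_le_iff.2 fun y hy => Fus2.afn_mem α (h₁ hy)) iD (h.relIndex_dvd le_rfl) (by
      rw [relIndex_eq_of_card_eq hYQ (m := p) (by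
        rw [(hM.mono h₁).card_img, h.card_lcs le_rfl (by omega), h.card_lcs (by omega) (by omega),
          ← pow_succ']; congr 1; omega)]) (by
      have := relIndex_mul_index h₁
      rw [hC, h.index_cent (by omega), h.index_lcs le_rfl (by omega), pow_succ, pow_one,
        ← hC] at this
      exact (Nat.eq_of_mul_eq_mul_right hp.out.pos this).dvd)
    (fun e => hDK (e.trans hK.le)) nQ
  have hED : E ≤ zpowers x ⊔ lcs G 2 := (sup_eq_of_relIndex_prime' (p := p) (B := K ⊓ E)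
    inf_le_right (by
      haveI := hK.normal
      rw [inf_relIndex_right]; exact hK.idx ▸ relIndex_dvd_index_of_normal K E) hx
    fun e => hx' e.1).ge.trans (sup_le_sup_left (by
      rw [inf_comm, hj, hT]; exact lcs_anti hj₁) _)
  have hf : M F E fun y => afn α⁻¹ (u ^ i * y * (u ^ i)⁻¹) :=
    (Fus2.M_conj F le_top (mem_top _)).comp (M_afn le_top (inv_mem hα))
      fun y hy => ‹C.Normal›.conj_mem y (hEC hy) _
  have k₁ : img E (fun y => afn α⁻¹ (u ^ i * y * (u ^ i)⁻¹)) ≤ lcs G 1 :=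
    Fus2.img_le_iff.2 fun y hy => by
      obtain ⟨t, ht, e⟩ := (hM.mono h₁).mem_img.1 (conj_mem_of_map_le hi.le (hED hy))
      rwa [← e, ← Fus2.afn_mul, inv_mul_cancel, Fus2.afn_one]
  have k₂ : lcs G j ≤ img E (fun y => afn α⁻¹ (u ^ i * y * (u ^ i)⁻¹)) := fun t ht =>
    hf.mem_img.2 ⟨(u ^ i)⁻¹ * afn α t * u ^ i, (hj.ge (hT.ge (Normal.conj_mem' inferInstance _
      ((img_lcs hK h h2 h5 hC hCK α hj₁ hj₂).le (Fus2.mem_img_of_mem _ ht)) _))).1, by
        simp only [mul_assoc, mul_inv_cancel_left, mul_inv_cancel, mul_one]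
        rw [← Fus2.afn_mul, inv_mul_cancel, Fus2.afn_one]⟩
  have k₃ := card_normalizer_le hK h h2 h5 hEK hj hj₂
  rcases hj₁.eq_or_lt with rfl | hj₃
  · have := (card_norm_le hE hf (N := ⊤) fun g _ => mem_normalizer_of_comm_mem fun y hy =>
      k₂ (comm_mem_symm (comm_mem_lcs (k₁ hy) g))).trans k₃
    rw [card_top, h.card, Nat.pow_le_pow_iff_right hp.out.one_lt] at this
    omega
  · obtain ⟨j, rfl⟩ : ∃ k, j = k + 3 := ⟨j - 3, by omega⟩
    have := (card_norm_le hE hf (N := tsr K j) fun g hg => mem_normalizer_of_comm_mem fun y hy =>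
      k₂ (hK.comm_tsr₂ h h2 (j := 1) (by omega) (commutator_mem_commutator hg (k₁ hy)))).trans k₃
    rw [hK.card_tsr h (by omega), Nat.pow_le_pow_iff_right hp.out.one_lt] at this
    omega

end Cent

end Cfsg.Agent.Ess
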