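import Cfsg.Agent.Lib.MC.Rep

/-!
A term of the lower central series of a Sylow subgroup of maximal class is not a self-centralizing
`O_p`.
-/

set_option autoImplicit false
set_option linter.style.haveILetI false
set_option linter.unusedVariables false
set_option linter.unusedSectionVars false

namespace Cfsg.Agent.Ess

open Subgroup Cfsg.Agent.Fus Cfsg.Agent.TwoGrp Module
open scoped commutatorElement

universe u v

variable {p : ℕ} [hp : Fact p.Prime] {G : Type u} [Group G] {V : Type*} [AddCommGroup V]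
  [Module (ZMod p) V]

/-- `π` identifies `L / D` with `V`. -/
structure Idn (L D : Subgroup G) (π : G → V) : Prop where
  add : ∀ x ∈ L, ∀ y ∈ L, π (x * y) = π x + π y
  zero : ∀ x ∈ L, π x = 0 ↔ x ∈ D
  surj : ∀ w, ∃ x ∈ L, π x = w

namespace Idn

variable {L D : Subgroup G} {π : G → V} (h : Idn L D π) {x y : G}
include h

theorem one : π 1 = 0 := (h.zero 1 (one_mem _)).2 (one_mem _)

theorem inv (hx : x ∈ L) : π x⁻¹ = -π x := by
  rw [eq_neg_iff_add_eq_zero, ← h.add _ (inv_mem hx) _ hx, inv_mul_cancel, h.one]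

theorem pow (hx : x ∈ L) (m : ℕ) : π (x ^ m) = (m : ZMod p) • π x := by
  induction m with
  | zero => simp [h.one]
  | succ m ih => rw [pow_succ, h.add _ (pow_mem hx m) _ hx, ih]; push_cast; rw [add_smul, one_smul]

theorem sub (hx : x ∈ L) (hy : y ∈ L) : π (y⁻¹ * x) = π x - π y := by
  rw [h.add _ (inv_mem hy) _ hx, h.inv hy, neg_add_eq_sub]

theorem sub' (hx : x ∈ L) (hy : y ∈ L) : π (x * y⁻¹) = π x - π y := by
  rw [h.add _ hx _ (inv_mem hy), h.inv hy, sub_eq_add_neg]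

/-- The image of a subgroup. -/
def gam (p : ℕ) [Fact p.Prime] [Module (ZMod p) V] (N : Subgroup G) : Submodule (ZMod p) V where
  carrier := {w | ∃ x ∈ N, x ∈ L ∧ π x = w}
  zero_mem' := ⟨1, one_mem _, one_mem _, h.one⟩
  add_mem' := by
    rintro _ _ ⟨x, hx, hx', rfl⟩ ⟨y, hy, hy', rfl⟩
    exact ⟨x * y, mul_mem hx hy, mul_mem hx' hy', h.add x hx' y hy'⟩
  smul_mem' := by
    rintro c _ ⟨x, hx, hx', rfl⟩
    exact ⟨x ^ c.val, pow_mem hx _, pow_mem hx' _, by
      rw [h.pow (p := p) hx', ZMod.natCast_zmod_val]⟩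

theorem mem_gam {N : Subgroup G} (hx : x ∈ N) (hx' : x ∈ L) : π x ∈ h.gam p N := ⟨x, hx, hx', rfl⟩

theorem mem_of_gam {N : Subgroup G} (hD : D ≤ N) (hx' : x ∈ L) (hx : π x ∈ h.gam p N) :
    x ∈ N := by
  obtain ⟨y, hy, hy', e⟩ := hx
  have := hD ((h.zero _ (mul_mem (inv_mem hy') hx')).1 (by rw [h.sub hx' hy', e, sub_self]))
  exact (N.mul_mem_cancel_left (inv_mem hy)).1 this

end Idn

variable [Finite G] {n : ℕ} {K : Subgroup G}

/-- The linear set-up. -/
theorem TwoStep.exists_core (hK : TwoStep p K) (h : MaxCl p n G) (h2 : p ≠ 2) (h4 : 4 ≤ n)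
    {j d : ℕ} (hd : 1 ≤ d) (hdp : d < p) (hjd : j + d + 2 ≤ n)
    (hexc : j + d + 3 ≤ n ∨ ⁅K, lcs G (n - 3)⁆ = ⊥) {π : G → V}
    (hπ : Idn (lcs G (j + 1)) (lcs G (j + 1 + d)) π) {X : Type*} [Group X] [Finite X]
    {φ : G →* X} (hφ : φ.ker = lcs G (j + 1)) (hidx : ¬ p ∣ φ.range.index)
    {ρ : X →* End (ZMod p) V} (hinj : Function.Injective ρ)
    (hρ : ∀ g, ∀ x ∈ lcs G (j + 1), ρ (φ g) (π x) = π (g * x * g⁻¹)) {s t : G} (hs : s ∉ K)
    (hs' : s ∉ centralizer (lcs G (n - 3) : Set G)) (ht : t ∈ tsr K j) (ht' : t ∉ tsr K (j + 1)) :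
    ∃ v co, MC.Core ρ d v co φ.range (K.map φ) (φ s) (φ t) ∧ v 0 = π ⁅t, s⁆ ∧
      ∀ x ∈ lcs G (j + 2), π x ∈ MC.Fl co 1 := by
  have hc : ∀ g, ∀ x ∈ lcs G (j + 1), (ρ (φ g) - 1) (π x) = π ⁅g, x⁆ := fun g x hx => by
    rw [LinearMap.sub_apply, hρ g x hx, End.one_apply, commutatorElement_def,
      hπ.sub' ((inferInstance : (lcs G (j + 1)).Normal).conj_mem x hx g) hx]
  have hL : ∀ a, lcs G (j + 1 + a) ≤ lcs G (j + 1) := fun a => lcs_anti (by omega)
  have hts : ⁅t, s⁆ ∈ lcs G (j + 1) := (hK.tsr_succ j).ge (commutator_mem_commutator ht trivial)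
  obtain ⟨co, hreg, hfl⟩ := MC.exists_reg (N := ρ (φ s) - 1) (d := d)
    (Γ := fun a => hπ.gam p (lcs G (j + 1 + a))) (v₀ := π ⁅t, s⁆)
    (fun a b hab w ⟨x, hx, hx', e⟩ => ⟨x, lcs_anti (by omega) hx, hx', e⟩)
    (eq_top_iff.2 fun w _ => by
      obtain ⟨x, hx, rfl⟩ := hπ.surj w
      exact hπ.mem_gam hx hx)
    (eq_bot_iff.2 fun w ⟨x, hx, hx', e⟩ => e ▸ (hπ.zero x hx').2 hx)
    (by
      rintro a _ ⟨x, hx, hx', rfl⟩
      rw [hc s x hx']
      exact hπ.mem_gam (comm_mem_symm (comm_mem_lcs hx s))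
        (hL (a + 1) (comm_mem_symm (comm_mem_lcs hx s))))
    (by
      rintro a ha _ ⟨x, hx, hx', rfl⟩ _ ⟨y, hy, hy', rfl⟩ hw
      obtain ⟨m, hm⟩ := exists_pow_eig (p := p) (lcs_anti (Nat.le_succ _))
        (h.relIndex_dvd (by omega)) hy (fun e => hw (hπ.mem_gam e hy')) hx
      refine ⟨m, ?_⟩
      rw [← hπ.pow hy', ← hπ.sub hx' (_root_.pow_mem hy' m)]
      exact hπ.mem_gam hm (hL (a + 1) hm))
    (by
      rintro a ha _ ⟨x, hx, hx', rfl⟩ hw e
      rw [hc s x hx'] at e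
      exact hK.comm_not_mem_unif h h2 h4 hs hs' (j := j + 1 + a) (by omega)
        ((tsr_of_pos K (by omega)).ge hx) (fun e' => hw (hπ.mem_gam e' hx'))
        (comm_mem_symm (hπ.mem_of_gam (lcs_anti (by omega))
          (hL (a + 1) (comm_mem_symm (comm_mem_lcs hx s))) e)))
    (fun e => hK.comm_not_mem_unif h h2 h4 hs hs' (by omega) ht ht'
      (hπ.mem_of_gam (lcs_anti (by omega)) hts e))
  refine ⟨_, co, ⟨hinj, hreg, hdp, map_le_range φ K, ⟨s, rfl⟩, ?_, hidx, ?_, ?_,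
    mem_map_of_mem φ (hK.anti (Nat.zero_le j) ht), fun e => ht' (hφ.le e), ?_⟩, rfl,
    fun x hx => hfl 1 ▸ hπ.mem_gam hx (hL 1 hx)⟩
  · rw [MonoidHom.range_eq_map]; exact (h.isPGroup.to_subgroup _).map φ
  · rintro _ ⟨k, hk, rfl⟩ a w hw
    rw [← hfl] at hw ⊢
    obtain ⟨x, hx, hx', rfl⟩ := hw
    rw [hc k x hx']
    have h₀ := hL (a + 1) (comm_mem_symm (comm_mem_lcs hx k))
    by_cases h₁ : j + 1 + a < n - 3
    · exact hπ.mem_gam (hK.pos h2 n h _ (by omega) h₁ (commutator_mem_commutator hk hx)) h₀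
    · rw [(hπ.zero _ h₀).2]
      · exact zero_mem _
      rcases hexc with h₂ | h₂
      · exact lcs_anti (by omega) (comm_mem_symm (comm_mem_lcs hx k))
      · have := h₂.le (commutator_mem_commutator hk (lcs_anti (by omega) hx))
        exact bot_le (a := lcs G (j + 1 + d)) this
  · rintro _ ⟨x, rfl⟩
    haveI := hK.normal
    obtain ⟨c, hc⟩ := exists_pow_eig (p := p) (X := ⊤) le_top
      (by rw [relIndex_top_right, hK.idx]) trivial hs (mem_top x)
    refine ⟨c, x * (s ^ c)⁻¹, ?_, by simp⟩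
    simpa [mul_assoc] using hK.normal.conj_mem _ hc (s ^ c)
  · rintro _ ⟨x, rfl⟩
    rw [← commutatorElement_eq_one_iff_commute, ← map_commutatorElement, ← MonoidHom.mem_ker, hφ]
    exact (hK.tsr_succ j).ge (commutator_mem_commutator ht trivial)

theorem TwoStep.comm_weight (hK : TwoStep p K) (h : MaxCl p n G) (h2 : p ≠ 2) {j : ℕ}
    (hj : j + 4 ≤ n) {s t e k : G} (ht : t ∈ tsr K j) (he : e ∈ lcs G (j + 1)) (hk : k ∈ K)
    (c : ℕ) : (⁅t, s⁆ ^ c)⁻¹ * ⁅t * e, s ^ c * k⁆ ∈ lcs G (j + 2) := by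
  have hts : ⁅t, s⁆ ∈ lcs G (j + 1) := (hK.tsr_succ j).ge (commutator_mem_commutator ht trivial)
  have := comm_pow_mul (x := (t : G ⧸ lcs G (j + 2))) (y := s) (u := e) (v := k)
    (mk_commute_iff.2 (comm_mem_lcs hts t)) (mk_commute_iff.2 (comm_mem_lcs hts s)) 1 c
    (mk_commute_iff.2 (comm_mem_lcs he (s ^ c * k)))
    (by
      rw [pow_one]
      exact mk_commute_iff.2 (hK.comm_tsr' h (hK.pos h2 n h) (i := j) (j := 0) (by omega)
        (commutator_mem_commutator ht hk)))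
  rw [pow_one, one_mul] at this
  rw [← QuotientGroup.eq]
  exact this.symm

theorem TwoStep.no_normal (hK : TwoStep p K) (h : MaxCl p n G) (h5 : 5 ≤ p) (h4 : 4 ≤ n) (j : ℕ) :
    ∀ {H : Type v} [Group H] [Finite H] (ι : G →* H), Function.Injective ι →
      ¬ p ∣ ι.range.index → ((lcs G (j + 1)).map ι).Normal → pCore p H ≤ (lcs G (j + 1)).map ι →
      centralizer ((lcs G (j + 1)).map ι : Set H) ≤ (lcs G (j + 1)).map ι →
      (phi p (lcs G (j + 1)) ≠ ⊥ ∨ ⁅K, lcs G (n - 3)⁆ = ⊥) → False := by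
  induction j using Nat.strong_induction_on with
  | _ j ih =>
  intro H _ _ ι hι hidx hn hO hC hexc
  have h2 : p ≠ 2 := by omega
  set E := (lcs G (j + 1)).map ι with hE
  have hEp : IsPGroup p E := (h.isPGroup.to_subgroup _).map ι
  have hCG : ∀ g : G, (∀ x ∈ lcs G (j + 1), Commute g x) → g ∈ lcs G (j + 1) := fun g hg =>
    (mem_map_iff_mem hι).1 (hC (by
      rintro _ ⟨x, hx, rfl⟩
      exact ((hg x hx).map ι).eq.symm))
  obtain ⟨s, hs, hs'⟩ := hK.exists_unif h h2 h4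
  have hsu := hK.unif h h2 h4 hs hs'
  have hj : j + 4 ≤ n := by
    by_contra e
    refine hs (hK.le (lcs_anti (by omega) (hCG s fun x hx => ?_)))
    exact (commute_of_mem_center (h.center_eq.ge (lcs_anti (by omega) hx)) s).symm
  obtain ⟨t, ht, ht'⟩ := SetLike.exists_of_lt (hK.tsr_lt h (j := j) (by omega))
  haveI : (phi p (lcs G (j + 1))).Normal := normal_phi
  obtain ⟨e, he, hΦ⟩ := hK.exists_tsr_eq h (N := phi p (lcs G (j + 1)))
    (phi_le.trans ((lcs_anti (by omega)).trans hK.le))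
  obtain ⟨d, rfl, hd⟩ : ∃ d, e = j + 1 + d ∧ 1 ≤ d := ⟨e - (j + 1), by
    have : j + 1 < e := by
      by_contra e'
      exact h.ne_bot (j := j + 1) (by omega) (eq_bot_iff.2 (nonGen_phi (h.isPGroup.to_subgroup _)
        ⊥ bot_le (le_sup_of_le_right (hΦ ▸ hK.anti (not_lt.1 e')))))
    omega⟩
  rw [tsr_of_pos K (by omega)] at hΦ
  have hdp : d < p := by
    have := card_le_of_le_lcs h.card h.le hsu (K := lcs G (j + 1)) (lcs_anti (by omega))
    rw [hΦ, h.card_lcs (by omega) (by omega), h.card_lcs (by omega) he, ← pow_add,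
      Nat.pow_le_pow_iff_right hp.out.one_lt] at this
    omega
  obtain ⟨V, _, _, _, ρ, π, hinj, h₁, h₂, h₃, h₄⟩ := exists_faithful_rep hEp hO hC
  have hπ : Idn (lcs G (j + 1)) (lcs G (j + 1 + d)) fun x => π (ι x) :=
    ⟨fun x hx y hy => by rw [map_mul]; exact h₁ _ (mem_map_of_mem ι hx) _ (mem_map_of_mem ι hy),
      fun x hx => by rw [h₂ _ (mem_map_of_mem ι hx), hE, ← map_phi, mem_map_iff_mem hι, hΦ],
      fun w => by
        obtain ⟨_, ⟨x, hx, rfl⟩, e⟩ := h₃ w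
        exact ⟨x, hx, e⟩⟩
  set φ : G →* H ⧸ E := (QuotientGroup.mk' E).comp ι with hφ
  have hφ' : ∀ x, φ x = (ι x : H ⧸ E) := fun _ => rfl
  have hker : φ.ker = lcs G (j + 1) := by
    rw [hφ, ← MonoidHom.comap_ker, QuotientGroup.ker_mk', hE, comap_map_eq_self_of_injective hι]
  have hrange : φ.range = ι.range.map (QuotientGroup.mk' E) := by
    rw [hφ, MonoidHom.range_comp]
  obtain ⟨v, co, hcore, hv, hfl⟩ := hK.exists_core h h2 h4 hd hdp (by omega)
    (hexc.imp_left fun e => by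
      by_contra e'
      exact e (hΦ.trans (h.eq_bot (by omega)))) hπ hker
    (by
      rwa [hrange, index_map_eq _ (QuotientGroup.mk'_surjective E)]
      rw [QuotientGroup.ker_mk']; exact map_le_range ι _) hinj
    (fun g x hx => by rw [hφ', h₄ _ _ (mem_map_of_mem ι hx)]; simp) hs hs' ht ht'
  haveI : Module.Finite (ZMod p) V := Module.Finite.of_finite
  have hlift : ∀ (g : H) (x : G), (g : H ⧸ E) = φ x → ∃ e ∈ lcs G (j + 1), g = ι (x * e) :=
    fun g x e => by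
      obtain ⟨y, hy, e'⟩ := QuotientGroup.eq.1 e.symm
      exact ⟨y, hy, by rw [map_mul, e', mul_inv_cancel_left]⟩
  have hmain := hcore.main h5 ?_ ?_ ?_
  · have h₅ := Fit.comap_pCore_le (f := QuotientGroup.mk' E)
      (by rwa [QuotientGroup.ker_mk']) (Fit.mem_pCore_of_forall_conj (φ t) hmain)
    exact ht' ((mem_map_iff_mem hι).1 (hO h₅))
  · rintro _ ⟨k, hk, rfl⟩ hk1
    obtain ⟨a, ha, h₅, h₆⟩ := hK.exists_pos hk (j := j) fun e => hk1 (hker.ge e)
    obtain ⟨h₇, h₈⟩ := hK.ic_mem h h2 h4 hs hs' h₅ h₆ (j - a) (by omega)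
    rw [Nat.add_sub_cancel' ha] at h₇ h₈
    refine ⟨j - a, ?_, ?_⟩ <;> rw [← map_ic]
    · have := mem_map_of_mem φ ((sup_eq_of_relIndex_prime' (hK.anti (Nat.le_succ _))
        (hK.relIndex_dvd h j) ht ht').ge h₇)
      rwa [Subgroup.map_sup, MonoidHom.map_zpowers,
        (Subgroup.map_eq_bot_iff (tsr K j.succ)).2 hker.ge, sup_bot_eq] at this
    · exact fun e => h₈ (hker.le e)
  · intro g hg hgt
    obtain ⟨c, k, hk, e₁⟩ := hcore.gen _ (hcore.conj_mem hg hcore.sP)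
    have e₂ : g * φ s * g⁻¹ = φ k * φ s ^ c := by rw [e₁, inv_mul_cancel_right]
    have hd2 := hcore.two_lt
    have hk2 := hcore.dg2 _ (mem_map_of_mem φ hk)
    rw [e₂, map_mul, map_pow, hcore.reg.cf_unip_mul le_rfl (hk2.mono (by omega))
      (hcore.reg.dg_N.unip_pow c), hcore.reg.cf_unip_pow le_rfl hcore.reg.dg_N,
      hcore.reg.cf_N (by omega), hcore.reg.cf_eq_zero hk2, zero_add, mul_one]
    obtain ⟨g, rfl⟩ := QuotientGroup.mk_surjective g
    obtain ⟨e₃, he₃, e₄⟩ := hlift (g * ι t * g⁻¹) t (by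
      rw [QuotientGroup.mk_mul, QuotientGroup.mk_mul, ← hφ', ← hgt.eq, QuotientGroup.mk_inv,
        mul_inv_cancel_right])
    obtain ⟨e₅, he₅, e₆⟩ := hlift (g * ι s * g⁻¹) (k * s ^ c) (by
      rw [map_mul, map_pow, ← e₂]; rfl)
    have hk' : (s ^ c)⁻¹ * (k * s ^ c * e₅) ∈ K := by
      have := mul_mem (hK.normal.conj_mem _ hk (s ^ c)⁻¹) (hK.le (lcs_anti (by omega) he₅))
      simpa [mul_assoc] using this
    have h₅ := hK.comm_weight h h2 hj (s := s) ht he₃ hk' c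
    rw [mul_inv_cancel_left] at h₅
    have hts : ⁅t, s⁆ ∈ lcs G (j + 1) := (hK.tsr_succ j).ge (commutator_mem_commutator ht trivial)
    have h₆ : ⁅t * e₃, k * s ^ c * e₅⁆ ∈ lcs G (j + 1) := by
      simpa using mul_mem (_root_.pow_mem hts c) (lcs_anti (Nat.le_succ _) h₅)
    have h₇ := hfl _ h₅ 0 one_pos
    rw [hπ.sub h₆ (_root_.pow_mem hts c), hπ.pow (p := p) hts, map_sub, map_smul, sub_eq_zero, ← hv,
      hcore.reg.co_self (by omega), smul_eq_mul, mul_one] at h₇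
    rw [MC.cf, hv, h₄ _ _ (mem_map_of_mem ι hts), ← h₇, map_commutatorElement ι t,
      map_commutatorElement, ← e₄, ← e₆, conjugate_commutatorElement]
  · set Y := (centralizer {φ t}).comap (QuotientGroup.mk' E) with hY
    have hιY : ∀ x, ι x ∈ Y := fun x =>
      mem_centralizer_singleton_iff.2 (hcore.tc _ ⟨x, rfl⟩).eq.symm
    set κ : G →* Y := ι.codRestrict Y hιY with hκ
    have hκi : Function.Injective κ := fun a b e => hι (congrArg Subtype.val e)
    have hκx : ¬ p ∣ κ.range.index := fun e => hidx (e.trans (by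
      have : κ.range = ι.range.subgroupOf Y := by
        ext y
        exact ⟨fun ⟨x, e⟩ => ⟨x, congrArg Subtype.val e⟩, fun ⟨x, e⟩ => ⟨x, Subtype.ext e⟩⟩
      rw [this]
      exact relIndex_dvd_index_of_le (by rintro _ ⟨x, rfl⟩; exact hιY x)))
    have hκp : IsPGroup p κ.range := by
      rw [MonoidHom.range_eq_map]; exact (h.isPGroup.to_subgroup _).map κ
    have hQ : pCore p Y ≤ κ.range := Fit.pCore_le_sylow (hκp.toSylow hκx)
    set Q := (pCore p Y).comap κ with hQ'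
    have hQm : Q.map κ = pCore p Y := map_comap_eq_self hQ
    have hconj : ∀ g, Commute (φ t) g → ∀ x ∈ Q, ∃ y ∈ Q, g * φ x * g⁻¹ = φ y := fun g hg x hx => by
      obtain ⟨g, rfl⟩ := QuotientGroup.mk_surjective g
      obtain ⟨y, hy, e⟩ := hQm.ge ((inferInstance : (pCore p Y).Normal).conj_mem _ hx
        ⟨g, mem_centralizer_singleton_iff.2 hg.eq.symm⟩)
      exact ⟨y, hy, (congrArg (fun z : Y => ((z : H) : H ⧸ E)) e).symm⟩
    by_cases hQK : Q ≤ K
    swap
    · obtain ⟨x, hx, hx'⟩ := SetLike.not_le_iff_exists.1 hQK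
      refine Or.inr ⟨φ x, ⟨x, rfl⟩, fun ⟨y, hy, e⟩ => hx' ?_, fun g hg => ?_⟩
      · have := hK.le (lcs_anti (by omega) (hker.le ((eq_iff_mem_ker φ).1 e)))
        exact (K.mul_mem_cancel_left (inv_mem hy)).1 this
      · obtain ⟨y, -, e⟩ := hconj g⁻¹ hg.inv_right x hx
        exact ⟨y, by rw [← e, inv_inv]⟩
    have htQ : tsr K j ≤ Q := by
      let f : Y →* H ⧸ E := (QuotientGroup.mk' E).comp Y.subtype
      have h₅ : ((zpowers (φ t)).comap f).Normal := ⟨fun a ha g => by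
        obtain ⟨m, hm⟩ := ha
        refine ⟨m, ?_⟩
        have hg : Commute (f g) (φ t) := mem_centralizer_singleton_iff.1 g.2
        simp only at hm ⊢
        rw [map_mul, map_mul, ← hm, (hg.zpow_right m).eq, map_inv, mul_inv_cancel_right]⟩
      have h₆ : IsPGroup p ((zpowers (φ t)).comap f) := by
        refine IsPGroup.comap_of_ker_isPGroup (hcore.pg.to_le (zpowers_le.2 ⟨t, rfl⟩)) f ?_
        rw [← MonoidHom.comap_ker, QuotientGroup.ker_mk']
        exact hEp.comap_subtype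
      intro x hx
      refine Fit.le_pCore h₅ h₆ ?_
      have := mem_map_of_mem φ ((sup_eq_of_relIndex_prime' (hK.anti (Nat.le_succ _))
        (hK.relIndex_dvd h j) ht ht').ge hx)
      rwa [Subgroup.map_sup, MonoidHom.map_zpowers,
        (Subgroup.map_eq_bot_iff (tsr K j.succ)).2 hker.ge, sup_bot_eq] at this
    obtain ⟨a, ha, hQa⟩ := hK.exists_tsr_eq h hQK
    have haj : a ≤ j := by
      by_contra e
      exact ht' (hK.anti (not_le.1 e) (hQa.le (htQ ht)))
    rcases a with _ | a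
    · refine Or.inl fun g hg => ?_
      rintro _ ⟨x, hx, rfl⟩
      obtain ⟨y, hy, e⟩ := hconj g hg x (hQa.ge hx)
      exact ⟨y, hQK hy, e.symm⟩
    · have hQa' : (lcs G (a + 1)).map κ = pCore p Y := (congrArg (map κ) hQa).symm.trans hQm
      refine (ih a haj κ hκi hκx (hQa' ▸ inferInstance) hQa'.ge (fun y hy => ?_)
        (Or.inl fun e => ?_)).elim
      · obtain ⟨x, hx, e⟩ := hC (show (y : H) ∈ centralizer (E : Set H) by
          rintro _ ⟨x, hx, rfl⟩
          exact congrArg Subtype.val (hy (κ x) (mem_map_of_mem κ (lcs_anti (by omega) hx))))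
        exact ⟨x, lcs_anti (by omega) hx, Subtype.ext e⟩
      · refine ht' (hCG t fun x hx => commutatorElement_eq_one_iff_commute.1 ?_)
        rw [← mem_bot, ← e]
        exact comm_mem_phi (hQa.le (htQ ht)) (lcs_anti (by omega) hx)

end Cfsg.Agent.Ess
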