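import Mathlib

/-! Statement of the homology lemma used for essential subgroups of groups of maximal class. -/

set_option autoImplicit false

namespace Cfsg.Agent.MC

open Module

universe u v

/-- `Y` has a Sylow `p`-subgroup `⟨s⟩` of order `p`, no nontrivial normal `p'`-subgroup, and a
faithful module on which `s` has one Jordan block (only this consequence is used: whatever commutes
with `s` has a single eigenvalue, in the prime field). If all the homologies `1 + (l - 1) e` lie in
`Y`, they normalize one Sylow `p`-subgroup. -/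
def HomStmt : Prop :=
  ∀ (p : ℕ) [Fact p.Prime] (Y : Type u) [Group Y] [Finite Y] (V : Type v) [AddCommGroup V]
    [Module (ZMod p) V] [Module.Finite (ZMod p) V] (ρ : Y →* End (ZMod p) V) (s : Y)
    (e : End (ZMod p) V), 5 ≤ p → Function.Injective ρ → orderOf s = p →
    ¬ p ∣ (Subgroup.zpowers s).index →
    (∀ R : Subgroup Y, R.Normal → ¬ p ∣ Nat.card R → R = ⊥) →
    (∀ A : End (ZMod p) V, Commute A (ρ s) → ∃ c : ZMod p, IsNilpotent (A - c • 1)) →
    e * e = e → (∀ l : ZMod p, l ≠ 0 → ∃ y, ρ y = 1 + (l - 1) • e) →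
    (7 ≤ p ∨ e * ρ s * e = ρ s * e) →
    ∃ g : Y, ∀ (y : Y) (l : ZMod p), ρ y = 1 + (l - 1) • e →
      y ∈ Subgroup.normalizer (Subgroup.zpowers (g * s * g⁻¹) : Set Y)

end Cfsg.Agent.MC
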