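import Cfsg.Agent.Lib.MC.Hom1
import Cfsg.Agent.Lib.MC.HomDefs

/-! The homology lemma. -/

set_option autoImplicit false
set_option linter.unusedSectionVars false

namespace Cfsg.Agent.MC

open Module Subgroup
open scoped Matrix TensorProduct

universe u v

section Ring
variable {R : Type*} [Ring R] {e f : R} (he : e * e = e) (hf : f * f = f)
include he hf

theorem hk_ke : (e + f - 1) ^ 2 * e = e * f * e ∧ e * (e + f - 1) ^ 2 = e * f * e := by
  have he' : ∀ x, e * (e * x) = e * x := fun x => by rw [← mul_assoc, he]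
  constructor <;> simp only [sq, mul_add, add_mul, mul_sub, sub_mul, mul_one, one_mul, mul_assoc,
    he, hf, he'] <;> abel

theorem hk_cc : (e * f - f * e) * (e * f - f * e) = (e + f - 1) ^ 2 * ((e + f - 1) ^ 2 - 1) := by
  have he' : ∀ x, e * (e * x) = e * x := fun x => by rw [← mul_assoc, he]
  have hf' : ∀ x, f * (f * x) = f * x := fun x => by rw [← mul_assoc, hf]
  simp only [sq, mul_add, add_mul, mul_sub, sub_mul, mul_one, one_mul, mul_assoc, he, hf, he', hf']
  abel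

theorem hk_k2 {F : Type*} [CommRing F] [Algebra F R] {a b : F} (hab : a + b + a * b = 0) :
    ((1 + a • e) * f * (1 + b • e) + f - 1) ^ 2 =
      1 + (a * b) • ((e * f - f * e) * (e * f - f * e)) := by
  have he' : ∀ x, e * (e * x) = e * x := fun x => by rw [← mul_assoc, he]
  have hf' : ∀ x, f * (f * x) = f * x := fun x => by rw [← mul_assoc, hf]
  simp only [sq, mul_add, add_mul, mul_sub, sub_mul, mul_one, one_mul, mul_assoc, hf, he', hf',
    smul_mul_assoc, mul_smul_comm, smul_add, smul_sub]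
  match_scalars <;> first | ring1 | linear_combination hab | linear_combination 2 * hab |
    linear_combination a * hab | linear_combination b * hab | linear_combination a * b * hab

end Ring

theorem hk_space {K W : Type*} [Field K] [IsAlgClosed K] [AddCommGroup W] [Module K W]
    [Module.Finite K W] {p : ℕ} [Fact p.Prime] [Algebra (ZMod p) K] (h7 : 7 ≤ p) {J : Type*}
    [Group J] [Finite J] (hJ : ¬ p ∣ Nat.card J) (π : J →* End K W) {e f : End K W}
    (he : e * e = e) (hf : f * f = f) (hA : ∀ y, π y ∈ Algebra.adjoin K {e, f})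
    (hE : ∀ l : ZMod p, l ≠ 0 → ∃ y, π y = 1 + algebraMap _ K (l - 1) • e)
    (hF : ∀ l : ZMod p, l ≠ 0 → ∃ y, π y = 1 + algebraMap _ K (l - 1) • f) :
    IsNilpotent ((e + f - 1) ^ 2 * ((e + f - 1) ^ 2 - 1)) := by
  obtain ⟨k1, k2⟩ := hk_ke he hf
  obtain ⟨k3, k4⟩ := hk_ke hf he
  have k5 : (e + f - 1) ^ 2 = 1 - e - f + e * f + f * e := by
    simp only [sq, mul_add, add_mul, mul_sub, sub_mul, mul_one, one_mul, he, hf]; abel
  rw [add_comm f] at k3 k4
  generalize (e + f - 1) ^ 2 = k at *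
  by_contra hn
  obtain ⟨κ, u, u0, hu, κ0⟩ : ∃ (κ : K) (u : W), u ≠ 0 ∧ k u = κ • u ∧ κ * (κ - 1) ≠ 0 := by
    by_contra! h
    refine hn ⟨finrank K W, LinearMap.ker_eq_top.1 (top_le_iff.1 ?_)⟩
    rw [← End.iSup_maxGenEigenspace_eq_top k]
    refine iSup_le fun κ => ?_
    by_cases b : k.maxGenEigenspace κ = ⊥
    · rw [b]; exact bot_le
    obtain ⟨u, hu⟩ := End.HasEigenvalue.exists_hasEigenvector
      (End.HasUnifEigenvalue.lt (k := ⊤) zero_lt_one b)
    intro x hx
    rw [End.maxGenEigenspace_eq_genEigenspace_finrank, End.mem_genEigenspace_nat,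
      LinearMap.mem_ker] at hx
    have c : Commute k (k - 1) := (Commute.refl k).sub_right (Commute.one_right k)
    rcases mul_eq_zero.1 (h κ u hu.2 hu.apply_eq_smul) with h0 | h0
    · rw [h0, zero_smul, sub_zero] at hx
      rw [LinearMap.mem_ker, c.eq, c.symm.mul_pow, End.mul_apply, hx, map_zero]
    · rw [sub_eq_zero.1 h0, one_smul] at hx
      rw [LinearMap.mem_ker, c.mul_pow, End.mul_apply, hx, map_zero]
  have ee : ∀ x, e (e x) = e x := fun x => LinearMap.congr_fun he x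
  have ff : ∀ x, f (f x) = f x := fun x => LinearMap.congr_fun hf x
  have idem : ∀ (x : W) (a : K), f x = a • x → a * (a - 1) ≠ 0 → x = 0 := fun x a h a0 => by
    have := ff x
    rw [h, map_smul, h, smul_smul, ← sub_eq_zero, ← sub_smul, smul_eq_zero] at this
    exact this.resolve_left fun h => a0 (by linear_combination h)
  obtain ⟨v, v0, ev, kv⟩ : ∃ v : W, v ≠ 0 ∧ e v = v ∧ k v = κ • v := by
    have ke : ∀ x, k (e x) = e (k x) := fun x => LinearMap.congr_fun (k1.trans k2.symm) x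
    have kf : ∀ x, k (f x) = f (k x) := fun x => LinearMap.congr_fun (k3.trans k4.symm) x
    by_cases h1 : e u = 0
    · refine ⟨e (f u), fun h2 => u0 (idem u (1 - κ) ?_ fun h => κ0 (by linear_combination h)),
        ee _, by rw [ke, kf, hu, map_smul, map_smul]⟩
      rw [k5] at hu
      simp only [LinearMap.add_apply, LinearMap.sub_apply, End.mul_apply, End.one_apply, h1, h2,
        map_zero] at hu
      linear_combination (norm := module) -hu
    · exact ⟨e u, h1, ee u, by rw [ke, hu, map_smul]⟩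
  have efv : e (f v) = κ • v := by
    have := LinearMap.congr_fun k1 v
    simpa only [End.mul_apply, ev, kv] using this.symm
  let Θ : (Fin 2 → K) → W := fun x => x 0 • v + x 1 • (f v - κ • v)
  let Rl : End K W → Matrix (Fin 2) (Fin 2) K → Prop := fun a M => ∀ x, a (Θ x) = Θ (M *ᵥ x)
  have inj : ∀ a M N, Rl a M → Rl a N → M = N := fun a M N h1 h2 => by
    refine Matrix.ext_iff_mulVec.2 fun x => ?_
    have h := (h1 x).symm.trans (h2 x)
    generalize M *ᵥ x = y, N *ᵥ x = z at h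
    have h0 := congrArg e h
    simp only [Θ, map_add, map_smul, map_sub, ev, efv, sub_self, smul_zero, add_zero] at h0
    have a0 := smul_left_injective K v0 h0
    simp only [Θ, show y 0 = z 0 from a0, add_right_inj] at h
    have a1 := smul_left_injective K (fun w0 => v0 (idem v κ (sub_eq_zero.1 w0) κ0)) h
    ext i; fin_cases i; exacts [a0, a1]
  have Rm : ∀ a b M N, Rl a M → Rl b N → Rl (a * b) (M * N) := fun a b M N h1 h2 x => by
    rw [End.mul_apply, h2, h1, Matrix.mulVec_mulVec]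
  have Ra : ∀ a b M N, Rl a M → Rl b N → Rl (a + b) (M + N) := fun a b M N h1 h2 x => by
    rw [LinearMap.add_apply, h2, h1, Matrix.add_mulVec]; simp only [Θ, Pi.add_apply]; module
  have Rs : ∀ (r : K) a M, Rl a M → Rl (r • a) (r • M) := fun r a M h x => by
    rw [LinearMap.smul_apply, h, Matrix.smul_mulVec]; simp only [Θ, Pi.smul_apply]; module
  have R1 : Rl 1 1 := fun x => by simp
  let E : Idem K := ⟨!![1, 0; 0, 0], by simp⟩
  let F : Idem K := ⟨!![κ, κ * (1 - κ); 1, 1 - κ], by simp⟩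
  have Re : Rl e E.1 := fun x => by simp [Θ, E, ev, efv, dotProduct]
  have Rf : Rl f F.1 := fun x => by
    simp [Θ, F, ff, dotProduct]; module
  have ex : ∀ a ∈ Algebra.adjoin K {e, f}, ∃ M, Rl a M := fun a ha => by
    induction ha using Algebra.adjoin_induction with
    | mem a ha => rcases ha with rfl | rfl; exacts [⟨_, Re⟩, ⟨_, Rf⟩]
    | algebraMap r => exact ⟨_, Algebra.algebraMap_eq_smul_one (A := End K W) r ▸ Rs r _ _ R1⟩
    | add a b _ _ h1 h2 => exact ⟨_, Ra _ _ _ _ h1.choose_spec h2.choose_spec⟩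
    | mul a b _ _ h1 h2 => exact ⟨_, Rm _ _ _ _ h1.choose_spec h2.choose_spec⟩
  choose σ hσ using fun y => ex _ (hA y)
  have key : ∀ a M, Rl a M → (∀ l : ZMod p, l ≠ 0 → ∃ y, π y = 1 + algebraMap _ K (l - 1) • a) →
      ∀ l : ZMod p, l ≠ 0 → ∃ y, σ y = 1 + (l - 1) • M := fun a M h hE l hl =>
    let ⟨y, hy⟩ := hE l hl
    ⟨y, inj _ _ _ (hσ y) (hy ▸ algebraMap_smul K (l - 1) M ▸ Ra _ _ _ _ R1 (Rs _ _ _ h))⟩
  have := hk_plane h7 hJ
    { toFun := σ
      map_one' := inj _ _ _ (hσ 1) (map_one π ▸ R1)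
      map_mul' := fun x y => inj _ _ _ (hσ _) (map_mul π x y ▸ Rm _ _ _ _ (hσ x) (hσ y)) }
    E F (key e _ Re hE) (key f _ Rf hF)
  simpa [E, F] using congrFun (congrFun this 1) 0

section Main

variable {p : ℕ} [hp : Fact p.Prime] {Y : Type u} [Group Y] [Finite Y] {V : Type v} [AddCommGroup V]
  [Module (ZMod p) V] [Module.Finite (ZMod p) V] (ρ : Y →* End (ZMod p) V) (s : Y)

/-- `e` is an idempotent all of whose homologies lie in the group. -/
def Hm (e : End (ZMod p) V) : Prop :=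
  e * e = e ∧ ∀ l : ZMod p, l ≠ 0 → ∃ y, ρ y = 1 + (l - 1) • e

/-- The homologies of `e` normalize a conjugate of `⟨s⟩`. -/
def Res (e : End (ZMod p) V) : Prop :=
  ∃ g : Y, ∀ (y : Y) (l : ZMod p), ρ y = 1 + (l - 1) • e →
    y ∈ normalizer (zpowers (g * s * g⁻¹) : Set Y)

theorem hk_inv {M : Submonoid Y} {y : Y} (hy : y ∈ M) : y⁻¹ ∈ M :=
  Submonoid.powers_le.2 hy (mem_powers_iff_mem_zpowers.2 (inv_mem (mem_zpowers y)))

/-- The elements represented in a subalgebra. -/
def JA (A : Subalgebra (ZMod p) (End (ZMod p) V)) : Subgroup Y where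
  toSubmonoid := A.toSubsemiring.toSubmonoid.comap ρ
  inv_mem' := hk_inv

variable {ρ s}

theorem Hm.conj {e : End (ZMod p) V} (h : Hm ρ e) (g : Y) : Hm ρ (ρ g * e * ρ g⁻¹) := by
  have i1 : ρ g * ρ g⁻¹ = 1 := by rw [← map_mul, mul_inv_cancel, map_one]
  have i2 : ρ g⁻¹ * ρ g = 1 := by rw [← map_mul, inv_mul_cancel, map_one]
  refine ⟨by rw [mul_assoc, ← mul_assoc (ρ g⁻¹), ← mul_assoc (ρ g⁻¹), i2, one_mul, ← mul_assoc,
    mul_assoc _ e e, h.1], fun l hl => ?_⟩
  obtain ⟨y, hy⟩ := h.2 l hl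
  exact ⟨g * y * g⁻¹, by simp only [map_mul, hy, mul_add, add_mul, mul_one, i1, mul_smul_comm,
    smul_mul_assoc]⟩

theorem mem_JA {e f : End (ZMod p) V} {y : Y} {l : ZMod p}
    (h : ρ y = 1 + l • e ∨ ρ y = 1 + l • f) : y ∈ JA ρ (Algebra.adjoin _ {e, f}) := by
  change ρ y ∈ Algebra.adjoin _ {e, f}
  rcases h with h | h <;> rw [h] <;>
    exact add_mem (one_mem _) (Subalgebra.smul_mem _ (Algebra.subset_adjoin (by simp)) _)

variable (h5 : 5 ≤ p) (hρ : Function.Injective ρ)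
  (syl : ∀ P : Subgroup Y, IsPGroup p P → P ≠ ⊥ → ∃ g, P = zpowers (g * s * g⁻¹))
include h5

theorem hk_ne {n : ℕ} (h : n ∣ 2 ^ 2 * 3 ^ 2) : (n : ZMod p) ≠ 0 := fun e => by
  rcases (hp.out.dvd_mul.1 (((ZMod.natCast_eq_zero_iff n p).1 e).trans h)) with h | h <;>
    have := Nat.le_of_dvd (by omega) (hp.out.dvd_of_dvd_pow h) <;> omega

include hρ syl

theorem res_of_nil {e f : End (ZMod p) V} (he : Hm ρ e) (hf : Hm ρ f) (c0 : e * f - f * e ≠ 0)
    (hn : IsNilpotent ((e * f - f * e) * (e * f - f * e))) : Res ρ s f := by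
  have ec : e * (e * f - f * e) = (e * f - f * e) * (1 - e) := by
    simp only [mul_sub, sub_mul, mul_one, ← mul_assoc, he.1, mul_assoc f e e]; abel
  have fc : f * (e * f - f * e) = (e * f - f * e) * (1 - f) := by
    simp only [mul_sub, sub_mul, mul_one, ← mul_assoc, hf.1, mul_assoc e f f]; abel
  let A := Algebra.adjoin (ZMod p) {e, f}
  have eA : e ∈ A := Algebra.subset_adjoin (by simp)
  have fA : f ∈ A := Algebra.subset_adjoin (by simp)
  have cA : e * f - f * e ∈ A := sub_mem (mul_mem eA fA) (mul_mem fA eA)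
  obtain ⟨y₁, h1⟩ := he.2 2 (hk_ne h5 (n := 2) (by decide))
  obtain ⟨y₂, h2⟩ := hf.2 2 (hk_ne h5 (n := 2) (by decide))
  have cy : ρ (y₁ * y₂) = ρ (y₂ * y₁) + (e * f - f * e) := by
    simp only [map_mul, h1, h2, show (2 : ZMod p) - 1 = 1 by ring, one_smul]; noncomm_ring
  generalize e * f - f * e = c at *
  have sw : ∀ a ∈ A, ∃ b ∈ A, a * c = c * b := fun a ha => by
    induction ha using Algebra.adjoin_induction with
    | mem a ha =>
      rcases ha with rfl | rfl
      exacts [⟨_, sub_mem (one_mem _) eA, ec⟩, ⟨_, sub_mem (one_mem _) fA, fc⟩]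
    | algebraMap r => exact ⟨_, algebraMap_mem _ r, Algebra.commutes r c⟩
    | add a b _ _ h1 h2 =>
      obtain ⟨⟨a', ha, e1⟩, b', hb, e2⟩ := And.intro h1 h2
      exact ⟨a' + b', add_mem ha hb, by rw [add_mul, mul_add, e1, e2]⟩
    | mul a b _ _ h1 h2 =>
      obtain ⟨⟨a', ha, e1⟩, b', hb, e2⟩ := And.intro h1 h2
      exact ⟨a' * b', mul_mem ha hb, by rw [mul_assoc, e2, ← mul_assoc, e1, mul_assoc]⟩
  have pw : ∀ a ∈ A, ∀ n : ℕ, ∃ b ∈ A, (c * a) ^ n = c ^ n * b := fun a ha n => by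
    induction n with
    | zero => exact ⟨1, one_mem _, by simp⟩
    | succ n ih =>
      obtain ⟨b, hb, e1⟩ := ih
      obtain ⟨b', hb', e2⟩ := sw b hb
      exact ⟨b' * a, mul_mem hb' ha, by
        rw [pow_succ, e1, mul_assoc, ← mul_assoc b, e2, pow_succ]; simp only [mul_assoc]⟩
  let M : Submonoid Y :=
    { carrier := {y | ∃ a ∈ A, ρ y = 1 + c * a}
      one_mem' := ⟨0, zero_mem _, by simp⟩
      mul_mem' := by
        rintro x y ⟨a, ha, e1⟩ ⟨b, hb, e2⟩
        exact ⟨a + b + a * c * b, add_mem (add_mem ha hb) (mul_mem (mul_mem ha cA) hb),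
          by rw [map_mul, e1, e2]; noncomm_ring⟩ }
  let P : Subgroup Y := ⟨M, hk_inv⟩
  have : Nontrivial (End (ZMod p) V) := nontrivial_of_ne _ _ c0
  have : CharP (End (ZMod p) V) p := charP_of_injective_algebraMap' (ZMod p) p
  obtain ⟨N, hN⟩ := hn
  obtain ⟨g, hg⟩ := syl P (fun y => ⟨2 * N, Subtype.ext (hρ (by
      obtain ⟨y, a, ha, e1⟩ := y
      obtain ⟨b, -, e2⟩ := pw a ha (2 * N)
      rw [pow_mul c, sq c, hN, zero_mul] at e2
      change ρ (y ^ p ^ (2 * N)) = ρ 1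
      rw [map_pow, e1, add_pow_char_pow_of_commute _ _ (Commute.one_left _), one_pow, map_one,
        pow_eq_zero_of_le (Nat.lt_pow_self hp.out.one_lt).le e2, add_zero]))⟩) fun h => by
    have m : y₁ * y₂ * (y₂ * y₁)⁻¹ ∈ P := ⟨_, (JA ρ A).inv_mem (mul_mem (mem_JA (Or.inr h2))
      (mem_JA (Or.inl h1))), by rw [map_mul, cy, add_mul, ← map_mul, mul_inv_cancel, map_one]⟩
    rw [h, mem_bot, mul_inv_eq_one] at m
    exact c0 (by simpa [m] using cy)
  refine ⟨g, fun y l hy => hg ▸ mem_normalizer_fintype ?_⟩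
  rintro x ⟨a, ha, e1⟩
  have m := mem_JA (e := e) (Or.inr hy)
  obtain ⟨b, hb, e2⟩ := sw _ m
  exact ⟨b * a * ρ y⁻¹, mul_mem (mul_mem hb ha) ((JA ρ A).inv_mem m), by
    rw [map_mul, map_mul, e1, mul_add, add_mul, mul_one, ← map_mul, mul_inv_cancel, map_one,
      ← mul_assoc, e2]; simp only [mul_assoc]⟩

theorem res_step {e f : End (ZMod p) V} (he : Hm ρ e) (hf : Hm ρ f) {κ : ZMod p}
    (hκ : IsNilpotent ((e + f - 1) ^ 2 - κ • 1)) {l : ZMod p} (hl : l ≠ 0) :
    ∃ t : Y, ρ t = 1 + (l - 1) • e ∧ ρ t⁻¹ = 1 + (l⁻¹ - 1) • e ∧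
      IsNilpotent ((ρ t * f * ρ t⁻¹ + f - 1) ^ 2 -
        (1 + (l - 1) * (l⁻¹ - 1) * (κ * (κ - 1))) • 1) := by
  obtain ⟨t, ht⟩ := he.2 l hl
  have ht' : ρ t⁻¹ = 1 + (l⁻¹ - 1) • e := left_inv_eq_right_inv
    (by rw [← map_mul, inv_mul_cancel, map_one] : ρ t⁻¹ * ρ t = 1)
    (by rw [ht, hk_mul he.1, mul_inv_cancel₀ hl, sub_self, zero_smul, add_zero])
  refine ⟨t, ht, ht', ?_⟩
  rw [ht, ht', hk_k2 he.1 hf.1 (by field_simp; ring), hk_cc he.1 hf.1]
  generalize (e + f - 1) ^ 2 = k at *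
  have c : Commute (k - κ • 1) (k + (κ - 1) • 1) :=
    ((Commute.refl k).add_right ((Commute.one_right k).smul_right _)).sub_left
      ((Commute.one_left _).smul_left _)
  have := (c.isNilpotent_mul_right hκ).smul ((l - 1) * (l⁻¹ - 1))
  generalize (l - 1) * (l⁻¹ - 1) = m at this ⊢
  refine (congrArg IsNilpotent ?_).mp this
  simp only [mul_add, mul_sub, sub_mul, mul_one, smul_mul_assoc, mul_smul_comm, one_mul]
  module

theorem res_of_kappa {e f : End (ZMod p) V} (he : Hm ρ e) (hf : Hm ρ f) (f0 : f ≠ 0) {κ : ZMod p}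
    (hκ : IsNilpotent ((e + f - 1) ^ 2 - κ • 1)) (k0 : κ ≠ 0) (k1 : κ ≠ 1) (k2 : 2 * κ ≠ 1) :
    Res ρ s f := by
  have k1' := sub_ne_zero.2 k1
  obtain ⟨t, h1, h2, hn⟩ := res_step h5 hρ syl he hf hκ (div_ne_zero k1' k0)
  rw [show 1 + ((κ - 1) / κ - 1) * (((κ - 1) / κ)⁻¹ - 1) * (κ * (κ - 1)) = 0 by field_simp; ring,
    zero_smul, sub_zero] at hn
  have hg := hf.conj t
  refine res_of_nil h5 hρ syl hg hf (fun c => f0 ?_) (by
    rw [hk_cc hg.1 hf.1]
    exact ((Commute.refl _).sub_right (Commute.one_right _)).isNilpotent_mul_right hn)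
  have i2 : ρ t⁻¹ * ρ t = 1 := by rw [← map_mul, inv_mul_cancel, map_one]
  have e1 : ρ t * f * ρ t⁻¹ = 1 - f := by
    have u := hn.isUnit_sub_one
    have g2 := hg.1
    generalize ρ t * f * ρ t⁻¹ = g at *
    have g' : ∀ x, g * (g * x) = g * x := fun x => by rw [← mul_assoc, g2]
    have : ((g + f - 1) ^ 2 - 1) * (g + f - 1) = 0 := by
      simp only [sq, mul_add, add_mul, mul_sub, sub_mul, mul_one, one_mul, mul_assoc, g2, hf.1, g',
        ← sub_eq_zero.1 c]
      abel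
    exact eq_sub_of_add_eq (sub_eq_zero.1 (u.mul_right_eq_zero.1 this))
  have e2 : f * ρ t * f = 0 := by
    rw [mul_assoc, ← mul_one (ρ t * f), ← i2, ← mul_assoc (ρ t * f), e1, ← mul_assoc, mul_sub,
      hf.1, mul_one, sub_self, zero_mul]
  have e3 : f * ρ t⁻¹ * f = 0 := by
    rw [← one_mul (f * _), ← i2, mul_assoc (ρ t⁻¹), ← mul_assoc (ρ t), e1, mul_assoc, sub_mul,
      hf.1, one_mul, sub_self, mul_zero]
  rw [h1] at e2; rw [h2] at e3
  simp only [mul_add, add_mul, mul_one, hf.1, mul_smul_comm, smul_mul_assoc] at e2 e3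
  have e4 : (1 - 2 * κ) • f = 0 := by
    have a1 : κ * ((κ - 1) / κ - 1) = -1 := by field_simp; ring
    have a2 : (κ - 1) * (((κ - 1) / κ)⁻¹ - 1) = 1 := by field_simp; ring
    linear_combination (norm := module) (-κ) • e2 - (κ - 1) • e3 + a1 • (f * e * f) +
      a2 • (f * e * f)
  exact (smul_eq_zero.1 e4).resolve_left (sub_ne_zero.2 k2.symm)

end Main

theorem hom : HomStmt.{u, v} := by
  intro p hp Y _ _ V _ _ _ ρ s e h5 hρ os hs hO hC he hE h7
  have hm : Hm ρ e := ⟨he, hE⟩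
  have syl : ∀ P : Subgroup Y, IsPGroup p P → P ≠ ⊥ → ∃ g, P = zpowers (g * s * g⁻¹) := by
    intro P hP h1
    obtain ⟨Q, hQ⟩ := hP.exists_le_sylow
    obtain ⟨g, hg⟩ := MulAction.exists_smul_eq Y
      ((IsPGroup.of_card (n := 1) (by rw [Nat.card_zpowers, os, pow_one])).toSylow hs) Q
    have e1 : (Q : Subgroup Y) = zpowers (g * s * g⁻¹) := by
      rw [← hg, Sylow.coe_subgroup_smul]
      exact MonoidHom.map_zpowers _ s
    rw [e1] at hQ
    refine ⟨g, eq_of_le_of_card_ge hQ ?_⟩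
    have := card_dvd_of_le hQ
    rw [Nat.card_zpowers, show orderOf (g * s * g⁻¹) = p from os ▸ (MulAut.conj g).orderOf_eq s]
      at this ⊢
    exact ((Nat.dvd_prime hp.out).1 this).elim (fun h => absurd (card_eq_one.1 h) h1) (·.ge)
  have i1 : ∀ g, ρ g * ρ g⁻¹ = 1 := fun g => by rw [← map_mul, mul_inv_cancel, map_one]
  have i2 : ∀ g, ρ g⁻¹ * ρ g = 1 := fun g => by rw [← map_mul, inv_mul_cancel, map_one]
  change Res ρ s e
  rcases (or_iff_not_imp_left.1 h7 |> (em (7 ≤ p)).imp_right) with h7 | h7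
  swap
  · have h8 : e * ρ s⁻¹ * e = ρ s⁻¹ * e := by
      have : ∀ n : ℕ, e * ρ (s ^ n) * e = ρ (s ^ n) * e := fun n => by
        induction n with
        | zero => simp [he]
        | succ n ih => rw [pow_succ, map_mul, mul_assoc, mul_assoc, ← h7, mul_assoc e,
            ← mul_assoc (ρ _), ← mul_assoc e, ← mul_assoc e, ih]
      obtain ⟨n, hn⟩ := mem_powers_iff_mem_zpowers.2 (inv_mem (mem_zpowers s))
      exact hn ▸ this n
    have a1 : e * (ρ s * e * ρ s⁻¹) = ρ s * e * ρ s⁻¹ := by rw [← mul_assoc, ← mul_assoc, h7]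
    have a2 : ρ s * e * ρ s⁻¹ * e = e := by
      rw [mul_assoc (ρ s), mul_assoc (ρ s), h8, ← mul_assoc, i1, one_mul]
    by_cases c : e = ρ s * e * ρ s⁻¹
    · refine ⟨1, fun y l hy => centralizer_le_normalizer _ ?_⟩
      rintro _ ⟨n, rfl⟩
      refine Commute.zpow_left (hρ ?_) n
      have : ρ s * e = e * ρ s := by conv_rhs => rw [c, mul_assoc, i2, mul_one]
      simp [hy, mul_add, add_mul, this]
    · refine res_of_nil h5 hρ syl (hm.conj s) hm (by rw [a1, a2]; exact sub_ne_zero.2 c) ⟨1, ?_⟩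
      rw [a1, a2, pow_one, mul_sub, sub_mul, sub_mul, a1, a2, he, (hm.conj s).1]; simp
  by_cases e0 : e = 0
  · exact ⟨1, fun y l hy => by rw [hρ (hy.trans (by simp [e0]) : ρ y = ρ 1)]; exact one_mem _⟩
  obtain ⟨g, c0⟩ : ∃ g, ρ g * e * ρ g⁻¹ * e - e * (ρ g * e * ρ g⁻¹) ≠ 0 := by
    by_contra! c
    let T : Set Y := {y | ∃ g l, l ≠ 0 ∧ ρ y = 1 + (l - 1 : ZMod p) • (ρ g * e * ρ g⁻¹)}
    have cj : ∀ x g, ρ x * (ρ g * e * ρ g⁻¹) * ρ x⁻¹ = ρ (x * g) * e * ρ (x * g)⁻¹ := fun x g => by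
      simp only [mul_inv_rev, map_mul, mul_assoc]
    have Tc : ∀ x : Y, ∀ y ∈ T, x * y * x⁻¹ ∈ T := by
      rintro x y ⟨g, l, hl, hy⟩
      exact ⟨x * g, l, hl, by rw [← cj]; simp only [map_mul, hy, mul_add, add_mul, mul_one, i1,
        mul_smul_comm, smul_mul_assoc]⟩
    have c1 : closure T ≤ centralizer T := (closure_le _).2 fun y ⟨g, l, _, hy⟩ x ⟨h, m, _, hx⟩ => by
      have := congrArg (ρ g * · * ρ g⁻¹) (sub_eq_zero.1 (c (g⁻¹ * h)))
      have e1 : ρ h * e * ρ h⁻¹ * (ρ g * e * ρ g⁻¹) = ρ g * e * ρ g⁻¹ * (ρ h * e * ρ h⁻¹) := by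
        simpa only [mul_inv_rev, inv_inv, map_mul, ← mul_assoc, i1, one_mul, mul_assoc _ (ρ g) (ρ g⁻¹),
          mul_one] using this
      refine hρ ?_
      rw [map_mul, map_mul, hy, hx]
      exact (((Commute.one_left _).add_left ((Commute.one_right _).add_right
        (Commute.smul_right (Commute.smul_left e1 _) _)))).eq
    have c2 : closure T ≤ centralizer (closure T) :=
      le_centralizer_iff.1 ((closure_le _).2 fun y hy x hx => (c1 hx y hy).symm)
    have pw : ∀ y ∈ closure T, y ^ (p - 1) = 1 := fun y hy => by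
      induction hy using closure_induction with
      | mem y hy =>
        obtain ⟨g, l, hl, hy⟩ := hy
        have : ∀ n : ℕ, ρ (y ^ n) = 1 + (l ^ n - 1) • (ρ g * e * ρ g⁻¹) := fun n => by
          induction n with
          | zero => simp
          | succ n ih => rw [pow_succ, map_mul, ih, hy, hk_mul (hm.conj g).1, pow_succ]
        exact hρ (by rw [this, ZMod.pow_card_sub_one_eq_one hl]; simp)
      | one => exact one_pow _
      | mul x y hx hy h1 h2 => rw [Commute.mul_pow (c2 hy x hx), h1, h2, one_mul]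
      | inv x _ h => rw [inv_pow, h, inv_one]
    have := hO (closure T) ⟨fun y hy x => (closure_le ((closure T).comap (MulAut.conj x).toMonoidHom)).2
      (fun y hy => subset_closure (Tc x y hy)) hy⟩ fun d => by
        obtain ⟨u, hu⟩ := exists_prime_orderOf_dvd_card' p d
        have := orderOf_dvd_of_pow_eq_one (pw u u.2)
        rw [orderOf_coe, hu] at this
        have := Nat.le_of_dvd (by omega) this
        omega
    obtain ⟨y, hy⟩ := hE 2 (hk_ne h5 (n := 2) (by decide))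
    have m : y ∈ closure T := subset_closure ⟨1, 2, hk_ne h5 (n := 2) (by decide), by simpa using hy⟩
    rw [this, mem_bot] at m
    rw [m, map_one, show (2 : ZMod p) - 1 = 1 by ring, one_smul] at hy
    exact e0 (by simpa using hy)
  have hf := hm.conj g
  generalize ρ g * e * ρ g⁻¹ = f at c0 hf
  by_cases hn : IsNilpotent ((f + e - 1) ^ 2 * ((f + e - 1) ^ 2 - 1))
  · exact res_of_nil h5 hρ syl hf hm c0 (hk_cc hf.1 he ▸ hn)
  let J := JA ρ (Algebra.adjoin _ {f, e})
  by_cases hJ : p ∣ Nat.card J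
  · obtain ⟨u, hu⟩ := exists_prime_orderOf_dvd_card' p hJ
    rw [← orderOf_coe] at hu
    obtain ⟨x, hx⟩ := syl (zpowers (u : Y)) (.of_card (n := 1) (by rw [Nat.card_zpowers, hu, pow_one]))
      (fun h => by rw [zpowers_eq_bot.1 h, orderOf_one] at hu; omega)
    have m : x * s * x⁻¹ ∈ J := zpowers_le.2 u.2 (hx ▸ mem_zpowers _)
    have c : Commute ((f + e - 1) ^ 2) (ρ (x * s * x⁻¹)) := by
      refine Algebra.commute_of_mem_adjoin_of_forall_mem_commute m ?_
      rintro _ (rfl | rfl)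
      · exact (hk_ke hf.1 he).1.trans (hk_ke hf.1 he).2.symm
      · exact add_comm f _ ▸ (hk_ke he hf.1).1.trans (hk_ke he hf.1).2.symm
    obtain ⟨κ, N, hN⟩ := hC (ρ x⁻¹ * (f + e - 1) ^ 2 * ρ x) (by
      have := congrArg (ρ x⁻¹ * · * ρ x) c.eq
      simpa only [Commute, SemiconjBy, map_mul, ← mul_assoc, i2, one_mul,
        mul_assoc _ (ρ x⁻¹) (ρ x), mul_one] using this)
    have hκ : IsNilpotent ((f + e - 1) ^ 2 - κ • 1) := by
      have := Units.conj_pow (ρ.toHomUnits x) (ρ x⁻¹ * (f + e - 1) ^ 2 * ρ x - κ • 1) N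
      rw [hN, mul_zero, zero_mul, ← map_inv] at this
      refine ⟨N, ?_⟩
      simpa only [MonoidHom.coe_toHomUnits, mul_sub, sub_mul, ← mul_assoc, i1, one_mul,
        mul_assoc _ (ρ x) (ρ x⁻¹), mul_one, mul_smul_comm, smul_mul_assoc] using this
    have cc := (Commute.refl ((f + e - 1) ^ 2)).sub_right (Commute.one_right _)
    have k0 : κ ≠ 0 := fun h => hn (cc.isNilpotent_mul_right (by simpa [h] using hκ))
    have k1 : κ ≠ 1 := fun h => hn (cc.isNilpotent_mul_left (by simpa [h] using hκ))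
    by_cases k2 : 2 * κ = 1
    swap
    · exact res_of_kappa h5 hρ syl hf hm e0 hκ k0 k1 k2
    have n2 : (2 : ZMod p) ≠ 0 := hk_ne h5 (n := 2) (by decide)
    obtain ⟨t, -, -, ht⟩ := res_step h5 hρ syl hf hm hκ n2
    obtain rfl : κ = 2⁻¹ := eq_inv_of_mul_eq_one_right k2
    have n8 : (8 : ZMod p) ≠ 0 := by
      rw [show (8 : ZMod p) = 2 ^ 3 by norm_num]; exact pow_ne_zero _ n2
    rw [show 1 + (2 - 1) * (2⁻¹ - 1) * (2⁻¹ * (2⁻¹ - 1)) = (9 / 8 : ZMod p) by
      rw [show (8 : ZMod p) = 2 ^ 3 by norm_num]; field_simp; norm_num] at ht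
    refine res_of_kappa h5 hρ syl (hm.conj t) hm e0 ht
      (div_ne_zero (hk_ne h5 (n := 9) (by decide)) n8) (fun h => ?_) fun h => ?_
    · exact one_ne_zero (by field_simp at h; linear_combination h : (1 : ZMod p) = 0)
    · have : ((10 : ℕ) : ZMod p) = 0 := by field_simp at h; push_cast; linear_combination h
      rw [ZMod.natCast_eq_zero_iff] at this
      rcases hp.out.dvd_mul.1 (show p ∣ 2 * 5 from this) with h | h <;>
        have := Nat.le_of_dvd (by omega) h <;> omega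
  let K := AlgebraicClosure (ZMod p)
  let β := End.baseChangeHom (ZMod p) K V
  have key : ∀ a, a ∈ ({f, e} : Set _) → Hm ρ a → ∀ l : ZMod p, l ≠ 0 → ∃ y : J,
      (β.toRingHom.toMonoidHom.comp (ρ.comp J.subtype)) y = 1 + algebraMap _ K (l - 1) • β a := by
    intro a ha h l hl
    obtain ⟨y, hy⟩ := h.2 l hl
    exact ⟨⟨y, mem_JA (by rcases ha with rfl | rfl; exacts [Or.inl hy, Or.inr hy])⟩, by
      rw [algebraMap_smul]; simp [hy]⟩
  have := hk_space h7 hJ _ (e := β f) (f := β e) (by rw [← map_mul, hf.1]) (by rw [← map_mul, he])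
    (fun y => Algebra.adjoin_le (S := ((Algebra.adjoin K {β f, β e}).restrictScalars _).comap β)
      (by rintro _ (rfl | rfl) <;> exact Algebra.subset_adjoin (by simp)) y.2)
    (key f (by simp) hf) (key e (by simp) hm)
  exact absurd ((IsNilpotent.map_iff (f := β) (LinearMap.baseChangeHom_injective _ _ _)).1
    (by simpa using this)) hn

end Cfsg.Agent.MC
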