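import Cfsg.Agent.Lib.ZJ.Klein

/-! Two groups of homologies of order at least six on a plane do not generate a `p'`-group. -/

set_option autoImplicit false

namespace Cfsg.Agent.MC

open MulAction Finset Dickson

theorem hk_klein {Γ Y : Type*} [Group Γ] [Finite Γ] [MulAction Γ Y]
    (hfix : ∀ g : Γ, g ≠ 1 → ∃ a b : Y, a ≠ b ∧ ∀ y, g • y = y ↔ y = a ∨ y = b) {y₁ y₂ y₃ : Y}
    (h12 : y₁ ≠ y₂) (h13 : y₁ ≠ y₃) (h23 : y₂ ≠ y₃) (s1 : 6 ≤ Nat.card (stabilizer Γ y₁))
    (s2 : 6 ≤ Nat.card (stabilizer Γ y₂)) (s3 : 6 ≤ Nat.card (stabilizer Γ y₃)) : False := by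
  classical
  have := Fintype.ofFinite Γ
  have : Nonempty Y := ⟨y₁⟩
  choose! a b hne hab using hfix
  let N : Finset Γ := univ.filter (· ≠ 1)
  let X : Finset Y := N.biUnion fun g => {a g, b g}
  have hX : ∀ y, y ∈ X ↔ ∃ g : Γ, g ≠ 1 ∧ g • y = y := fun y => by
    simp only [X, N, mem_biUnion, mem_filter, mem_univ, true_and, mem_insert, mem_singleton]
    exact exists_congr fun g => and_congr_right fun hg => (hab g hg y).symm
  let w : Y → ℕ := fun y => ∑ g ∈ N, if g • y = y then 1 else 0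
  have hsum : ∑ y ∈ X, w y + 2 = 2 * Nat.card Γ := by
    have hN : #N + 1 = Nat.card Γ := by
      rw [Nat.card_eq_fintype_card, show N = _ from filter_ne' univ (1 : Γ),
        card_erase_add_one (mem_univ _), card_univ]
    rw [← hN, mul_add, add_left_inj, sum_comm, mul_comm, ← smul_eq_mul, ← sum_const]
    refine sum_congr rfl fun g hg => ?_
    have hg' : g ≠ 1 := (mem_filter.1 hg).2
    rw [← card_filter, ← card_pair (hne g hg')]
    congr 1; ext y
    rw [mem_filter, hX, mem_insert, mem_singleton, ← hab g hg']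
    exact ⟨fun h => h.2, fun h => ⟨⟨g, hg', h⟩, h⟩⟩
  have hw : ∀ y, w y + 1 = Nat.card (stabilizer Γ y) := fun y => by
    rw [Nat.card_eq_fintype_card, Fintype.card_subtype, card_filter,
      ← sum_erase_add _ _ (mem_univ (1 : Γ)), ← filter_ne' univ 1]
    simp [w, N]
  have hX' : ∀ y, y ∈ X ↔ 2 ≤ Nat.card (stabilizer Γ y) := fun y => by
    rw [hX, ← hw, Nat.succ_le_succ_iff, Nat.one_le_iff_ne_zero]
    simp [w, N]
  let O : Y → Finset Y := fun y => univ.image fun g : Γ => g • y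
  have hO : ∀ x y, x ∈ O y ↔ x ∈ orbit Γ y := fun x y => by simp [O, mem_orbit_iff]
  have hOe : ∀ y, #(O y) * Nat.card (stabilizer Γ y) = Nat.card Γ := fun y => by
    rw [← ncard_orbit_mul (Γ := Γ) y, ← Set.ncard_coe_finset]; congr 2; ext x; exact hO x y
  have hst : ∀ x y, x ∈ O y → Nat.card (stabilizer Γ x) = Nat.card (stabilizer Γ y) :=
    fun x y h => card_stabilizer_of_mem_orbit ((hO x y).1 h)
  have hOX : ∀ y ∈ X, O y ⊆ X := fun y hy x hx => by rwa [hX', hst x y hx, ← hX']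
  have hOs : ∀ y, ∑ x ∈ O y, w x + #(O y) = Nat.card Γ := fun y => by
    rw [← hOe y, ← smul_eq_mul, ← sum_const, card_eq_sum_ones, ← sum_add_distrib]
    exact sum_congr rfl fun x hx => (hw x).trans (hst x y hx)
  have hle : ∀ y n, n ≤ Nat.card (stabilizer Γ y) → #(O y) * n ≤ Nat.card Γ := fun y n h =>
    hOe y ▸ Nat.mul_le_mul_left _ h
  have hdisj : ∀ x y, x ∉ O y → Disjoint (O x) (O y) := fun x y h => by
    refine disjoint_left.2 fun t h1 h2 => h ?_
    rw [hO, ← orbit_eq_iff.2 ((hO t y).1 h2), orbit_eq_iff.2 ((hO t x).1 h1)]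
    exact mem_orbit_self x
  have x1 := (hX' y₁).2 (by omega)
  have x2 := (hX' y₂).2 (by omega)
  have x3 := (hX' y₃).2 (by omega)
  have three : ∀ T : Finset Y, y₁ ∈ T → y₂ ∈ T → y₃ ∈ T → 3 ≤ #T := fun T a b c =>
    two_lt_card_iff.2 ⟨y₁, y₂, y₃, a, b, c, h12, h13, h23⟩
  have o1 := hOs y₁
  have l1 := hle y₁ 6 s1
  by_cases c1 : X ⊆ O y₁
  · have := three _ (c1 x1) (c1 x2) (c1 x3)
    rw [Subset.antisymm c1 (hOX y₁ x1)] at hsum; omega
  obtain ⟨u, hu, u1⟩ := not_subset.1 c1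
  have o2 := hOs u
  have l2 := hle u 2 ((hX' u).1 hu)
  have i2 := union_subset (hOX u hu) (hOX y₁ x1)
  by_cases c2 : X ⊆ O u ∪ O y₁
  · have := (three _ (c2 x1) (c2 x2) (c2 x3)).trans (card_union_le _ _)
    rw [Subset.antisymm c2 i2, sum_union (hdisj u y₁ u1)] at hsum; omega
  obtain ⟨v, hv, v1⟩ := not_subset.1 c2
  rw [mem_union, not_or] at v1
  have o3 := hOs v
  have l3 := hle v 2 ((hX' v).1 hv)
  have i3 := union_subset (hOX v hv) i2
  have d3 := disjoint_union_right.2 ⟨hdisj v u v1.1, hdisj v y₁ v1.2⟩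
  by_cases c3 : X ⊆ O v ∪ (O u ∪ O y₁)
  · have hs := hsum
    rw [Subset.antisymm c3 i3, sum_union d3, sum_union (hdisj u y₁ u1)] at hs
    have e2 : Nat.card (stabilizer Γ u) < 3 := not_le.1 fun h => by have := hle u 3 h; omega
    have e3 : Nat.card (stabilizer Γ v) < 3 := not_le.1 fun h => by have := hle v 3 h; omega
    have m : ∀ y ∈ X, 6 ≤ Nat.card (stabilizer Γ y) → y ∈ O y₁ := fun y hy h => by
      rcases mem_union.1 (c3 hy) with h' | h'
      · have := hst y v h'; omega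
      · exact (mem_union.1 h').resolve_left fun h' => by have := hst y u h'; omega
    have := three _ (m _ x1 s1) (m _ x2 s2) (m _ x3 s3)
    have a1 := hOe u
    have a2 := hOe v
    rw [le_antisymm (Nat.le_of_lt_succ e2) ((hX' u).1 hu)] at a1
    rw [le_antisymm (Nat.le_of_lt_succ e3) ((hX' v).1 hv)] at a2
    omega
  obtain ⟨t, ht, t1⟩ := not_subset.1 c3
  simp only [mem_union, not_or] at t1
  have o4 := hOs t
  have l4 := hle t 2 ((hX' t).1 ht)
  have := sum_le_sum_of_subset (f := w) (union_subset (hOX t ht) i3)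
  rw [sum_union (disjoint_union_right.2 ⟨hdisj t v t1.1,
    disjoint_union_right.2 ⟨hdisj t u t1.2.1, hdisj t y₁ t1.2.2⟩⟩), sum_union d3,
    sum_union (hdisj u y₁ u1)] at this
  have : 0 < Nat.card Γ := Nat.card_pos
  omega

theorem hk_mul {F R : Type*} [CommRing F] [Ring R] [Algebra F R] {e : R} (he : e * e = e)
    (l m : F) : (1 + (l - 1) • e) * (1 + (m - 1) • e) = 1 + (l * m - 1) • e := by
  simp only [add_mul, mul_add, one_mul, mul_one, smul_mul_assoc, mul_smul_comm, he]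
  module

open Matrix

variable {K : Type*} [Field K]

theorem hk_ch (M : Matrix (Fin 2) (Fin 2) K) : M * M = M.trace • M - M.det • 1 := by
  ext i j
  fin_cases i <;> fin_cases j <;> simp [mul_apply, det_fin_two, trace_fin_two] <;> ring

/-- The idempotents of rank one. -/
abbrev Idem (K : Type*) [Field K] : Type _ :=
  {η : Matrix (Fin 2) (Fin 2) K // η.trace = 1 ∧ η.det = 0}

theorem Idem.sq (η : Idem K) : η.1 * η.1 = η.1 := by rw [hk_ch, η.2.1, η.2.2]; simp

/-- The complementary idempotent. -/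
def Idem.co (η : Idem K) : Idem K := ⟨1 - η.1, by
  have h1 := η.2.1
  have h2 := η.2.2
  simp only [det_fin_two, trace_fin_two] at h1 h2 ⊢
  simp
  exact ⟨by linear_combination -h1, by linear_combination h2 - h1⟩⟩

theorem Idem.ne_co (η : Idem K) : η ≠ η.co := fun e => by
  have h : η.1 * η.1 = η.1 * (1 - η.1) := congrArg (η.1 * ·.1) e
  rw [mul_sub, η.sq, mul_one, sub_self] at h
  simpa [h] using η.2.1

theorem Idem.eq_of_comm {η ε : Idem K} (h : η.1 * ε.1 = ε.1 * η.1) : η = ε ∨ η = ε.co := by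
  have e1 : (η.1 + ε.1 - 1) * (η.1 - ε.1) = 0 := by
    simp only [sub_mul, add_mul, mul_sub, η.sq, ε.sq, h, one_mul]; abel
  have e2 : (η.1 + ε.1 - 1) * (η.1 + ε.1 - 1) + (η.1 - ε.1) * (η.1 - ε.1) = 1 := by
    simp only [sub_mul, add_mul, mul_sub, mul_add, η.sq, ε.sq, one_mul, mul_one]; abel
  have e3 := hk_ch (η.1 - ε.1)
  rw [trace_sub, η.2.1, ε.2.1, sub_self, zero_smul, zero_sub] at e3
  by_cases d : (η.1 - ε.1).det = 0
  · rw [e3, d, zero_smul, neg_zero, add_zero] at e2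
    refine Or.inl (Subtype.ext (sub_eq_zero.1 ?_))
    rw [← one_mul (η.1 - ε.1), ← e2, mul_assoc, e1, mul_zero]
  · have := congrArg (· * (η.1 - ε.1)) e1
    simp only [mul_assoc, e3, zero_mul, mul_neg, mul_smul_comm, mul_one, neg_eq_zero,
      smul_eq_zero, d, false_or] at this
    exact Or.inr (Subtype.ext (eq_sub_of_add_eq (sub_eq_zero.1 this)))

theorem hk_two [IsAlgClosed K] {M : Matrix (Fin 2) (Fin 2) K} {n : ℕ} (hn : (n : K) ≠ 0)
    (hM : M ^ n = 1) (hs : ∀ a : K, M ≠ a • 1) :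
    ∃ ε : Idem K, ∀ η : Idem K, M * η.1 = η.1 * M ↔ η = ε ∨ η = ε.co := by
  obtain ⟨a, ha⟩ := IsAlgClosed.exists_root
    (Polynomial.X ^ 2 - Polynomial.C M.trace * Polynomial.X + Polynomial.C M.det : Polynomial K)
    (by rw [show Polynomial.degree _ = 2 by compute_degree!]; decide)
  simp only [Polynomial.IsRoot, Polynomial.eval_add, Polynomial.eval_sub, Polynomial.eval_pow,
    Polynomial.eval_X, Polynomial.eval_mul, Polynomial.eval_C] at ha
  have hd : M.trace - 2 * a ≠ 0 := fun e => by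
    have e1 : (M - a • 1) * (M - a • 1) = 0 := by
      rw [hk_ch]
      simp only [det_fin_two, trace_fin_two] at ha e ⊢
      ext i j
      fin_cases i <;> fin_cases j <;> simp
      all_goals first | exact Or.inl (by linear_combination e) | skip
      · linear_combination (M 0 0 - a) * e - ha
      · linear_combination (M 1 1 - a) * e - ha
    obtain ⟨N, rfl⟩ : ∃ N, M = N + a • 1 := ⟨M - a • 1, by simp⟩
    rw [add_sub_cancel_right] at e1
    have e2 : ∀ m : ℕ, (N + a • 1) ^ (m + 1) = (((m + 1 : ℕ) : K) * a ^ m) • N + a ^ (m + 1) • 1 := by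
      intro m
      induction m with
      | zero => simp
      | succ m ih =>
        rw [pow_succ, ih]
        simp only [add_mul, mul_add, smul_mul_assoc, mul_smul_comm, e1, mul_one, one_mul]
        push_cast; module
    obtain ⟨m, rfl⟩ : ∃ m, n = m + 1 := ⟨n - 1, by cases n <;> simp_all⟩
    have a0 : a ≠ 0 := fun a0 => by
      have := congrArg det hM
      rw [det_pow, show (N + a • 1).det = 0 by simpa [a0] using ha] at this
      simp at this
    rw [e2, ← eq_sub_iff_add_eq] at hM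
    refine hs ((((m + 1 : ℕ) : K) * a ^ m)⁻¹ * (1 - a ^ (m + 1)) + a) ?_
    rw [add_smul, mul_smul, sub_smul, one_smul, ← hM,
      inv_smul_smul₀ (mul_ne_zero hn (pow_ne_zero _ a0))]
  let ε : Idem K := ⟨(M.trace - 2 * a)⁻¹ • (M - a • 1), by
    rw [trace_smul, det_smul, smul_eq_mul, inv_mul_eq_one₀ hd]
    simp only [det_fin_two, trace_fin_two] at ha ⊢
    simp
    exact ⟨by ring, Or.inr (by linear_combination ha)⟩⟩
  have e : M = (M.trace - 2 * a) • ε.1 + a • 1 := by simp [ε, smul_inv_smul₀ hd]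
  refine ⟨ε, fun η => ⟨fun h => Idem.eq_of_comm ?_, ?_⟩⟩
  · simp [ε, mul_sub, sub_mul, h]
  · rintro (rfl | rfl) <;> rw [e] <;> simp [Idem.co, mul_add, add_mul, mul_sub, sub_mul, smul_sub, Idem.sq]

theorem hk_plane [IsAlgClosed K] {p : ℕ} [Fact p.Prime] [Algebra (ZMod p) K] (h7 : 7 ≤ p)
    {J : Type*} [Group J] [Finite J] (hJ : ¬ p ∣ Nat.card J) (σ : J →* Matrix (Fin 2) (Fin 2) K)
    (E F : Idem K) (hE : ∀ l : ZMod p, l ≠ 0 → ∃ y, σ y = 1 + (l - 1) • E.1)
    (hF : ∀ l : ZMod p, l ≠ 0 → ∃ y, σ y = 1 + (l - 1) • F.1) : E.1 * F.1 = F.1 * E.1 := by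
  by_contra ne
  have i1 : ∀ g, σ g * σ g⁻¹ = 1 := fun g => by rw [← map_mul, mul_inv_cancel, map_one]
  have i2 : ∀ g, σ g⁻¹ * σ g = 1 := fun g => by rw [← map_mul, inv_mul_cancel, map_one]
  let _ : MulAction J (Idem K) :=
    { smul := fun g η => ⟨σ g * η.1 * σ g⁻¹, by
        rw [trace_mul_cycle, i2, one_mul, det_mul, det_mul, η.2.2, mul_zero, zero_mul]
        exact ⟨η.2.1, rfl⟩⟩
      one_smul := fun η => Subtype.ext (show σ 1 * η.1 * σ 1⁻¹ = η.1 by simp)
      mul_smul := fun g h η => Subtype.ext (show σ (g * h) * η.1 * σ (g * h)⁻¹ =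
        σ g * (σ h * η.1 * σ h⁻¹) * σ g⁻¹ by simp [mul_assoc]) }
  have fx : ∀ (g : J) (η : Idem K), g • η = η ↔ σ g * η.1 = η.1 * σ g := fun g η => by
    rw [Subtype.ext_iff]
    change σ g * η.1 * σ g⁻¹ = η.1 ↔ _
    exact ⟨fun h => by conv_rhs => rw [← h, mul_assoc, i2, mul_one],
      fun h => by rw [h, mul_assoc, i1, mul_one]⟩
  have : CharP K p := charP_of_injective_algebraMap (algebraMap (ZMod p) K).injective p
  let Γ := (toPermHom J (Idem K)).range
  have : Finite Γ := Finite.of_surjective _ (toPermHom J (Idem K)).rangeRestrict_surjective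
  have st : ∀ E F X : Idem K, E.1 * F.1 ≠ F.1 * E.1 → E.1 * X.1 = X.1 * E.1 →
      (∀ l : ZMod p, l ≠ 0 → ∃ y, σ y = 1 + (l - 1) • E.1) → 6 ≤ Nat.card (stabilizer Γ X) := by
    intro E F X ne c hE
    choose y hy using fun l : (ZMod p)ˣ => hE l l.ne_zero
    refine le_trans ?_ (Nat.card_le_card_of_injective (fun l : (ZMod p)ˣ =>
      (⟨⟨_, y l, rfl⟩, (fx (y l) X).2 (by simp [hy, add_mul, mul_add, c])⟩ : stabilizer Γ X))
      fun l m e => ?_)
    · rw [Nat.card_eq_fintype_card, ZMod.card_units]; omega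
    · have e1 : y l • F = y m • F := congrArg (fun g : stabilizer Γ X => g.1.1 F) e
      have e2 : σ (y m)⁻¹ = 1 + (((m⁻¹ : (ZMod p)ˣ) : ZMod p) - 1) • E.1 :=
        left_inv_eq_right_inv (i2 (y m)) (by 
          rw [hy, hk_mul E.sq, m.mul_inv, sub_self, zero_smul, add_zero])
      rw [← inv_smul_eq_iff, ← mul_smul, fx, map_mul, e2, hy, hk_mul E.sq] at e1
      simp only [add_mul, mul_add, one_mul, mul_one, smul_mul_assoc, mul_smul_comm] at e1
      have e3 : (((m⁻¹ : (ZMod p)ˣ) : ZMod p) * l - 1) • (E.1 * F.1 - F.1 * E.1) = 0 := by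
        linear_combination (norm := module) e1
      rw [smul_eq_zero, sub_eq_zero, sub_eq_zero, or_iff_left ne, ← Units.val_mul,
        Units.val_eq_one, inv_mul_eq_one] at e3
      exact e3.symm
  refine hk_klein (Γ := Γ) ?_ E.ne_co (y₃ := F) (fun e => ne (by rw [e]))
    (fun e => ne (by simp [← e, Idem.co, mul_sub, sub_mul])) (st E F E ne rfl hE)
    (st E F E.co ne (by simp [Idem.co, mul_sub, sub_mul]) hE) (st F E F (Ne.symm ne) rfl hF)
  rintro ⟨_, g, rfl⟩ h1
  obtain ⟨ε, hε⟩ := hk_two (M := σ g) (mt (CharP.cast_eq_zero_iff K p _).1 hJ)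
    (by rw [← map_pow, pow_card_eq_one', map_one]) fun a e =>
      h1 (Subtype.ext (Equiv.ext fun η => (fx g η).2 (by simp [e])))
  exact ⟨ε, ε.co, ε.ne_co, fun η => (fx g η).trans (hε η)⟩

end Cfsg.Agent.MC
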