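import Cfsg.Agent.Lib.MC.Quad

/-! Pairs of quadratic elements: reduction to a scalar anticommutator. -/

set_option autoImplicit false
set_option linter.style.haveILetI false
set_option linter.unusedVariables false
set_option linter.unusedSectionVars false

namespace Cfsg.Agent.MC

open Module Subgroup Polynomial

variable {p : ℕ} [hp : Fact p.Prime] {X : Type*} [Group X] {V : Type*} [AddCommGroup V]
  [Module (ZMod p) V] [Finite X] {ρ : X →* End (ZMod p) V} {x y t : X}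

theorem Wp_word' (hx : Qd ρ x) (hy : Qd ρ y) (b : ZMod p) :
    Wp ρ x (y * x ^ b.val * y * x * (y * x ^ b.val * y)⁻¹) =
      aeval (Wp ρ x y) (-(Polynomial.X * (2 + C b * Polynomial.X)) ^ 2) := by
  rw [Wp_word hx hy]
  simp only [map_neg, map_pow, map_mul, map_add, aeval_X, aeval_C, map_ofNat,
    Algebra.smul_def]

theorem aeval_eigen {w : End (ZMod p) V} {c : ZMod p} {e : V} (h : w e = c • e)
    (q : (ZMod p)[X]) : aeval w q e = q.eval c • e := by
  induction q using Polynomial.induction_on' with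
  | add a b ha hb => rw [map_add, LinearMap.add_apply, ha, hb, eval_add, add_smul]
  | monomial n a =>
    have : ∀ j, (w ^ j) e = c ^ j • e := fun j => by
      induction j with
      | zero => simp
      | succ j ih => rw [pow_succ', End.mul_apply, ih, map_smul, h, smul_smul, pow_succ]
    rw [aeval_monomial, eval_monomial, End.mul_apply, this, Module.algebraMap_end_apply, smul_smul]

/-- Pairs whose anticommutator has a single nonzero eigenvalue. -/
def QP (ρ : X →* End (ZMod p) V) (t x y : X) (c : ZMod p) (M : ℕ) : Prop :=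
  IsConj t x ∧ IsConj t y ∧ c ≠ 0 ∧ (∃ e, e ≠ 0 ∧ Wp ρ x y e = c • e) ∧
    ∃ D, aeval (Wp ρ x y) (Polynomial.X ^ D * (Polynomial.X - C c) ^ M) = 0

theorem aeval_eq_zero_of_dvd {w : End (ZMod p) V} {q r : (ZMod p)[X]} (h : aeval w q = 0)
    (hd : q ∣ r) : aeval w r = 0 := by
  obtain ⟨s, rfl⟩ := hd
  rw [map_mul, h, zero_mul]

theorem QP.reduce (ht : Qd ρ t) {M : ℕ} :
    ∀ {x y : X} {c : ZMod p}, QP ρ t x y c M → ∃ y' c', QP ρ t x y' c' 1 := by
  induction M using Nat.strong_induction_on with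
  | _ M ih =>
  rintro x y c ⟨h₁, h₂, h₃, ⟨e, h₄, h₅⟩, D, h₆⟩
  rcases le_or_gt M 1 with hM | hM
  · exact ⟨y, c, h₁, h₂, h₃, ⟨e, h₄, h₅⟩, D,
      aeval_eq_zero_of_dvd h₆ (mul_dvd_mul_left _ (pow_dvd_pow _ hM))⟩
  have hb : -c⁻¹ * c = -1 := by rw [neg_mul, inv_mul_cancel₀ h₃]
  have hC : (C (-c⁻¹) * C c : (ZMod p)[X]) = -1 := by rw [← C_mul, hb, C_neg, C_1]
  refine ih ((M + 1) / 2) (by omega) (c := -c ^ 2) ⟨h₁, h₁.trans (isConj_iff.2
    ⟨y * x ^ (-c⁻¹).val * y, rfl⟩), neg_ne_zero.2 (pow_ne_zero _ h₃), ⟨e, h₄, ?_⟩, D, ?_⟩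
  · rw [Wp_word' (ht.conj h₁) (ht.conj h₂), aeval_eigen h₅]
    congr 1
    simp only [eval_neg, eval_pow, eval_mul, eval_X, eval_add, eval_ofNat, eval_C, hb]
    ring
  · rw [Wp_word' (ht.conj h₁) (ht.conj h₂), ← aeval_comp]
    refine aeval_eq_zero_of_dvd h₆ ?_
    simp only [mul_comp, pow_comp, sub_comp, X_comp, C_comp]
    refine mul_dvd_mul (pow_dvd_pow_of_dvd ⟨-(Polynomial.X * (2 + C (-c⁻¹) * Polynomial.X) ^ 2),
      by ring⟩ D) ((pow_dvd_pow _ (show M ≤ 2 * ((M + 1) / 2) by omega)).trans ?_)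
    rw [pow_mul]
    refine pow_dvd_pow_of_dvd ⟨-(C (-c⁻¹) *
      (Polynomial.X * (2 + C (-c⁻¹) * Polynomial.X) + C c)), ?_⟩ _
    rw [C_neg (a := c ^ 2), C_pow]
    linear_combination (-(2 * Polynomial.X - C c) *
      (Polynomial.X * (2 + C (-c⁻¹) * Polynomial.X) + C c)) * hC

theorem QP.conj {c : ZMod p} {M : ℕ} (h : QP ρ t x y c M) : ∃ y', QP ρ t t y' c M := by
  obtain ⟨h₁, h₂, h₃, ⟨e, h₄, h₅⟩, D, h₆⟩ := h
  obtain ⟨g, rfl⟩ := isConj_iff.1 h₁
  have hw : Wp ρ (g * t * g⁻¹) y * ρ g = ρ g * Wp ρ t (g⁻¹ * y * g⁻¹⁻¹) := by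
    rw [Wp, Wp, conj_sub_one, conj_sub_one, inv_inv]
    refine LinearMap.ext fun u => ?_
    simp only [End.mul_apply, LinearMap.add_apply, map_add, rep_inv_apply, rep_inv_apply']
  have hq : ∀ q : (ZMod p)[X], aeval (Wp ρ (g * t * g⁻¹) y) q * ρ g =
      ρ g * aeval (Wp ρ t (g⁻¹ * y * g⁻¹⁻¹)) q := fun q => by
    induction q using Polynomial.induction_on' with
    | add a b ha hb => rw [map_add, map_add, add_mul, mul_add, ha, hb]
    | monomial n a =>
      rw [aeval_monomial, aeval_monomial, ← Algebra.smul_def, ← Algebra.smul_def, smul_mul_assoc,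
        mul_smul_comm, (SemiconjBy.pow_right hw.symm n).eq]
  refine ⟨g⁻¹ * y * g⁻¹⁻¹, IsConj.refl t, h₂.trans (isConj_iff.2 ⟨g⁻¹, rfl⟩), h₃,
    ⟨ρ g⁻¹ e, fun k => h₄ (rep_inj ρ g⁻¹ (k.trans (map_zero _).symm)), rep_inj ρ g ?_⟩, D,
    LinearMap.ext fun u => rep_inj ρ g ?_⟩
  · rw [← End.mul_apply, ← hw, End.mul_apply, map_smul, rep_inv_apply, h₅]
  · rw [← End.mul_apply, ← hq, h₆, zero_mul, LinearMap.zero_apply, map_zero]

variable [Module.Finite (ZMod p) V]

theorem exists_QP (h2 : p ≠ 2) (hρ : Function.Injective ρ) (ht : Qd ρ t) {g : X}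
    (hg : ¬ IsPGroup p (closure {t, g * t * g⁻¹} : Subgroup X)) : ∃ y c, QP ρ t t y c 1 := by
  obtain ⟨⟨x, y⟩, ⟨h₁, h₂, h₃⟩, hmax⟩ := Set.exists_max_image
    {q : X × X | IsConj t q.1 ∧ IsConj t q.2 ∧ K0 (Wp ρ q.1 q.2) ≠ ⊤}
    (fun q => finrank (ZMod p) (K0 (Wp ρ q.1 q.2))) (Set.toFinite _)
    ⟨(t, g * t * g⁻¹), IsConj.refl t, isConj_iff.2 ⟨g, rfl⟩, fun e => hg fun a =>
      ⟨_, Subtype.ext (hρ (LinearMap.ext fun u => by
        rw [Subgroup.coe_one, map_one]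
        exact pow_pow_apply ht (ht.conj (isConj_iff.2 ⟨g, rfl⟩)) _ a.2
          (show u ∈ K0 _ from e ▸ trivial)))⟩⟩
  obtain ⟨a, ha, b, hb, a₁, b₁, e, e₀, e₁⟩ := exists_eigen h2 (ht.conj h₁) (ht.conj h₂) h₃
  have a₂ : IsConj t a := a₁.elim h₁.trans h₂.trans
  have b₂ : IsConj t b := b₁.elim h₁.trans h₂.trans
  have hm1 : (-1 : ZMod p) ≠ 0 := neg_ne_zero.2 one_ne_zero
  have h20 : (2 : ZMod p) ≠ 0 := fun e => h2 ((Nat.prime_dvd_prime_iff_eq hp.out Nat.prime_two).1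
    ((ZMod.natCast_eq_zero_iff 2 p).1 e))
  set b' := b * a ^ (2 : ZMod p).val * b * a * (b * a ^ (2 : ZMod p).val * b)⁻¹ with hb'
  have ma : a ∈ closure {a, b} := subset_closure (Or.inl rfl)
  have mb : b ∈ closure {a, b} := subset_closure (Or.inr rfl)
  have mg := mul_mem (mul_mem mb (pow_mem ma (2 : ZMod p).val)) mb
  have htop : K0 (Wp ρ a b') = ⊤ := by
    by_contra e'
    have k₁ := hmax (a, b') ⟨a₂, a₂.trans (isConj_iff.2 ⟨_, rfl⟩), e'⟩
    have k₂ := K0_le (ht.conj h₁) (ht.conj h₂) ha hb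
    have k₃ : K0 (Wp ρ a b) < K0 (Wp ρ a b') := lt_of_le_of_ne
      (K0_le (ht.conj a₂) (ht.conj b₂) ma (mul_mem (mul_mem mg ma) (inv_mem mg))) fun k =>
      not_mem_K0 hm1 e₀ e₁ (k ▸ mem_K0 (j := 1) (by
        rw [pow_one, hb', Wp_word' (ht.conj a₂) (ht.conj b₂), aeval_eigen e₁]
        simp))
    exact (Submodule.finrank_lt_finrank_of_lt (k₂.trans_lt k₃)).not_ge k₁
  obtain ⟨y', c', h⟩ := QP.reduce ht (x := a) (y := b) (c := -1) (M := 2 * finrank (ZMod p) V)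
    ⟨a₂, b₂, hm1, ⟨e, e₀, e₁⟩, 2 * finrank (ZMod p) V, by
      rw [K0, LinearMap.ker_eq_top, hb', Wp_word' (ht.conj a₂) (ht.conj b₂), ← map_pow] at htop
      refine aeval_eq_zero_of_dvd htop ?_
      rw [pow_mul, pow_mul, ← mul_pow]
      refine pow_dvd_pow_of_dvd ⟨-C 2⁻¹ ^ 2, ?_⟩ _
      have hC : (C 2 * C 2⁻¹ : (ZMod p)[X]) = 1 := by rw [← C_mul, mul_inv_cancel₀ h20, C_1]
      have hC2 : (C 2 : (ZMod p)[X]) = 2 := rfl
      rw [hC2] at hC ⊢
      rw [C_neg, C_1]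
      linear_combination (-(Polynomial.X ^ 2 * (Polynomial.X + 1) ^ 2 * (2 * C 2⁻¹ + 1))) * hC⟩
  obtain ⟨y'', h'⟩ := h.conj
  exact ⟨y'', c', h'⟩

theorem QP.split (h2 : p ≠ 2) (ht : Qd ρ t) {c : ZMod p} (h : QP ρ t t y c 1) :
    ∃ π : End (ZMod p) V, π * π = π ∧ (ρ t - 1) * π = π * (ρ t - 1) ∧ (ρ t - 1) * π ≠ 0 ∧
      (∀ u, (ρ t - 1) u = 0 → ∃ u', π u = (ρ t - 1) u') ∧ (∃ ι, ρ ι = 1 - (2 : ZMod p) • π) ∧
      ∃ t₂, ρ t₂ = 1 + (3 : ZMod p) • ((ρ t - 1) * π) := by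
  obtain ⟨-, h₂, h₃, ⟨e, h₄, h₅⟩, D, h₆⟩ := h
  have hy := ht.conj h₂
  set n := ρ t - 1 with hn'
  set m := ρ y - 1 with hm'
  set w := Wp ρ t y with hw'
  have hn : Commute w n := comm_anti ht
  have hm : Commute w m := by
    have := comm_anti (m := n) hy
    rwa [add_comm] at this
  have e₂ : n * n = 0 := ht
  have e₃ : m * m = 0 := hy
  have e₄ : w = n * m + m * n := rfl
  clear_value n m w
  have k₁ : w * w ^ D = c • w ^ D := by
    simp only [map_mul, map_pow, aeval_X, map_sub, aeval_C, pow_one, mul_sub, sub_eq_zero] at h₆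
    rw [← pow_succ', pow_succ, h₆, ← Algebra.commutes, Algebra.smul_def]
  have k₂ : ∀ j, w ^ j * w ^ D = c ^ j • w ^ D := fun j => by
    induction j with
    | zero => simp
    | succ j ih => rw [pow_succ', mul_assoc, ih, mul_smul_comm, k₁, smul_smul, pow_succ]
  set π := (c ^ D)⁻¹ • w ^ D with hπ
  have hcD : c ^ D ≠ 0 := pow_ne_zero _ h₃
  have wπ : w * π = c • π := by rw [hπ, mul_smul_comm, k₁, smul_comm]
  have ππ : π * π = π := by
    rw [hπ, smul_mul_assoc, mul_smul_comm, k₂, smul_smul (c ^ D)⁻¹ (c ^ D), inv_mul_cancel₀ hcD,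
      one_smul]
  have nπ : n * π = π * n := ((hn.pow_left D).smul_left _).symm.eq
  have mπ : m * π = π * m := ((hm.pow_left D).smul_left _).symm.eq
  have πe : π e = e := by
    have := aeval_eigen h₅ (Polynomial.X ^ D)
    rw [map_pow, aeval_X, eval_pow, eval_X] at this
    rw [hπ, LinearMap.smul_apply, this, smul_smul, inv_mul_cancel₀ hcD, one_smul]
  clear_value π
  have hcomm : ∀ g ∈ closure {t, y}, Commute (ρ g) π := fun g hg =>
    (closure_le (subOf (fun g => Commute (ρ g) π) (by rw [map_one]; exact Commute.one_left _)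
      fun a b ha hb => by rw [map_mul]; exact ha.mul_left hb)).2 (by
        rintro _ (rfl | rfl)
        · have := Commute.add_left nπ (Commute.one_left π)
          rwa [hn', sub_add_cancel] at this
        · have := Commute.add_left mπ (Commute.one_left π)
          rwa [hm', sub_add_cancel] at this) hg
  set q := p ^ (2 * D + 1) with hq
  have hfix : ∀ g ∈ closure {t, y}, ρ (g ^ q) * (1 - π) = 1 - π := fun g hg =>
    LinearMap.ext fun u => pow_pow_apply ht hy D hg (by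
      rw [← hw', ← End.mul_apply, mul_sub, mul_one, hπ, mul_smul_comm, k₂, smul_smul,
        inv_mul_cancel₀ hcD, one_smul, sub_self, LinearMap.zero_apply])
  have mt : t ∈ closure {t, y} := subset_closure (Or.inl rfl)
  have my : y ∈ closure {t, y} := subset_closure (Or.inr rfl)
  let ω : ZMod p → X := fun l => t ^ l.val * y ^ (-(l * c)⁻¹).val * t ^ l.val
  have mω : ∀ l, ω l ∈ closure {t, y} := fun l =>
    mul_mem (mul_mem (pow_mem mt _) (pow_mem my _)) (pow_mem mt _)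
  have hω : ∀ l ≠ 0, ρ (ω l) * π = (l • n + (-(l * c)⁻¹) • m) * π := fun l hl => by
    simp only [ω, map_mul, ht.pow, hy.pow, ZMod.natCast_zmod_val, ← hn', ← hm']
    exact omega_id e₂ (e₄ ▸ wπ) nπ (by field_simp)
  have hnm : n * (m * π) = c • π - m * (n * π) := by
    rw [← wπ, e₄, add_mul, mul_assoc, mul_assoc, add_sub_cancel_right]
  have hnn : ∀ z, n * (n * z) = 0 := fun z => by rw [← mul_assoc, e₂, zero_mul]
  have hmm : ∀ z, m * (m * z) = 0 := fun z => by rw [← mul_assoc, e₃, zero_mul]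
  have hωω : ∀ l ≠ 0, ρ (ω l * ω 1) * π =
      (l • n + (-(l * c)⁻¹) • m) * (((1 : ZMod p) • n + (-(1 * c)⁻¹) • m) * π) := fun l hl => by
    have : ((1 : ZMod p) • n + (-(1 * c)⁻¹) • m) * π = π * ((1 : ZMod p) • n + (-(1 * c)⁻¹) • m) :=
      ((Commute.smul_left nπ _).add_left (Commute.smul_left mπ _)).eq
    rw [map_mul, mul_assoc, hω 1 one_ne_zero, this, ← mul_assoc, hω l hl, mul_assoc]
  have hodd : Odd q := (hp.out.odd_of_ne_two h2).pow
  have h20 : (2 : ZMod p) ≠ 0 := fun e => h2 ((Nat.prime_dvd_prime_iff_eq hp.out Nat.prime_two).1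
    ((ZMod.natCast_eq_zero_iff 2 p).1 e))
  refine ⟨π, ππ, nπ, fun k => h₄ ?_, fun u hu => ⟨c⁻¹ • m (π u), ?_⟩, ⟨(ω 1 * ω 1) ^ q, ?_⟩, ?_⟩
  · have := LinearMap.congr_fun hnm e
    rw [mπ, ← mul_assoc, k] at this
    simpa [πe, h₃] using this.symm
  · have := LinearMap.congr_fun hnm u
    rw [nπ] at this
    simp only [End.mul_apply, LinearMap.sub_apply, LinearMap.smul_apply, hu, map_zero,
      sub_zero] at this
    rw [map_smul, this, smul_smul, inv_mul_cancel₀ h₃, one_smul]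
  · have k₃ : ρ (ω 1 * ω 1) * π = -π := by
      rw [hωω 1 one_ne_zero]
      simp only [add_mul, mul_add, smul_mul_assoc, mul_smul_comm, hnn, hmm, hnm]
      match_scalars <;> field_simp <;> ring
    have k₄ : ∀ j, ρ ((ω 1 * ω 1) ^ j) * π = (-1 : ZMod p) ^ j • π := fun j => by
      induction j with
      | zero => simp
      | succ j ih =>
        rw [pow_succ', map_mul, mul_assoc, ih, mul_smul_comm, k₃, pow_succ, mul_neg_one, neg_smul,
          smul_neg]
    have k₅ := hfix _ (mul_mem (mω 1) (mω 1))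
    rw [mul_sub, k₄, hodd.neg_one_pow, mul_one, sub_eq_iff_eq_add] at k₅
    rw [k₅]
    module
  · set τ := ω 2 * ω 1
    have mτ : τ ∈ closure {t, y} := mul_mem (mω 2) (mω 1)
    have k₃ : ρ τ * (n * π) = (4 : ZMod p) • (n * π * ρ τ) := by
      have h2' : n * (m * (n * π)) = c • (n * π) := by
        rw [nπ, ← mul_assoc m, ← mul_assoc n, hnm, sub_mul, mul_assoc m, mul_assoc n π, ← nπ, hnn,
          mul_zero, sub_zero, smul_mul_assoc, nπ]
      rw [mul_assoc n, ← (hcomm τ mτ).eq, nπ, ← mul_assoc, hωω 2 h20]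
      simp only [add_mul, mul_add, smul_mul_assoc, mul_smul_comm, mul_assoc, ← nπ, hnn, hmm,
        h2', mul_zero, zero_mul, smul_zero]
      match_scalars
      field_simp
      ring
    have k₄ : ∀ j, ρ (τ ^ j) * (n * π) = (4 : ZMod p) ^ j • (n * π * ρ (τ ^ j)) := fun j => by
      induction j with
      | zero => simp
      | succ j ih =>
        rw [pow_succ', map_mul, mul_assoc, ih, mul_smul_comm, ← mul_assoc, k₃, smul_mul_assoc,
          smul_smul, mul_assoc, pow_succ]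
    have k₅ := k₄ q
    rw [hq, ZMod.pow_card_pow, ← hq] at k₅
    have k₆ := hfix τ mτ
    have k₇ : ρ (τ ^ q) * n = (n + (3 : ZMod p) • (n * π)) * ρ (τ ^ q) := by
      have k₈ : n * (1 - π) * ρ (τ ^ q) = n * (1 - π) := by
        rw [mul_assoc, ← (((Commute.one_right _).sub_right (hcomm _ (pow_mem mτ q))).eq), k₆]
      have k₉ : ρ (τ ^ q) * (n * (1 - π)) = n * (1 - π) := by
        have : n * (1 - π) = (1 - π) * n := by rw [mul_sub, sub_mul, nπ, mul_one, one_mul]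
        rw [this, ← mul_assoc, k₆]
      have e₁ : n = n * π + n * (1 - π) := by rw [← mul_add, add_sub_cancel, mul_one]
      calc ρ (τ ^ q) * n = ρ (τ ^ q) * (n * π + n * (1 - π)) := by rw [← e₁]
        _ = (4 : ZMod p) • (n * π * ρ (τ ^ q)) + n * (1 - π) * ρ (τ ^ q) := by
          rw [mul_add, k₅, k₉, k₈]
        _ = _ := by
          simp only [add_mul, smul_mul_assoc, mul_sub, sub_mul, mul_one]
          module
    refine ⟨τ ^ q * t * (τ ^ q)⁻¹ * (t ^ 1)⁻¹, ?_⟩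
    rw [map_mul, ht.inv_pow, ← sub_add_cancel (ρ (τ ^ q * t * (τ ^ q)⁻¹)) 1, conj_sub_one, ← hn', k₇,
      mul_assoc _ (ρ (τ ^ q)), ← map_mul, mul_inv_cancel, map_one, mul_one, Nat.cast_one, one_smul]
    simp only [add_mul, mul_sub, smul_mul_assoc, mul_one, one_mul, mul_assoc, ← nπ, hnn, e₂]
    module

end Cfsg.Agent.MC
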