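import Cfsg.Agent.Lib.MC.AB
import Cfsg.Agent.Lib.MC.Quad2

/-! The main linear theorem. -/

set_option autoImplicit false
set_option linter.style.haveILetI false
set_option linter.unusedVariables false
set_option linter.unusedSectionVars false

namespace Cfsg.Agent.MC

open Module Subgroup Polynomial
open scoped commutatorElement

variable {p : ℕ} [hp : Fact p.Prime]

theorem eq_zero_of_fwdDiff {c : ℕ → ZMod p} {L r a₀ : ℕ} (hL : L ≤ p) (ha : a₀ + r < L)
    (h₁ : ∀ a, a + (r + 1) < L → (fwdDiff 1)^[r + 1] c a = 0)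
    (h₂ : ∀ b, L ≤ b + r → b < L → c b = 0) (h₃ : c a₀ = 0) {b : ℕ} (hb : b < L) : c b = 0 := by
  classical
  let q : (ZMod p)[X] := ∑ j ∈ Finset.range (r + 1),
    C ((fwdDiff 1)^[j] c 0 * (j.factorial : ZMod p)⁻¹) * descPochhammer (ZMod p) j
  have hz : ∀ j, r < j → j < L → (fwdDiff 1)^[j] c 0 = 0 := fun j hj hj' => by
    obtain ⟨i, rfl⟩ : ∃ i, j = i + (r + 1) := ⟨j - (r + 1), by omega⟩
    rw [Function.iterate_add_apply, fwdDiff_iter_eq_sum_shift]
    exact Finset.sum_eq_zero fun k hk => by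
      rw [h₁ _ (by have := Finset.mem_range.1 hk; simp; omega), smul_zero]
  have hq : ∀ b < L, q.eval (b : ZMod p) = c b := fun b hb => by
    have e := shift_eq_sum_fwdDiff_iter 1 c b 0
    rw [zero_add, smul_eq_mul, mul_one] at e
    have e₁ : ∀ j ∈ Finset.range (r + 1), eval (b : ZMod p) (C ((fwdDiff 1)^[j] c 0 *
        (j.factorial : ZMod p)⁻¹) * descPochhammer (ZMod p) j) =
        b.choose j • (fwdDiff 1)^[j] c 0 := fun j hj => by
      have : (j.factorial : ZMod p) ≠ 0 := fun k => by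
        have := (hp.out.dvd_factorial).1 ((ZMod.natCast_eq_zero_iff _ p).1 k)
        have := Finset.mem_range.1 hj
        omega
      rw [eval_mul, eval_C, descPochhammer_eval_eq_descFactorial,
        Nat.descFactorial_eq_factorial_mul_choose, nsmul_eq_mul]
      push_cast
      field_simp
    rw [e, eval_finsetSum, Finset.sum_congr rfl e₁]
    rcases le_total b r with hbr | hbr
    · refine (Finset.sum_subset (Finset.range_mono (by omega)) fun j _ hj => ?_).symm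
      rw [Nat.choose_eq_zero_of_lt (by simpa using hj), zero_smul]
    · refine Finset.sum_subset (Finset.range_mono (by omega)) fun j hj hj' => ?_
      rw [hz j (by simpa using hj') (by have := Finset.mem_range.1 hj; omega), smul_zero]
  have hdeg : q.natDegree ≤ r := natDegree_sum_le_of_forall_le _ _ fun j hj =>
    (natDegree_C_mul_le _ _).trans (by
      rw [descPochhammer_natDegree]; have := Finset.mem_range.1 hj; omega)
  have hq0 : q = 0 := eq_zero_of_natDegree_lt_card_of_eval_eq_zero' q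
    ((insert a₀ (Finset.Ico (L - r) L)).image fun b : ℕ => (b : ZMod p)) (fun z hz => by
      obtain ⟨b, hb, rfl⟩ := Finset.mem_image.1 hz
      rcases Finset.mem_insert.1 hb with rfl | hb
      · rw [hq _ (by omega), h₃]
      · have := Finset.mem_Ico.1 hb
        rw [hq _ this.2, h₂ b (by omega) this.2]) (by
      rw [Finset.card_image_of_injOn, Finset.card_insert_of_notMem (by simp; omega),
        Nat.card_Ico]
      · omega
      · intro a ha b hb e
        have : ∀ a ∈ insert a₀ (Finset.Ico (L - r) L), a < p := fun a ha => by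
          rcases Finset.mem_insert.1 ha with rfl | ha
          · omega
          · have := Finset.mem_Ico.1 ha; omega
        have e' := congrArg ZMod.val e
        rwa [ZMod.val_cast_of_lt (this a ha), ZMod.val_cast_of_lt (this b hb)] at e')
  rw [← hq b hb, hq0, eval_zero]

/-- Iterated commutators. -/
def ic {X : Type*} [Group X] (s x : X) : ℕ → X
  | 0 => x
  | r + 1 => ⁅ic s x r, s⁆

variable {X : Type*} [Group X] {V : Type*} [AddCommGroup V]
  [Module (ZMod p) V] [Finite X] [Module.Finite (ZMod p) V] {ρ : X →* End (ZMod p) V} {d : ℕ}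
  {v : ℕ → V} {co : ℕ → V →ₗ[ZMod p] ZMod p} {P P₁ : Subgroup X} {s t x y g : X} {r k : ℕ}

theorem comm_sub_one (x s : X) : ρ ⁅x, s⁆ - 1 =
    ((ρ x - 1) * (ρ s - 1) - (ρ s - 1) * (ρ x - 1)) * ρ (x⁻¹ * s⁻¹) := by
  have : (ρ x - 1) * (ρ s - 1) - (ρ s - 1) * (ρ x - 1) = ρ (x * s) - ρ (s * x) := by
    rw [map_mul, map_mul]; noncomm_ring
  rw [this, sub_mul, ← map_mul, ← map_mul, commutatorElement_def]
  congr 2
  · group
  · rw [← map_one ρ]; congr 1; group

namespace Core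

variable (h : Core ρ d v co P P₁ s t)
include h

theorem comm_mem₁ (hx : x ∈ P₁) : ⁅x, s⁆ ∈ P₁ := by
  have := mul_mem hx (h.conj_mem₁ (h.le_St h.sP) (inv_mem hx))
  rwa [← mul_assoc, ← mul_assoc] at this

theorem ic_mem₁ (hx : x ∈ P₁) (j : ℕ) : ic s x j ∈ P₁ := by
  induction j with
  | zero => exact hx
  | succ j ih => exact h.comm_mem₁ ih

theorem comm_mem_Un (hx : x ∈ P) (hr : x ∈ Un ρ co r) : ⁅x, s⁆ ∈ Un ρ co (r + 1) := by
  rw [mem_Un, comm_sub_one]
  exact (h.reg.dg_comm hr).mul_zero (h.le_St (mul_mem (inv_mem hx) (inv_mem h.sP)))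

theorem cf_comm (hx : x ∈ P) (hr : x ∈ Un ρ co r) {a : ℕ} (ha : a + (r + 1) < d) :
    cf v co (r + 1) (ρ ⁅x, s⁆ - 1) a = cf v co r (ρ x - 1) (a + 1) - cf v co r (ρ x - 1) a := by
  have k := mul_mem (inv_mem hx) (inv_mem h.sP)
  rw [comm_sub_one, h.reg.cf_mul_zero (h.reg.dg_comm hr) (h.le_St k),
    h.reg.cf_of_sub_one (h.le_Un k) (by omega), mul_one, h.reg.cf_comm hr ha]

theorem ic_mem_Un (hx : x ∈ P₁) (hr : x ∈ Un ρ co r) (j : ℕ) : ic s x j ∈ Un ρ co (r + j) := by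
  induction j with
  | zero => exact hr
  | succ j ih => exact h.comm_mem_Un (h.le (h.ic_mem₁ hx j)) ih

theorem cf_ic (hx : x ∈ P₁) (hr : x ∈ Un ρ co r) (j : ℕ) {a : ℕ} (ha : a + (r + j) < d) :
    cf v co (r + j) (ρ (ic s x j) - 1) a = (fwdDiff 1)^[j] (cf v co r (ρ x - 1)) a := by
  induction j generalizing a with
  | zero => rfl
  | succ j ih =>
    rw [Function.iterate_succ_apply', fwdDiff, ← ih (by omega), ← ih (by omega)]
    exact h.cf_comm (h.le (h.ic_mem₁ hx j)) (h.ic_mem_Un hx hr j) ha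

theorem ex_zpow (hk : Ex d v co k (ρ t - 1)) (hk1 : 1 ≤ k) (hy : y ∈ zpowers t) (hy1 : y ≠ 1) :
    Ex d v co k (ρ y - 1) := by
  obtain ⟨j, rfl⟩ := (mem_powers_iff_mem_zpowers.2 hy : y ∈ Submonoid.powers t)
  refine ⟨map_pow ρ t j ▸ hk.1.unip_pow j, fun a ha => ?_⟩
  rw [map_pow, h.reg.cf_unip_pow hk1 hk.1]
  refine mul_ne_zero (fun e => hy1 ?_) (hk.2 a ha)
  obtain ⟨m, rfl⟩ := (ZMod.natCast_eq_zero_iff j p).1 e
  change t ^ (p * m) = 1
  rw [pow_mul, h.pow_eq_one (h.le_Un (h.le h.tP)), one_pow]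

theorem commute_zpow (hy : y ∈ zpowers t) (hx : x ∈ P) : Commute y x := by
  obtain ⟨j, rfl⟩ := hy
  exact (h.tc x hx).zpow_left j

theorem lt_two_mul (hk : Ex d v co k (ρ t - 1)) (hk1 : 1 ≤ k) (hkd : k < d) {u : X} (hu : u ∈ P)
    (h₁ : ⁅u, s⁆ ∈ zpowers t) (h₂ : ⁅u, s⁆ ≠ 1) : d < 2 * k := by
  by_contra hd
  have hT := h.ex_zpow hk hk1 h₁ h₂
  have cN : (ρ ⁅u, s⁆ - 1) * (ρ s - 1) = (ρ s - 1) * (ρ ⁅u, s⁆ - 1) :=
    (((h.commute_zpow h₁ h.sP).map ρ).sub_left (Commute.one_left _) |>.sub_right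
      (Commute.one_right _)).eq
  have cU : (ρ u - 1) * (ρ ⁅u, s⁆ - 1) - (ρ ⁅u, s⁆ - 1) * (ρ u - 1) = 0 := sub_eq_zero.2
    (((h.commute_zpow h₁ hu).map ρ).sub_left (Commute.one_left _) |>.sub_right
      (Commute.one_right _)).symm.eq
  have eD : (ρ u - 1) * (ρ s - 1) - (ρ s - 1) * (ρ u - 1) = (ρ ⁅u, s⁆ - 1) * ρ (s * u) := by
    rw [comm_sub_one, mul_assoc, ← map_mul, ← mul_inv_rev, inv_mul_cancel, map_one, mul_one]
  have ksu := mul_mem h.sP hu
  generalize ρ ⁅u, s⁆ - 1 = T at hT cN cU eD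
  generalize ρ u - 1 = U at cU eD
  have hreg := h.reg
  set N := ρ s - 1
  have dD : Dg co k (U * N - N * U) := eD ▸ hT.1.mul_zero (h.le_St ksu)
  have cD : ∀ a, a + k < d → cf v co k (U * N - N * U) a = cf v co k T 0 := fun a ha => by
    rw [eD, hreg.cf_mul_zero hT.1 (h.le_St ksu), hreg.cf_of_sub_one (h.le_Un ksu) (by omega),
      mul_one, hreg.cf_eq_of_comm hT.1 cN ha]
  have hE : ∀ l, Dg co (k + l) (U * N ^ (l + 1) - N ^ (l + 1) * U) ∧ ∀ a, a + (k + l) < d →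
      cf v co (k + l) (U * N ^ (l + 1) - N ^ (l + 1) * U) a = (l + 1 : ℕ) * cf v co k T 0 :=
    fun l => by
    induction l with
    | zero => simpa using ⟨dD, cD⟩
    | succ l ih =>
      have e : U * N ^ (l + 1 + 1) - N ^ (l + 1 + 1) * U =
          (U * N ^ (l + 1) - N ^ (l + 1) * U) * N + N ^ (l + 1) * (U * N - N * U) := by
        rw [pow_succ N (l + 1)]; noncomm_ring
      have k₁ := (hreg.dg_pow_N (l + 1)).mul dD
      have k₂ := fun a => hreg.cf_mul (hreg.dg_pow_N (l + 1)) dD (a := a)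
      rw [add_comm (l + 1) k] at k₁ k₂
      refine ⟨e ▸ (ih.1.mul hreg.dg_N).add k₁, fun a ha => ?_⟩
      rw [e, cf_add, k₂, ← add_assoc, hreg.cf_mul ih.1 hreg.dg_N, ih.2 _ (by omega),
        hreg.cf_N (by omega), hreg.cf_pow_N (by omega), cD a (by omega)]
      push_cast
      ring
  have hsub : ∀ j (R : End (ZMod p) V), Dg co j R → R * N = N * R →
      Dg co (j + 1) (R - cf v co j R 0 • N ^ j) := fun j R h₃ h₄ =>
    hreg.dg_succ (h₃.sub ((hreg.dg_pow_N j).smul _)) fun a ha => by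
      rw [cf_sub, cf_smul, hreg.cf_pow_N ha, hreg.cf_eq_of_comm h₃ h₄ ha, mul_one, sub_self]
  have hcomm : ∀ j (c : ZMod p) (R : End (ZMod p) V), R * N = N * R →
      (R - c • N ^ j) * N = N * (R - c • N ^ j) := fun j c R h₄ =>
    (Commute.sub_left h₄ (((Commute.refl N).pow_left j).smul_left c)).eq
  have hsplit : ∀ j (c : ZMod p) (R : End (ZMod p) V), U * R - R * U =
      (U * (R - c • N ^ j) - (R - c • N ^ j) * U) + c • (U * N ^ j - N ^ j * U) := fun j c R => by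
    simp only [mul_sub, sub_mul, mul_smul_comm, smul_mul_assoc, smul_sub]
    abel
  have hR : ∀ i j (R : End (ZMod p) V), d ≤ j + i → Dg co (j + 1) R → R * N = N * R →
      Dg co (k + j) (U * R - R * U) := fun i => by
    induction i with
    | zero =>
      intro j R h₃ h₄ _
      rw [hreg.eq_zero_of_dg h₄ (by omega), mul_zero, zero_mul, sub_zero]
      exact dg_zero
    | succ i ih =>
      intro j R h₃ h₄ h₅
      rw [hsplit (j + 1) (cf v co (j + 1) R 0)]
      exact ((ih (j + 1) _ (by omega) (hsub _ R h₄ h₅) (hcomm _ _ R h₅)).mono (by omega)).add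
        ((hE j).1.smul _)
  obtain ⟨k, rfl⟩ : ∃ k', k = k' + 1 := ⟨k - 1, by omega⟩
  have k₁ := hR d (k + 1) _ (by omega) (hsub _ T hT.1 cN) (hcomm _ _ T cN)
  have k₂ := congrArg (fun A => cf v co (k + 1 + k) A 0)
    (cU.symm.trans (hsplit (k + 1) (cf v co (k + 1) T 0) T))
  simp only [cf_add, cf_smul] at k₂
  rw [hreg.cf_eq_zero (r := k + 1 + k) k₁, (hE k).2 0 (by omega), zero_add] at k₂
  refine mul_ne_zero (hT.2 0 (by omega)) (mul_ne_zero (fun e => ?_) (hT.2 0 (by omega)))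
    (k₂.symm.trans (by simp [cf]))
  have := Nat.le_of_dvd (by omega) ((ZMod.natCast_eq_zero_iff _ p).1 e)
  have := h.dp
  omega

theorem mem_Fl_of_fix (hk : Ex d v co k (ρ t - 1)) (hk1 : 1 ≤ k) (hkd : k < d) (hx : x ∈ P₁)
    (h₁ : ic s x r ∈ zpowers t) (h₂ : ic s x r ≠ 1) (h₃ : ∀ w ∈ Fl co (d - k), (ρ x - 1) w = 0)
    {w : V} (hw : (ρ x - 1) w = 0) : w ∈ Fl co (d - k) := by
  by_contra e
  obtain ⟨a₀, a₁, a₂, a₃, a₄⟩ := h.reg.exists_pos' e
  have h₄ : ic s x (r + 1) = 1 :=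
    commutatorElement_eq_one_iff_commute.2 (h.commute_zpow h₁ h.sP)
  have key : ∀ m, m + r ≤ k + 1 → x ∈ Un ρ co m := fun m => by
    induction m with
    | zero => exact fun _ => (h.dg2 x hx).mono (Nat.zero_le _)
    | succ m ih =>
      intro hm
      have k₁ := ih (by omega)
      refine h.reg.dg_succ k₁ fun b hb => eq_zero_of_fwdDiff (L := d - m) (r := r) (a₀ := a₀)
        (by have := h.dp; omega) (by omega) (fun a ha => ?_) (fun b hb hb' => ?_) ?_ (by omega)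
      · rw [← h.cf_ic hx k₁ _ (by omega), h₄, map_one, sub_self]
        simp [cf]
      · rw [cf, h₃ _ (Fl_anti (by omega) (h.reg.v_mem b)), map_zero]
      · have := h.reg.co_apply k₁ a₃
        rw [hw, map_zero] at this
        exact (mul_eq_zero.1 this.symm).resolve_right a₄
  have k₁ : ic s x r ∈ Un ρ co (k + 1) := by
    rcases le_or_gt r (k + 1) with hr | hr
    · have := h.ic_mem_Un hx (key (k + 1 - r) (by omega)) r
      rwa [Nat.sub_add_cancel hr] at this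
    · exact Dg.mono (h.ic_mem_Un hx (h.dg2 x hx) r) (by omega)
  exact (h.ex_zpow hk hk1 h₁ h₂).2 0 (by omega) (h.reg.cf_eq_zero k₁)

theorem isPGroup_of_not_cyclic (h5 : 5 ≤ p)
    (hit : ∀ x ∈ P₁, x ≠ 1 → ∃ r, ic s x r ∈ zpowers t ∧ ic s x r ≠ 1)
    (hx : x ∈ P₁) (hx' : x ∉ zpowers t) (hC : ∀ g, Commute t g → g ∈ St ρ co) (g : X) :
    IsPGroup p (closure {t, g * t * g⁻¹} : Subgroup X) := by
  by_contra hg
  obtain ⟨k, k₁, k₂, hk⟩ := h.exists_k
  obtain ⟨r, r₁, r₂⟩ := hit x hx fun e => hx' (e ▸ one_mem _)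
  obtain ⟨r, rfl⟩ : ∃ r', r = r' + 1 := ⟨r - 1, by
    rcases r with _ | r
    · exact absurd r₁ hx'
    · rfl⟩
  have k₃ : d < 2 * k := h.lt_two_mul hk (by omega) k₂ (h.le (h.ic_mem₁ hx r)) r₁ r₂
  have k₄ : 3 ≤ k := by
    by_contra e
    exact (h.ex_zpow hk (by omega) r₁ r₂).2 0 (by omega)
      (h.reg.cf_eq_zero (Dg.mono (h.ic_mem_Un hx (h.dg2 x hx) (r + 1)) (by omega)))
  have ht : Qd ρ t := h.reg.eq_zero_of_dg (hk.1.mul hk.1) (by omega)
  obtain ⟨y, c, hQ⟩ := exists_QP (by omega) h.inj ht hg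
  obtain ⟨π, π₁, π₂, π₃, π₄, ⟨ι, hι⟩, t₂, ht₂⟩ := hQ.split (by omega) ht
  have hc : ∀ m : ℕ, m ≠ 0 → m < 5 → (m : ZMod p) ≠ 0 := fun m h₁ h₂ e => by
    have := Nat.le_of_dvd (by omega) ((ZMod.natCast_eq_zero_iff _ p).1 e)
    omega
  have h2 : (2 : ZMod p) ≠ 0 := hc 2 (by omega) (by omega)
  have h3 : (3 : ZMod p) ≠ 0 := hc 3 (by omega) (by omega)
  have cN : (ρ t - 1) * (ρ s - 1) = (ρ s - 1) * (ρ t - 1) :=
    (((h.tc s h.sP).map ρ).sub_left (Commute.one_left _) |>.sub_right (Commute.one_right _)).eq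
  have cπ : Commute (ρ t) π := by
    have := Commute.add_left π₂ (Commute.one_left π)
    rwa [sub_add_cancel] at this
  have hker : ∀ w ∈ Fl co (d - k), (ρ t - 1) w = 0 := fun w hw =>
    h.reg.eq_zero (by omega) (hk.1 _ w hw)
  have e₂ : ρ t₂ - 1 = (3 : ZMod p) • ((ρ t - 1) * π) := by rw [ht₂, add_sub_cancel_left]
  have c₂ : Commute t t₂ := h.inj (by
    rw [map_mul, map_mul, ht₂]
    exact ((Commute.one_right _).add_right ((((Commute.refl _).sub_right
      (Commute.one_right _)).mul_right cπ).smul_right _)).eq)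
  have q₂ : Qd ρ t₂ := by
    rw [Qd, e₂, smul_mul_assoc, mul_smul_comm, mul_assoc, ← mul_assoc π, ← π₂, ← mul_assoc,
      ← mul_assoc, ht, zero_mul, zero_mul, smul_zero, smul_zero]
  have m₂ : t₂ ∈ P := h.mem_of_pow (hC _ c₂) (e := 1) (h.inj (by
    rw [pow_one, q₂.pow, ZMod.natCast_self, zero_smul, add_zero, map_one]))
  have z₂ : ∀ w ∈ Fl co (d - k), (ρ t₂ - 1) w = 0 := fun w hw => by
    rw [e₂, π₂, LinearMap.smul_apply, End.mul_apply, hker w hw, map_zero, smul_zero]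
  have m₂' : t₂ ∈ P₁ := by
    by_contra e
    refine (h.ex m₂ e).2 (d - 2) (by omega) ?_
    rw [cf, z₂ _ (Fl_anti (by omega) (h.reg.v_mem _)), map_zero]
  obtain ⟨r', r₃, r₄⟩ := hit t₂ m₂' fun e => π₃ (by
    rw [e, map_one, sub_self, eq_comm, smul_eq_zero] at e₂
    exact e₂.resolve_left h3)
  have hV : ∀ u, u - π u ∈ Fl co (d - k) := fun u =>
    h.mem_Fl_of_fix hk (by omega) k₂ m₂' r₃ r₄ z₂ (by
      rw [e₂, LinearMap.smul_apply, End.mul_apply, map_sub, ← End.mul_apply π π, π₁, sub_self,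
        map_zero, smul_zero])
  have mι : ι ∈ St ρ co := hC ι (h.inj (by
    rw [map_mul, map_mul, hι]
    exact ((Commute.one_right _).sub_right (cπ.smul_right _)).eq))
  have hw : ∀ a < d, cf v co 0 (ρ ι) a = 1 - 2 * co a (π (v a)) := fun a ha => by
    rw [hι, cf_sub, cf_smul, h.reg.cf_one ha]; rfl
  have w₁ : ∀ a < d - k, cf v co 0 (ρ ι) a = -1 := fun a ha => by
    have := hV (v a) a ha
    rw [map_sub, h.reg.co_self (by omega), sub_eq_zero] at this
    rw [hw a (by omega), ← this]; ring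
  have w₂ : ∀ a, d - k ≤ a → a < k → cf v co 0 (ρ ι) a = 1 := fun a h₁ h₂ => by
    obtain ⟨u, hu⟩ := π₄ _ (hker _ (Fl_anti h₁ (h.reg.v_mem a)))
    rw [hw a (by omega), hu, hk.1 0 u (mem_Fl_zero u) a (by omega), mul_zero, sub_zero]
  have l₁ := h.wt_succ mι (a := d - k - 1) (by omega)
  rw [w₂ _ (by omega) (by omega), w₁ _ (by omega)] at l₁
  rcases le_or_gt (d - k) 1 with hd | hd
  · have l₂ := h.wt_succ mι (a := 1) (by omega)
    rw [w₂ _ (by omega) (by omega), w₂ _ (by omega) (by omega)] at l₂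
    exact h2 (by linear_combination l₁ + l₂)
  · have l₂ := h.wt_succ mι (a := 0) (by omega)
    rw [w₁ _ (by omega), w₁ _ (by omega)] at l₂
    exact h2 (by linear_combination l₁ - l₂)

theorem main (h5 : 5 ≤ p)
    (hit : ∀ x ∈ P₁, x ≠ 1 → ∃ r, ic s x r ∈ zpowers t ∧ ic s x r ≠ 1)
    (hw : ∀ g ∈ St ρ co, Commute t g →
      cf v co 1 (ρ (g * s * g⁻¹) - 1) 0 = cf v co 0 (ρ g) 0)
    (hind : (∀ g, Commute t g → ∀ x ∈ P₁, g * x * g⁻¹ ∈ P₁) ∨
      ∃ x ∈ P, x ∉ P₁ ∧ ∀ g, Commute t g → g⁻¹ * x * g ∈ P) (g : X) :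
    IsPGroup p (closure {t, g * t * g⁻¹} : Subgroup X) := by
  have hC : ∀ g, Commute t g → g ∈ St ρ co := fun g hg => by
    rcases hind with hn | ⟨x, h₁, h₂, h₃⟩
    · exact h.le_St_of_normal (Y := centralizer {t})
        (fun x hx => mem_centralizer_singleton_iff.2 (h.tc x hx).symm.eq)
        (fun g hg => hn g (mem_centralizer_singleton_iff.1 hg).symm)
        (fun g hg => (mem_centralizer_singleton_iff.1 hg).symm)
        (fun g hg hg' => hw g hg' (mem_centralizer_singleton_iff.1 hg).symm)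
        (mem_centralizer_singleton_iff.2 hg.symm.eq)
    · exact h.mem_St_of_conj h₁ h₂ (h₃ g hg)
  by_cases hc : ∀ x ∈ P₁, x ∈ zpowers t
  · refine h.pg.to_le ((closure_le _).2 ?_)
    rintro _ (rfl | rfl)
    exacts [h.le h.tP, h.conj_mem (h.mem_St_of_cyclic hc hC g) (h.le h.tP)]
  · push Not at hc
    obtain ⟨x, h₁, h₂⟩ := hc
    exact h.isPGroup_of_not_cyclic h5 hit h₁ h₂ hC g

end Core

end Cfsg.Agent.MC
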