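import Cfsg.Agent.Lib.MC.Y3
import Cfsg.Agent.Lib.TwoGrp.Har2

/-!
Essential subgroups in saturated fusion systems over `p`-groups of maximal class.
-/

set_option autoImplicit false
set_option linter.style.haveILetI false
set_option linter.unusedVariables false
set_option linter.unusedSectionVars false

namespace Cfsg.Agent.Ess

open Subgroup Cfsg.Agent.Fus Cfsg.Agent.TwoGrp
open Cfsg.FusionSystem (normalizerIn centralizerIn)
open Cfsg.Agent.Fus2 (M afn img HomOn)
open scoped commutatorElement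

universe u

variable {G : Type u} [Group G] [Finite G] {p n : ℕ} [hp : Fact p.Prime] {K E : Subgroup G}
  {F : FusionSystem (⊤ : Subgroup G)}

theorem card_cent_le {H : Type*} [Group H] {f : H →* G} (hf : Function.Injective f) (x : H) :
    Nat.card (centralizer {x}) ≤ Nat.card (centralizer {f x}) := by
  rw [← card_map_of_injective hf]
  refine Subgroup.card_le_of_le ?_
  rintro _ ⟨y, hy, rfl⟩
  exact mem_centralizer_singleton_iff.2 (by
    rw [← map_mul, ← map_mul, mem_centralizer_singleton_iff.1 hy])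

theorem prl_of_unif (hG : IsPGroup p G) (hF : F.IsSaturated p) (hE : F.IsEssential p E) {x : G}
    (hx : x ∈ E) (hu : Nat.card (centralizer {x}) ≤ p ^ 2) : Prl p E := by
  have hD := essData (hG.to_subgroup ⊤) hF hE
  have h₁ := (card_cent_le E.subtype_injective ⟨x, hx⟩).trans hu
  obtain ⟨k, hk⟩ := IsPGroup.iff_card.1 hD.hG
  obtain ⟨j, hj, hjk, -⟩ := hD.index_frattini_cases hk
  obtain rfl | rfl | e : k = 2 ∨ k = 3 ∨ 4 ≤ k := by omega
  · exact Or.inl hk
  · refine Or.inr ⟨hk, fun e => (Nat.pow_lt_pow_right hp.out.one_lt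
      (show 2 < 3 by norm_num)).not_ge (le_trans ?_ h₁)⟩
    rw [← hk, ← card_top (G := E)]
    exact Subgroup.card_le_of_le fun y _ => mem_centralizer_singleton_iff.2 (e _ _)
  · exact (hD.not_maxCl (maxCl_of_card_le hk (by omega) h₁) e).elim

theorem exists_unif_of_prl (hG : IsPGroup p G) (hF : F.IsSaturated p) (hE : F.IsEssential p E)
    (h : Prl p E) : ∃ x ∈ E, Nat.card (centralizer {x}) ≤ p ^ 2 := by
  obtain ⟨x, hx, hx'⟩ := exists_unif_of_pearl (hG.to_subgroup ⊤) hF hE h
  exact ⟨x, hx, (card_cent_le (f := (MonoidHom.id G).codRestrict ⊤ mem_top)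
    (fun _ _ e => congrArg Subtype.val e) x.1).trans hx'⟩

namespace TwoStep

variable (hK : TwoStep p K) (h : MaxCl p n G) (h4 : 4 ≤ n)
include hK h h4

theorem not_mem_of_unif {x : G} (hx : Nat.card (centralizer {x}) ≤ p ^ 2) : x ∉ K := fun e => by
  obtain ⟨y, hy, hy'⟩ := SetLike.exists_of_lt (lcs_lt h.isPGroup (h.ne_bot (j := 1) (by omega)))
  exact comm_not_mem_lcs h.card h.le hx le_rfl h4 hy hy'
    (comm_mem_symm (hK.comm (commutator_mem_commutator e hy)))

theorem main_ab (hab : ⁅K, K⁆ = ⊥) (hF : F.IsSaturated p) (hE : F.IsEssential p E) :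
    Prl p E ∨ E = K := by
  refine or_iff_not_imp_left.2 fun e => ?_
  have hle : E ≤ K := fun x hx => by_contra fun e' => e (prl_of_unif h.isPGroup hF hE hx
    (hK.card_centralizer_le h (fun j hj => (commutator_mono le_rfl ((lcs_anti hj).trans hK.le)).trans
      (hab.le.trans bot_le)) e'))
  exact le_antisymm hle fun x hx => mem_of_comm hE fun y hy =>
    comm_le_bot_iff.1 hab.le x hx y (hle hy)

theorem comm_eq_bot (h2 : p = 2) : ⁅K, K⁆ = ⊥ := by
  subst h2
  haveI := Fact.mk h.isPGroup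
  have h₁ : lg (⊤ : Subgroup G) = n := lg_eq_of_card (card_top.trans h.card)
  have h₂ : lg (commutator G) = n - 1 - 1 := lg_eq_of_card (h.card_lcs le_rfl (by omega))
  obtain ⟨x, hx⟩ := taussky _ G rfl (by omega)
  have h₃ : (zpowers x).index ∣ 2 ^ (0 + 1) := by
    rw [← relIndex_top_right, relIndex_eq_lg, inf_top_eq]
    exact pow_dvd_pow 2 (by omega)
  haveI : (zpowers x).Normal := normalizer_eq_top_iff.1 (top_le_iff.1
    (le_normalizer_of_relIndex_dvd (h.isPGroup.to_subgroup ⊤) le_top (by simpa using h₃)))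
  have h₄ := lcs_le_of_index h.isPGroup le_rfl (h₃.trans (pow_dvd_pow 2 (by norm_num)))
  have h₅ : ∀ a ∈ zpowers x, ∀ b ∈ zpowers x, Commute a b := by
    rintro _ ⟨i, rfl⟩ _ ⟨j, rfl⟩
    exact Commute.zpow_zpow_self x i j
  have h₆ : zpowers x = K := ((eq_or_eq_of_relIndex_dvd (p := 2) (fun g hg => (hK.mem_iff h h4).2
    fun y hy => by rw [(h₅ g hg y (h₄ hy)).commutator_eq]; exact one_mem _) le_top
    (by simpa using h₃)).resolve_right fun e => by
      have := hK.idx
      rw [e, index_top] at this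
      omega).symm
  exact eq_bot_iff.2 (comm_le_bot_iff.2 (h₆ ▸ h₅))

theorem not_extraspecial (h2 : p ≠ 2) (hexc : ⁅K, lcs G (n - 3)⁆ ≠ ⊥) (hF : F.IsSaturated p)
    (hE : F.IsEssential p E) (hc : Nat.card E = p ^ 3) : ∀ x y : E, Commute x y := by
  by_contra hna
  have hG := h.isPGroup
  have hS := hG.to_subgroup ⊤
  obtain ⟨x, hx, hu⟩ := exists_unif_of_prl hG hF hE (Or.inr ⟨hc, hna⟩)
  have hxK := hK.not_mem_of_unif h h4 hu
  have hlt := lt_normalizer_ess hG hF hE
  obtain ⟨σ, hσ, τ, e, h₁, h₂, -⟩ := exists_neg hS hF hE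
    ((essData hS hF hE).topSec_of_card_three hc hna) (extTop_of hS hF fun f hf E' hE' e => by
      obtain ⟨α, hα⟩ := exists_mulAut hf
      rw [normalizerIn_top] at e
      refine (Fus2.card_lt_of_lt hlt).not_ge ((hf.mono le_top).card_img.ge.trans
        ((Subgroup.card_le_of_le (Fus2.img_le_iff.2 e)).trans (hc ▸ Prl.card_le
          (prl_of_unif hG hF hE' (e x (hlt.le hx)) ?_))))
      rwa [← hα, card_centralizer_apply])
  obtain ⟨α, hα⟩ := exists_mulAut (M_afn le_rfl hσ)
  have hb : lcs G (n - 2) = center G := h.center_eq.symm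
  have hZ : (center E).map E.subtype = center G := (Fus2.eq_of_le_of_card_le
    (Q := (center E).map E.subtype) (fun z hz => ⟨⟨z, center_le_ess hE hz⟩, Subgroup.mem_center_iff.2 fun y =>
      Subtype.ext (Subgroup.mem_center_iff.1 hz y), rfl⟩)
    (by rw [Fit.card_map_subtype, h.card_center, (isExtraspecial_of_card hc hna).2])).symm
  have h₃ : ∀ y ∈ E, y * α y ∈ lcs G (n - 2) := fun y hy =>
    (hZ.trans hb.symm).le ⟨_, h₁ ⟨y, hy⟩, by rw [hα, e ⟨y, hy⟩]; rfl⟩
  obtain ⟨a, b, hw⟩ := hK.exists_wts h h2 h4 α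
  have hp' := hK.pow_mem h x
  obtain rfl : a = -1 := (hw.top x).unique
    (sc_neg (hK.le (lcs_anti (by omega) (h₃ x hx))) hp') hxK hp'
  obtain ⟨j, -, hj⟩ := hK.exists_inf_eq h h2 hxK (le_normalizer hx) (hb.le.trans (center_le_ess hE))
  have hjn : j ≤ n - 3 := by
    by_contra e'
    have k₁ := card_le_mul_of_relIndex_le (H := K) (K := E) (m := p)
      ((relIndex_le_of_le_right le_top (by rw [relIndex_top_right, hK.idx]; exact hp.out.ne_zero)).trans
        (by rw [relIndex_top_right, hK.idx]))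
    have k₂ := Subgroup.card_le_of_le (hK.anti (show n - 2 ≤ j by omega))
    rw [hK.card_tsr h (j := n - 2) (by omega), ← hj, inf_comm, show n - 1 - (n - 2) = 1 by omega] at k₂
    have := k₁.trans (Nat.mul_le_mul_left p k₂)
    rw [hc, ← pow_succ', Nat.pow_le_pow_iff_right hp.out.one_lt] at this
    omega
  obtain ⟨y, hy, hy'⟩ := SetLike.exists_of_lt (hK.tsr_lt h (j := n - 3) (by omega))
  have hp'' := hK.pow_mem_tsr h _ y hy
  have w₁ := (hw.mid _ (by omega) y hy).unique (sc_neg (lcs_anti (i := n - 3 + 1) (by omega)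
    (h₃ y (hj.ge (hK.anti hjn hy)).1)) hp'') hy' hp''
  obtain ⟨z, z₁, z₂, z₃⟩ := h.exists_gen
  have z₄ : z ∈ center G := z₃.le (mem_zpowers z)
  have w₂ := (hw.exc hexc z (hb.ge z₄)).unique (sc_one (by
    obtain ⟨w, hw, rfl⟩ := hZ.ge z₄
    rw [hα, Subgroup.coe_subtype, e w, h₂ w hw, inv_mul_cancel]; exact one_mem _)) z₁ z₂
  obtain ⟨⟨k, hk⟩, h6⟩ := hK.even h h2 h4 hexc
  rw [w₁, mul_neg, mul_one, neg_eq_iff_eq_neg] at w₂
  rw [w₂, Odd.neg_one_pow ⟨k - 2, by omega⟩, neg_mul_neg, mul_one] at w₁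
  exact neg_ne_one h2 w₁.symm

end TwoStep

theorem main (n : ℕ) : ∀ {G : Type u} [Group G] [Finite G] {K : Subgroup G}
    {F : FusionSystem (⊤ : Subgroup G)}, TwoStep p K → MaxCl p n G → 4 ≤ n → F.IsSaturated p →
    ∀ E, F.IsEssential p E → Prl p E ∨ E = K ∨ E = centralizer (lcs G (n - 3) : Set G) := by
  induction n with
  | zero => exact fun _ _ h => absurd h (by norm_num)
  | succ n ih =>
  intro G _ _ K F hK h h4 hF
  have hG := h.isPGroup
  have hS := hG.to_subgroup ⊤
  by_cases hab : ⁅K, K⁆ = ⊥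
  · exact fun E hE => (hK.main_ab h h4 hab hF hE).imp_right Or.inl
  have h2 : p ≠ 2 := mt (hK.comm_eq_bot h h4) hab
  have hn : 4 ≤ n := by
    by_contra e
    exact hab (eq_bot_iff.2 ((hK.comm_self h).trans (h.eq_bot (by omega)).le))
  have hZ : lcs G (n - 1) = center G := h.center_eq.symm
  have hnr : ∀ E, F.IsEssential p E → E < K → ∀ z ∈ center G, z ≠ 1 → NR F E z :=
    fun E hE hlt z hz hz1 β hβ e => by_contra fun hβ' => by
      obtain ⟨w, -, w₂, w₃⟩ := h.exists_gen
      have hZE := hZ.le.trans (center_le_ess hE)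
      obtain ⟨F', hF', hE'⟩ := exists_quot_essential hG hF (Z := lcs G (n - 1)) hE hZ.le hβ hβ'
        fun x hx => by
          obtain ⟨k, rfl⟩ := (zpowers_eq_of_mem w₂ (w₃.ge hz) hz1).ge (w₃.ge (hZ.le hx))
          rw [(Fus2.homOn_afn β).map_zpow (center_le_ess hE hz), e]
      have h' := h.quot (by omega)
      have hK' := hK.quot (hZE.trans hlt.le)
      have hle := map_mono (f := QuotientGroup.mk' (lcs G (n - 1))) hlt.le
      refine hlt.ne (map_injective_of_ker_le (QuotientGroup.mk' (lcs G (n - 1)))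
        (by rwa [QuotientGroup.ker_mk']) (by rw [QuotientGroup.ker_mk']; exact hZE.trans hlt.le) ?_)
      rcases ih hK' h' hn hF' _ hE' with k | k | k
      · obtain ⟨x, hx, hx'⟩ := exists_unif_of_prl h'.isPGroup hF' hE' k
        exact absurd (hle hx) (hK'.not_mem_of_unif h' hn hx')
      · exact k
      · exact by_contra fun e => not_le_of_index (k ▸ h'.index_cent hn) hK'.idx e hle
  have hle : ∀ E, F.IsEssential p E → ¬ Prl p E → _ := fun E hE e =>
    hK.le_or_le h h2 h4 (E := E) fun x hx e' => e (prl_of_unif hG hF hE hx e')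
  obtain ⟨z, z₁, z₂, z₃⟩ := h.exists_gen
  have z₄ : z ∈ center G := z₃.le (mem_zpowers z)
  by_cases h3 : p = 3
  · subst h3
    obtain ⟨x, hx, hx'⟩ := hK.exists_unif h h2 h4
    have hne : ⁅K, lcs G (n + 1 - 3)⁆ = ⊥ := eq_bot_iff.2 ((hK.pos_three h
      (hK.unif h h2 h4 hx hx') _ (by omega)).trans (h.eq_bot (by omega)).le)
    refine fun E hE => or_iff_not_imp_left.2 fun e => Or.inl (by_contra fun e' => ?_)
    have hlt : E < K := lt_of_le_of_ne ((hle E hE e).elim id (hK.cent_eq h h4 hne).le.trans') e'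
    obtain ⟨γ, hγ, hγ'⟩ := exists_not_ext hS hF hE
    have k₁ : z ∈ omZ 3 E := ⟨center_le_ess hE z₄, z₂, fun y _ =>
      (Subgroup.mem_center_iff.1 z₄ y).symm⟩
    have k₂ := (ai_self (A := ⊤)).omZ.2 γ trivial z k₁
    obtain ⟨j, -, j₁, j₂⟩ := hK.exists_pos' h (hlt.le k₂.1) (mt (afn_eq_one_iff γ).1 z₁)
    have := hK.pos_of_pow h h2 hne j₁ j₂ k₂.2.1
    exact hlt.not_ge fun g hg => (hnr E hE hlt z z₄ z₁).mem hG hF hE k₁ hγ hγ'
      (comm_le_bot_iff.1 hne.le g hg _ ((tsr_of_pos K (by omega)).le (hK.anti (by omega) j₁)))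
  have h5 : 5 ≤ p := by
    by_contra e
    have := hp.out.two_le
    exact absurd hp.out (by rw [show p = 4 by omega]; norm_num)
  intro E
  induction hk : Nat.card G - Nat.card E using Nat.strong_induction_on generalizing E with
  | _ k ihk =>
  intro hE
  have hmax : ∀ E', F.IsEssential p E' → Nat.card E < Nat.card E' → _ := fun E' hE' e =>
    ihk _ (by have := Subgroup.card_le_card_group E'; omega) E' rfl hE'
  by_cases hnm : E.Normal
  · exact Or.inr ((normal_essential_top hF hK h h5 h4 hE).2.imp_right fun e =>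
      e.resolve_right (by omega))
  refine or_iff_not_imp_left.2 fun e => Or.inl (by_contra fun e' => ?_)
  by_cases hEK : E ≤ K
  swap
  · exact not_x1 hF hK h hE ((hle E hE e).resolve_left hEK) hEK h5 (by omega) hnm e hmax
  have hlt := lt_of_le_of_ne hEK e'
  by_cases hne : ⁅K, lcs G (n + 1 - 3)⁆ = ⊥
  swap
  · exact not_x2 hF hK h h2 hE hEK hnm h4 hne z₃ z₂ z₁ (hnr E hE hlt z z₄ z₁)
  refine Bad.elim ⟨hF, hK, h, h5, by omega, hne, hE, hlt, fun E' hE' c => ?_, hnr⟩
  rcases hmax E' hE' c with k | k | k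
  · exact absurd ((not_cube' hF hK h h5 (by omega) hE e).trans (c.le.trans k.card_le))
      (Nat.pow_lt_pow_right hp.out.one_lt (by norm_num)).not_ge
  · exact k
  · exact k.trans (hK.cent_eq h h4 hne)

end Cfsg.Agent.Ess
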