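import Cfsg.Agent.Lib.MC.Grp
import Cfsg.Agent.Lib.Ess.Lvl
import Cfsg.Agent.Lib.Ess.TvAb
import Cfsg.Agent.Lib.ZJ.Control
import Cfsg.Agent.Lib.Biset.ModelExist

/-!
Normal essential subgroups of `p`-groups of maximal class.
-/

set_option autoImplicit false
set_option linter.style.haveILetI false
set_option linter.unusedVariables false
set_option linter.unusedSectionVars false

namespace Cfsg.Agent.Ess

open Subgroup Cfsg.Agent.Fus Cfsg.Agent.TwoGrp
open Cfsg.FusionSystem (normalizerIn centralizerIn)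
open Cfsg.Agent.Fus2 (M afn img HomOn)
open scoped commutatorElement

universe u

section Group

variable {G : Type u} [Group G] {p n : ℕ} {K : Subgroup G} [hp : Fact p.Prime] [Finite G]

theorem TwoStep.nonvan' (hK : TwoStep p K) (h : MaxCl p n G) {m : ℕ} (hm : 1 ≤ m) (hpos : Pos K m)
    (hne : ¬ ⁅K, lcs G m⁆ ≤ lcs G (m + 2)) (i j : ℕ) (hij : i + j = m) :
    ¬ ⁅tsr K i, tsr K j⁆ ≤ lcs G (m + 2) := by
  induction i generalizing j with
  | zero =>
    rw [zero_add] at hij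
    subst hij
    rwa [tsr_of_pos K (i := j) (by omega)]
  | succ i ih =>
    intro hc
    refine ih (j + 1) (by omega) ?_
    rw [commutator_comm, hK.tsr_succ j]
    refine three_sub ?_ ?_
    · rwa [commutator_comm ⊤, ← hK.tsr_succ]
    · refine (commutator_mono (hK.comm_tsr' h hpos (by omega)) le_rfl).trans ?_
      rw [show m + 2 = i + j + 2 + 1 by omega]
      exact le_rfl

theorem TwoStep.card_tsr_lt (hK : TwoStep p K) (h : MaxCl p n G) {j : ℕ} (hj : j + 2 ≤ n) :
    p * Nat.card (tsr K (j + 1)) ≤ Nat.card (tsr K j) :=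
  mul_card_le_of_lt (h.isPGroup.to_subgroup _) (hK.tsr_lt h hj)

/-- Transvections on an abelian term of the lower central series of an exceptional group. -/
theorem TwoStep.exists_tv (hK : TwoStep p K) (h : MaxCl p n G) (h2 : p ≠ 2) (h4 : 4 ≤ n)
    (hexc : ⁅K, lcs G (n - 3)⁆ ≠ ⊥) {i : ℕ} (hi : 1 ≤ i) (hin : i + 1 ≤ n)
    (hab : ∀ x ∈ lcs G i, ∀ y ∈ lcs G i, Commute x y) {w : G} (hw : w ∈ lcs G i) :
    ∃ u, u ∉ lcs G i ∧ Commute u w ∧ ∀ x ∈ lcs G i, ⁅x, u⁆ ∈ center G := by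
  have hpos := hK.pos h2 n h
  have hb : lcs G (n - 3 + 2) = ⊥ := h.eq_bot (by omega)
  have h₁ : n ≤ 2 * i + 2 := by
    by_contra e
    refine hK.nonvan' h (by omega) hpos (by rwa [hb, le_bot_iff]) i (n - 3 - i) (by omega) ?_
    rw [tsr_of_pos K hi, tsr_of_pos K (by omega)]
    refine commutator_le.2 fun x hx y hy => ?_
    rw [(hab x hx y (lcs_anti (by omega) hy)).commutator_eq]
    exact one_mem _
  obtain ⟨a, rfl⟩ : ∃ a, i = a + 2 := ⟨i - 2, by
    by_contra e
    obtain rfl : n = 4 := by omega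
    exact hexc (eq_bot_iff.2 (hK.comm.trans hb.le))⟩
  have h₂ : ∀ u ∈ tsr K a, ∀ x ∈ lcs G (a + 2), ⁅u, x⁆ ∈ center G := fun u hu x hx => by
    rw [h.center_eq]
    by_cases e : a + (a + 2) < n - 3
    · exact lcs_anti (by omega) (hK.comm_tsr' h hpos e (commutator_mem_commutator hu hx))
    · exact lcs_anti (by omega) (comm_tsr_le K a (a + 2) (commutator_mem_commutator hu hx))
  have h₃ : ¬ centralizer {w} ⊓ tsr K a ≤ lcs G (a + 2) := fun e => by
    have h₄ := (card_le_mul_of_relIndex_le (relIndex_centralizer_le fun u hu => h₂ u hu w hw)).trans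
      (Nat.mul_le_mul_left _ (Subgroup.card_le_of_le e))
    have h₅ := (Nat.mul_le_mul_left p (hK.card_tsr_lt h (j := a + 1) hin)).trans
      (hK.card_tsr_lt h (j := a) (by omega))
    rw [h.card_center] at h₄
    have h₆ := Nat.le_of_mul_le_mul_left (h₅.trans h₄) hp.out.pos
    have h₇ : 0 < Nat.card (lcs G (a + 2)) := Nat.card_pos
    have := hp.out.two_le
    change p * Nat.card (lcs G (a + 2)) ≤ _ at h₆
    nlinarith
  obtain ⟨u, hu, hu'⟩ := SetLike.not_le_iff_exists.1 h₃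
  exact ⟨u, hu', mem_centralizer_singleton_iff.1 hu.1, fun x hx => comm_mem_symm (h₂ u hu.2 x hx)⟩

theorem EssData.not_maxCl {A T : Subgroup (MulAut G)} (hd : EssData p A T) (h : MaxCl p n G)
    (h4 : 4 ≤ n) : False := by
  obtain ⟨K, hK⟩ := h.exists_twoStep h4
  have key : ∀ j, Ctl p (ncl A T) ⊤ (tsr K j) := fun j => by
    induction j with
    | zero =>
      exact hd.ctl_of_relIndex le_top (inv_top _) (hK.inv h h4 A)
        (by rw [relIndex_top_right]; exact hK.idx.dvd)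
    | succ j ih =>
      exact hd.ctl_trans (hK.inv_tsr h h4 A _) ih (hd.ctl_of_relIndex (hK.anti j.le_succ)
        (hK.inv_tsr h h4 A _) (hK.inv_tsr h h4 A _) (hK.relIndex_dvd h j))
  have := key n
  rw [tsr_of_pos K (by omega), h.eq_bot (by omega)] at this
  exact hd.not_ctl this

end Group

section Fusion

variable {Ω : Type u} [Group Ω] {S : Subgroup Ω} {F : FusionSystem S} {E : Subgroup Ω} {p : ℕ}
  [Finite S] [hp : Fact p.Prime] (hS : IsPGroup p S) (hF : F.IsSaturated p)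
include hS hF

theorem exists_model_normal (hE : F.IsEssential p E) (hn : S ≤ normalizer (E : Set Ω)) :
    ∃ (H : Type u) (_ : Group H) (_ : Finite H) (ι : S →* H), Function.Injective ι ∧
      ¬ p ∣ ι.range.index ∧ ((E.subgroupOf S).map ι).Normal ∧
      pCore p H ≤ (E.subgroupOf S).map ι ∧
      centralizer ((E.subgroupOf S).map ι : Set H) ≤ (E.subgroupOf S).map ι := by
  have hES := hE.1.1
  obtain ⟨D, hD⟩ := ZJF.exists_normSys F hES (T := S) (inf_eq_left.2 hn).symm
  have hDn := ZJF.IsNK.isNormal_top hD hES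
  have hc := IsCentric_centralizerIn_le hE.1
  obtain ⟨H, _, ι, hH⟩ := Biset.exists_model hS (ZJF.IsNK.sat_top hS hF hD hE.2.1) hDn hc
  have hA : D.autGroup E = F.autGroup E := by
    ext α
    rw [Fus2.mem_autGroup_iff hES, Fus2.mem_autGroup_iff hES]
    exact ⟨ZJF.IsNK.toM hD _ _, fun h => ZJF.IsNK.M_of hD h le_rfl le_normalizer
      fun x hx => Fus2.afn_mem α hx⟩
  have hO := le_of_isNormal_of_centric_radical hS (Asch.model_isNormal_pre hH)
    (Asch.centric_of_normal hDn hc) ⟨hES, by rw [hA]; exact (isRadical_of_isEssential hS hE).2⟩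
  obtain ⟨T, hT⟩ := hH.2.2.1
  haveI := hH.1
  refine ⟨H, _, hH.1, ι, hH.2.1.1, hT ▸ T.not_dvd_index, ⟨?_⟩, fun g hg => ?_, fun g hg => ?_⟩
  · rintro _ ⟨x, hx, rfl⟩ g
    obtain ⟨q, hq, e⟩ := Asch.model_conj_mem hH hDn g hx
    exact ⟨⟨q, hES hq⟩, hq, by rw [← Fus2.fn_apply ι, ← e]; simp⟩
  · obtain ⟨x, rfl⟩ := Asch.model_pCore_le hH hg
    exact ⟨x, hO ⟨x, hg, rfl⟩, rfl⟩
  · obtain ⟨z, hz, e⟩ := Asch.model_mem_of_comm hH hDn hc (g := g) fun q hq => by
      rw [Fus2.fn_apply ι (hES hq), ← hg _ (mem_map_of_mem ι (show (⟨q, hES hq⟩ : S) ∈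
        E.subgroupOf S from hq)), mul_inv_cancel_right]
    exact ⟨⟨z, hES hz⟩, hz, by rw [← e, Fus2.fn_apply ι]⟩

theorem not_lcs_essential {n : ℕ} (h : MaxCl p n S) (h5 : 5 ≤ p) (h4 : 4 ≤ n)
    (hE : F.IsEssential p E) {j : ℕ} (hj : E.subgroupOf S = lcs S (j + 1)) : False := by
  have hES := hE.1.1
  haveI := finite_of_le hES
  have h2 : p ≠ 2 := by omega
  have hn : S ≤ normalizer (E : Set Ω) :=
    (normal_subgroupOf_iff_le_normalizer hES).1 (hj ▸ inferInstance)
  obtain ⟨K, hK⟩ := h.exists_twoStep h4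
  obtain ⟨H, _, _, ι, h₁, h₂, h₃, h₄, h₅⟩ := exists_model_normal hS hF hE hn
  rw [hj] at h₃ h₄ h₅
  refine hK.no_normal h h5 h4 j ι h₁ h₂ h₃ h₄ h₅ ?_
  by_contra e
  rw [not_or, not_not] at e
  have hab : ∀ x ∈ lcs S (j + 1), ∀ y ∈ lcs S (j + 1), Commute x y := fun x hx y hy =>
    commutatorElement_eq_one_iff_commute.1 (e.1.le (comm_mem_phi hx hy))
  haveI : IsCyclic (center S) := isCyclic_of_prime_card h.card_center
  obtain ⟨z, hz⟩ := isCyclic_iff_exists_zpowers_eq_top.1 ‹IsCyclic (center S)›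
  have hz₁ : ∀ g : S, Commute ((z : S) : Ω) g := fun g =>
    (commute_of_mem_center z.2 g).map S.subtype
  have hzE : ((z : S) : Ω) ∈ E := mem_of_commute hE.1 (z : S).2 fun x hx => hz₁ ⟨x, hES hx⟩
  have hzp : ((z : S) : Ω) ^ p = 1 := by
    have := pow_card_eq_one' (x := z)
    rw [h.card_center] at this
    exact congrArg (fun x : center S => ((x : S) : Ω)) this
  have hjn : j + 2 ≤ n := by
    by_contra e'
    have := hj.le (show (z : S) ∈ E.subgroupOf S from hzE)
    rw [h.eq_bot (by omega), mem_bot] at this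
    have h₆ := h.card_center
    rw [← card_top, ← hz, show z = 1 from Subtype.ext this, zpowers_one_eq_bot, card_bot] at h₆
    exact hp.out.ne_one h₆.symm
  obtain ⟨γ, hγ, hγ'⟩ := (essData hS hF hE).not_ctl_pair
  obtain ⟨u, hu, hu₁, hu₂⟩ := hK.exists_tv h h2 h4 e.2 (by omega) hjn hab
    (w := ⟨γ ⟨_, hzE⟩, hES (γ ⟨_, hzE⟩).2⟩) (hj.le (γ ⟨_, hzE⟩).2)
  have htv := tv_conjAut (p := p) (hn u.2) hzE hzp (hz₁ u).symm fun x hx => by
    obtain ⟨k, hk⟩ := hz.ge (mem_top ⟨_, hu₂ ⟨x, hES hx⟩ (hj.le hx)⟩)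
    exact ⟨k, congrArg (fun x : center S => ((x : S) : Ω)) hk⟩
  have hT := conjAut_mem_autInducedBy u.2 (hn u.2)
  have hI := mt (mem_iff_conjAut_mem_Inn hE.1 u.2 (hn u.2)).1 fun e' => hu (hj.le e')
  exact hγ' _ hT _ hT hI hI (htv.ctl_of_fix (isPGroup_of_le hS hES)
    (htv.conj (fun _ _ => trivial) fun _ _ => trivial)
    (Subtype.ext (conj_eq_iff_commute.2 (hu₁.map S.subtype))))

theorem normal_essential {n : ℕ} (h : MaxCl p n S) (h5 : 5 ≤ p) (h4 : 4 ≤ n)
    (hE : F.IsEssential p E) (hn : (E.subgroupOf S).Normal) {K : Subgroup S} (hK : TwoStep p K) :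
    (E.subgroupOf S).index = p ∧ (E.subgroupOf S = K ∨
      E.subgroupOf S = centralizer (lcs S (n - 3) : Set S) ∨
      (n = 4 ∧ Nat.card E = p ^ 3 ∧ IsExtraspecial p E ∧ Monoid.exponent E = p)) := by
  have hES := hE.1.1
  haveI := finite_of_le hES
  have h2 : p ≠ 2 := by omega
  have hi : (E.subgroupOf S).index = p := by
    obtain ⟨k, hk⟩ := hS.index (E.subgroupOf S)
    rcases k with _ | _ | k
    · rw [pow_zero, index_eq_one, subgroupOf_eq_top] at hk
      exact absurd hk (lt_of_isEssential hS hF hE).not_ge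
    · simpa using hk
    · exact (not_lcs_essential hS hF h h5 h4 hE (h.eq_lcs_of_index (by omega) hk).2).elim
  refine ⟨hi, ?_⟩
  have hmax : ∀ C : Subgroup S, C ≠ ⊤ → E.subgroupOf S ≠ C → C.subgroupOf (E.subgroupOf S) ≠ ⊤ :=
    fun C hC hne e => ((eq_or_eq_of_relIndex_dvd (p := p) (subgroupOf_eq_top.1 e) le_top
      (by rw [relIndex_top_right, hi])).elim (fun e' => hne e'.symm) hC)
  rw [or_iff_not_imp_left, or_iff_not_imp_left]
  intro h₁ h₂
  obtain ⟨s, hs, hs'⟩ := hK.exists_unif h h2 h4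
  obtain ⟨x, hx, hx'⟩ := exists_not_mem_two (hmax _ (fun e => hs (e.ge trivial)) h₁)
    (hmax _ (fun e => hs' (e.ge trivial)) h₂)
  have hu := hK.unif h h2 h4 hx hx'
  have hc : Nat.card E = p ^ (n - 1) := by
    rw [← Nat.card_congr (subgroupOfEquivOfLe hES).toEquiv]
    exact card_eq_of_index (n := 1) hp.out.pos (by rw [h.card]; congr 1; omega) (by simpa using hi)
  have hu' : Nat.card (centralizer {(⟨x, x.2⟩ : E)}) ≤ p ^ 2 := by
    refine le_trans (Nat.card_le_card_of_injective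
      (fun y => (⟨inclusion hES y, ?_⟩ : centralizer {(x : S)})) fun a b e => ?_) hu
    · exact mem_centralizer_singleton_iff.2 (Subtype.ext
        (congrArg Subtype.val (mem_centralizer_singleton_iff.1 y.2) :))
    · exact Subtype.ext (inclusion_injective hES (congrArg Subtype.val e))
  have hm := maxCl_of_card_le hc (by omega) hu'
  obtain rfl : n = 4 := by
    by_contra e
    exact (essData hS hF hE).not_maxCl hm (by omega)
  have hna : ¬ ∀ x y : E, Commute x y := fun e => hm.ne (eq_bot_iff.2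
    (commutator_le.2 fun x _ y _ => by rw [(e x y).commutator_eq]; exact one_mem _))
  obtain ⟨h₃, -, h₄⟩ := (pearl_of_prl hS hF h2 hE (Or.inr ⟨hc, hna⟩)).resolve_left fun e =>
    (Nat.pow_lt_pow_right hp.out.one_lt (show 2 < 3 by norm_num)).ne (e.2.symm.trans hc)
  haveI := nontrivial_of_not_comm hna
  exact ⟨rfl, hc, h₃, (Monoid.exponent_eq_prime_iff hp.out).2 fun g hg =>
    orderOf_eq_prime (Subtype.ext (h₄ g g.2)) hg⟩

end Fusion

end Cfsg.Agent.Ess
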