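import Cfsg.Agent.Lib.MC.Core
import Cfsg.Agent.Lib.ZJ.Dickson2

/-! Pairs of quadratic elements. -/

set_option autoImplicit false
set_option linter.style.haveILetI false
set_option linter.unusedVariables false
set_option linter.unusedSectionVars false

namespace Cfsg.Agent.MC

open Module Subgroup

section Ring

variable {F : Type*} [Field F] {R : Type*} [Ring R] [Algebra F R] {n m : R}

theorem comm_anti (hn : n * n = 0) : Commute (n * m + m * n) n := by
  change _ * _ = _ * _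
  rw [add_mul, mul_add, mul_assoc m, hn, ← mul_assoc n n, hn, mul_assoc]
  simp

theorem word_id (hn : n * n = 0) (hm : m * m = 0) (b : F) :
    n * (((1 + m) * (1 + b • n) * (1 + m)) * n * ((1 - m) * (1 - b • n) * (1 - m))) +
      (((1 + m) * (1 + b • n) * (1 + m)) * n * ((1 - m) * (1 - b • n) * (1 - m))) * n =
    -((n * m + m * n) * (2 + b • (n * m + m * n))) ^ 2 := by
  have h1 : ∀ x, n * (n * x) = 0 := fun x => by rw [← mul_assoc, hn, zero_mul]
  have h2 : ∀ x, m * (m * x) = 0 := fun x => by rw [← mul_assoc, hm, zero_mul]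
  rw [← one_add_one_eq_two, pow_two]
  simp only [mul_add, add_mul, mul_sub, sub_mul, mul_one, one_mul, mul_assoc, smul_mul_assoc,
    mul_smul_comm, h1, h2, hn, hm, mul_zero, smul_zero, zero_mul, smul_add, smul_sub, smul_smul]
  module

theorem omega_id {π : R} {c l μ : F} (hn : n * n = 0) (hw : (n * m + m * n) * π = c • π)
    (hπ : n * π = π * n) (h : l * μ * c = -1) :
    (1 + l • n) * (1 + μ • m) * (1 + l • n) * π = (l • n + μ • m) * π := by
  have h1 : n * (m * π) = c • π - m * (n * π) := by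
    rw [← hw, add_mul, mul_assoc, mul_assoc, add_sub_cancel_right]
  have h2 : n * (m * (n * π)) = c • (n * π) := by
    have := congrArg (· * n) hw
    simp only [add_mul, mul_assoc, ← hπ, smul_mul_assoc] at this
    rwa [← mul_assoc n n, hn, zero_mul, mul_zero, add_zero] at this
  have h3 : n * (n * π) = 0 := by rw [← mul_assoc, hn, zero_mul]
  simp only [mul_add, add_mul, mul_one, one_mul, mul_assoc, smul_mul_assoc, mul_smul_comm, h1, h2,
    h3, smul_zero, smul_add, smul_sub, smul_smul]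
  match_scalars
  · linear_combination h
  · linear_combination l * h
  · ring
  · ring

end Ring

variable {p : ℕ} [hp : Fact p.Prime] {X : Type*} [Group X] {V : Type*} [AddCommGroup V]
  [Module (ZMod p) V] [Finite X] {ρ : X →* End (ZMod p) V} {x y t : X}

/-- Quadratic elements. -/
def Qd (ρ : X →* End (ZMod p) V) (x : X) : Prop := (ρ x - 1) * (ρ x - 1) = 0

/-- The anticommutator. -/
def Wp (ρ : X →* End (ZMod p) V) (x y : X) : End (ZMod p) V :=
  (ρ x - 1) * (ρ y - 1) + (ρ y - 1) * (ρ x - 1)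

theorem Qd.conj (h : Qd ρ t) (e : IsConj t x) : Qd ρ x := by
  obtain ⟨g, rfl⟩ := isConj_iff.1 e
  have := conj_pow_sub_one (ρ := ρ) g t 2
  rw [pow_two, pow_two, h, mul_zero, zero_mul] at this
  exact this.symm

theorem Qd.pow (h : Qd ρ x) (j : ℕ) : ρ (x ^ j) = 1 + (j : ZMod p) • (ρ x - 1) := by
  induction j with
  | zero => simp
  | succ j ih =>
    have e : ρ x = 1 + (ρ x - 1) := by abel
    rw [pow_succ, map_mul, ih]
    nth_rewrite 2 [e]
    rw [add_mul, mul_add, mul_add, smul_mul_assoc, smul_mul_assoc, h, Nat.cast_succ, add_smul]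
    simp
    abel

theorem Qd.inv_pow (h : Qd ρ x) (j : ℕ) : ρ (x ^ j)⁻¹ = 1 - (j : ZMod p) • (ρ x - 1) := by
  have e : ρ (x ^ j) * (1 - (j : ZMod p) • (ρ x - 1)) = 1 := by
    rw [h.pow, add_mul, mul_sub, mul_sub, smul_mul_assoc, smul_mul_assoc, mul_smul_comm,
      mul_smul_comm, h]
    simp
  calc ρ (x ^ j)⁻¹ = ρ (x ^ j)⁻¹ * (ρ (x ^ j) * (1 - (j : ZMod p) • (ρ x - 1))) := by
        rw [e, mul_one]
    _ = _ := by rw [← mul_assoc, ← map_mul, inv_mul_cancel, map_one, one_mul]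

theorem Wp_word (hx : Qd ρ x) (hy : Qd ρ y) (b : ZMod p) :
    Wp ρ x (y * x ^ b.val * y * x * (y * x ^ b.val * y)⁻¹) =
      -(Wp ρ x y * (2 + b • Wp ρ x y)) ^ 2 := by
  have e₁ := hy.pow 1
  have e₂ := hy.inv_pow 1
  rw [pow_one, Nat.cast_one, one_smul] at e₁ e₂
  rw [Wp, conj_sub_one, mul_inv_rev, mul_inv_rev, map_mul, map_mul, map_mul, map_mul, hx.pow,
    hx.inv_pow, ZMod.natCast_zmod_val, e₂, e₁, add_sub_cancel_left, ← mul_assoc (1 - (ρ y - 1))]
  exact word_id hx hy b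

theorem exists_filt (hx : Qd ρ x) (hy : Qd ρ y) {M : ℕ} :
    ∃ U : ℕ → Submodule (ZMod p) V, U 0 = LinearMap.ker (Wp ρ x y ^ M) ∧ U (2 * M + 1) = ⊥ ∧
      (∀ j, U (j + 1) ≤ U j) ∧ ∀ g ∈ closure {x, y}, ∀ j, ∀ u ∈ U j, (ρ g - 1) u ∈ U (j + 1) := by
  set n := ρ x - 1
  set m := ρ y - 1
  set w := Wp ρ x y
  have hn : Commute w n := comm_anti hx
  have hm : Commute w m := by
    have := comm_anti (m := n) hy
    rwa [add_comm] at this
  let U : ℕ → Submodule (ZMod p) V := fun j => Nat.rec (LinearMap.ker (w ^ M))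
    (fun _ A => A.map n ⊔ A.map m) j
  have hU : ∀ j, U (j + 1) = (U j).map n ⊔ (U j).map m := fun _ => rfl
  have h1 : ∀ j, ∀ u ∈ U j, n u ∈ U (j + 1) := fun j u hu => Submodule.mem_sup_left ⟨u, hu, rfl⟩
  have h2 : ∀ j, ∀ u ∈ U j, m u ∈ U (j + 1) := fun j u hu => Submodule.mem_sup_right ⟨u, hu, rfl⟩
  have h3 : ∀ j, U (j + 1) ≤ U j := fun j => by
    induction j with
    | zero =>
      refine sup_le ?_ ?_ <;> rintro _ ⟨u, hu, rfl⟩
      · change (w ^ M * n) u = 0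
        rw [(hn.pow_left M).eq, End.mul_apply, show (w ^ M) u = 0 from hu, map_zero]
      · change (w ^ M * m) u = 0
        rw [(hm.pow_left M).eq, End.mul_apply, show (w ^ M) u = 0 from hu, map_zero]
    | succ j ih => exact sup_le_sup (Submodule.map_mono ih) (Submodule.map_mono ih)
  have hnn : ∀ u, n (n u) = 0 := fun u => LinearMap.congr_fun hx u
  have hmm : ∀ u, m (m u) = 0 := fun u => LinearMap.congr_fun hy u
  have hw : ∀ u, w u = n (m u) + m (n u) := fun _ => rfl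
  have h4 : ∀ j, U (j + 3) ≤ (U (j + 1)).map w := fun j => by
    rw [hU (j + 2), hU (j + 1), hU j]
    simp only [Submodule.map_sup, sup_le_iff, Submodule.map_le_iff_le_comap]
    refine ⟨⟨⟨fun u hu => ?_, fun u hu => ?_⟩, fun u hu => ?_, fun u hu => ?_⟩,
      ⟨fun u hu => ?_, fun u hu => ?_⟩, fun u hu => ?_, fun u hu => ?_⟩ <;>
      simp only [Submodule.mem_comap, hnn, hmm, map_zero, zero_mem]
    · exact Submodule.mem_sup_left ⟨_, ⟨u, hu, rfl⟩, by rw [hw, hnn, map_zero, add_zero]⟩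
    · exact Submodule.mem_sup_right ⟨_, ⟨u, hu, rfl⟩, by rw [hw, hmm, map_zero, zero_add]⟩
  have h5 : ∀ i, U (2 * i + 1) ≤ (U 1).map (w ^ i) := fun i => by
    induction i with
    | zero => rw [pow_zero]; exact fun u hu => ⟨u, hu, rfl⟩
    | succ i ih =>
      refine (h4 (2 * i)).trans ((Submodule.map_mono ih).trans ?_)
      rintro _ ⟨_, ⟨u, hu, rfl⟩, rfl⟩
      exact ⟨u, hu, by rw [pow_succ', End.mul_apply]⟩
  refine ⟨U, rfl, eq_bot_iff.2 ((h5 M).trans ?_), h3, fun g hg => ?_⟩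
  · rintro _ ⟨u, hu, rfl⟩
    exact h3 0 hu
  · refine (closure_le (subOf (fun g => ∀ j, ∀ u ∈ U j, (ρ g - 1) u ∈ U (j + 1)) ?_ ?_)).2 ?_ hg
    · intro j u hu
      rw [map_one, sub_self]
      exact zero_mem _
    · intro a b ha hb j u hu
      rw [map_mul, mul_sub_one_eq, LinearMap.add_apply, LinearMap.add_apply, End.mul_apply]
      exact add_mem (add_mem (h3 (j + 1) (ha (j + 1) _ (hb j u hu))) (ha j u hu)) (hb j u hu)
    · rintro _ (rfl | rfl)
      exacts [h1, h2]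

theorem pow_apply_eq_zero {U : ℕ → Submodule (ZMod p) V} {A : End (ZMod p) V} {L : ℕ}
    (hL : U L = ⊥) (hA : ∀ j, ∀ u ∈ U j, A u ∈ U (j + 1)) {u : V} (hu : u ∈ U 0) :
    (A ^ L) u = 0 := by
  have : ∀ j, (A ^ j) u ∈ U j := fun j => by
    induction j with
    | zero => exact hu
    | succ j ih => rw [pow_succ', End.mul_apply]; exact hA j _ ih
  simpa [hL] using this L

theorem pow_pow_apply (hx : Qd ρ x) (hy : Qd ρ y) (M : ℕ) {g : X} (hg : g ∈ closure {x, y})
    {u : V} (hu : (Wp ρ x y ^ M) u = 0) : ρ (g ^ p ^ (2 * M + 1)) u = u := by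
  obtain ⟨U, h₁, h₂, h₃, h₄⟩ := exists_filt hx hy (M := M)
  have e : ∀ j, ρ (g ^ p ^ j) - 1 = (ρ g - 1) ^ p ^ j := fun j => by
    induction j with
    | zero => simp
    | succ j ih => rw [pow_succ, pow_mul, map_pow, pow_char_sub_one (F := ZMod p), ih, pow_mul]
  have := pow_apply_eq_zero h₂ (h₄ g hg) (u := u) (h₁ ▸ hu)
  obtain ⟨j, hj⟩ := Nat.exists_eq_add_of_le' (Nat.lt_pow_self (n := 2 * M + 1) hp.out.one_lt).le
  rw [← sub_eq_zero]
  change (ρ (g ^ p ^ (2 * M + 1)) - 1) u = 0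
  rw [e, hj, pow_add, End.mul_apply, this, map_zero]

variable [Module.Finite (ZMod p) V]

/-- The generalised kernel. -/
noncomputable abbrev K0 (A : End (ZMod p) V) : Submodule (ZMod p) V := LinearMap.ker (A ^ finrank (ZMod p) V)

theorem mem_K0 {A : End (ZMod p) V} {j : ℕ} {u : V} (h : (A ^ j) u = 0) : u ∈ K0 A :=
  End.ker_pow_le_ker_pow_finrank A j h

theorem K0_le (hx : Qd ρ x) (hy : Qd ρ y) {a b : X} (ha : a ∈ closure {x, y})
    (hb : b ∈ closure {x, y}) : K0 (Wp ρ x y) ≤ K0 (Wp ρ a b) := fun u hu => by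
  obtain ⟨U, h₁, h₂, h₃, h₄⟩ := exists_filt hx hy (M := finrank (ZMod p) V)
  exact mem_K0 (pow_apply_eq_zero h₂ (fun j u hu => add_mem (h₃ _ (h₄ a ha _ _ (h₄ b hb j u hu)))
    (h₃ _ (h₄ b hb _ _ (h₄ a ha j u hu)))) (h₁ ▸ hu))

theorem not_mem_K0 {A : End (ZMod p) V} {c : ZMod p} (hc : c ≠ 0) {e : V} (he : e ≠ 0)
    (h : A e = c • e) : e ∉ K0 A := fun h' => by
  have : ∀ j, (A ^ j) e = c ^ j • e := fun j => by
    induction j with
    | zero => simp
    | succ j ih => rw [pow_succ', End.mul_apply, ih, map_smul, h, smul_smul, pow_succ]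
  rw [LinearMap.mem_ker, this] at h'
  exact smul_ne_zero (pow_ne_zero _ hc) he h'

theorem exists_eigen (h2 : p ≠ 2) (hx : Qd ρ x) (hy : Qd ρ y) (h : K0 (Wp ρ x y) ≠ ⊤) :
    ∃ a ∈ closure {x, y}, ∃ b ∈ closure {x, y}, (IsConj x a ∨ IsConj y a) ∧
      (IsConj x b ∨ IsConj y b) ∧ ∃ e, e ≠ 0 ∧ Wp ρ a b e = (-1 : ZMod p) • e := by
  haveI : Finite V := Module.finite_of_finite (ZMod p)
  set w := Wp ρ x y
  set D := finrank (ZMod p) V
  have hn : Commute w (ρ x) := by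
    have := (comm_anti (m := ρ y - 1) hx).add_right (Commute.one_right _)
    rwa [sub_add_cancel] at this
  have hm : Commute w (ρ y) := by
    have := (comm_anti (m := ρ x - 1) hy).add_right (Commute.one_right _)
    rwa [add_comm ((ρ y - 1) * _), sub_add_cancel] at this
  obtain ⟨W₀, ⟨h₁, h₂, h₃, h₄⟩, hmin⟩ := exists_minimal_of_wellFoundedLT
    (fun S : Submodule ℤ V => S ≠ ⊥ ∧ (∀ u ∈ S, ∃ z, (w ^ D) z = u) ∧ (∀ u ∈ S, ρ x u ∈ S) ∧
      ∀ u ∈ S, ρ y u ∈ S) ⟨(LinearMap.range (w ^ D)).restrictScalars ℤ, fun e => h (by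
        rw [Submodule.restrictScalars_eq_bot_iff, LinearMap.range_eq_bot] at e
        rw [K0, e, LinearMap.ker_zero]), fun u hu => hu, by
      rintro _ ⟨u, rfl⟩
      exact ⟨_, LinearMap.congr_fun (hn.pow_left D).eq u⟩, by
      rintro _ ⟨u, rfl⟩
      exact ⟨_, LinearMap.congr_fun (hm.pow_left D).eq u⟩⟩
  have hinv : ∀ g ∈ closure {x, y}, ∀ u ∈ W₀, ρ g u ∈ W₀ := fun g hg =>
    (closure_le (subOf (fun g => ∀ u ∈ W₀, ρ g u ∈ W₀) (fun u hu => by rwa [map_one])
      fun a b ha hb u hu => by rw [map_mul]; exact ha _ (hb u hu))).2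
      (by rintro _ (rfl | rfl); exacts [h₃, h₄]) hg
  let σ : closure {x, y} →* End ℤ W₀ :=
    { toFun := fun g => ((ρ g).toAddMonoidHom.toIntLinearMap).restrict (hinv g g.2)
      map_one' := LinearMap.ext fun u => Subtype.ext (by
        change ρ 1 u = u; rw [map_one]; rfl)
      map_mul' := fun a b => LinearMap.ext fun u => Subtype.ext (by
        change ρ (a * b) u = ρ a (ρ b u); rw [map_mul]; rfl) }
  have hσ : ∀ g (u : W₀), (σ g u : V) = ρ g u := fun _ _ => rfl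
  obtain ⟨a, b, ⟨g, -, ha⟩, ⟨g', -, hb⟩, z, e, e₀, e₁, e₂, e₃, e₄⟩ := Dickson.exists_pair (p := p)
    h2 (fun u => Subtype.ext (by
      change p • (u : V) = 0
      rw [← Nat.cast_smul_eq_nsmul (ZMod p), ZMod.natCast_self, zero_smul])) σ
    (x := ⟨x, subset_closure (Or.inl rfl)⟩) (y := ⟨y, subset_closure (Or.inr rfl)⟩)
    (LinearMap.ext fun u => Subtype.ext (LinearMap.congr_fun hx (u : V)))
    (LinearMap.ext fun u => Subtype.ext (LinearMap.congr_fun hy (u : V)))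
    (fun S k₁ k₂ => by
      refine or_iff_not_imp_left.2 fun k₃ => eq_top_iff.2 fun u _ => ?_
      have := hmin (y := S.map W₀.subtype) ⟨fun e => k₃ (Submodule.map_injective_of_injective
        W₀.injective_subtype (e.trans (Submodule.map_bot _).symm)), by rintro _ ⟨u, _, rfl⟩; exact h₂ _ u.2, by
          rintro _ ⟨u, hu, rfl⟩; exact ⟨_, k₁ u hu, rfl⟩, by
          rintro _ ⟨u, hu, rfl⟩; exact ⟨_, k₂ u hu, rfl⟩⟩ (Submodule.map_subtype_le _ _) u.2
      obtain ⟨u', hu', e⟩ := this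
      rwa [← Subtype.ext e])
    (fun ⟨k₁, k₂⟩ => h₁ (eq_bot_iff.2 fun u hu => by
      obtain ⟨z, rfl⟩ := h₂ u hu
      have k₃ : ρ x ((w ^ D) z) = (w ^ D) z := congrArg Subtype.val (LinearMap.congr_fun k₁ ⟨_, hu⟩)
      have k₄ : ρ y ((w ^ D) z) = (w ^ D) z := congrArg Subtype.val (LinearMap.congr_fun k₂ ⟨_, hu⟩)
      refine mem_K0 (j := D + 1) ?_
      rw [pow_succ', End.mul_apply]
      generalize (w ^ D) z = q at k₃ k₄
      simp [w, Wp, k₃, k₄]))
  refine ⟨a, a.2, b, b.2, ha.imp (fun e => isConj_iff.2 ⟨g, (congrArg Subtype.val e).symm⟩)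
    fun e => isConj_iff.2 ⟨g, (congrArg Subtype.val e).symm⟩, hb.imp
    (fun e => isConj_iff.2 ⟨g', (congrArg Subtype.val e).symm⟩)
    fun e => isConj_iff.2 ⟨g', (congrArg Subtype.val e).symm⟩, e, fun k => e₀ (Subtype.ext k), ?_⟩
  have f₂ : ρ a e = z + e := congrArg Subtype.val e₂
  have f₃ : ρ b e = e := congrArg Subtype.val e₃
  have f₄ : ρ b z + e = z := congrArg Subtype.val e₄
  simp only [Wp, LinearMap.add_apply, End.mul_apply, LinearMap.sub_apply, End.one_apply, f₂, f₃,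
    sub_self, map_zero, zero_add, add_sub_cancel_right, neg_smul, one_smul]
  rw [sub_eq_iff_eq_add, eq_neg_add_iff_add_eq, add_comm, f₄]

end Cfsg.Agent.MC
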