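import Mathlib

/-! Regular nilpotent operators and their flags. -/

set_option autoImplicit false
set_option linter.style.haveILetI false
set_option linter.unusedVariables false
set_option linter.unusedSectionVars false

namespace Cfsg.Agent.MC

open Finset Module

variable {F : Type*} [Field F] {V : Type*} [AddCommGroup V] [Module F V]

/-- The flag cut out by the coordinates. -/
def Fl (co : ℕ → V →ₗ[F] F) (a : ℕ) : Submodule F V where
  carrier := {w | ∀ c < a, co c w = 0}
  zero_mem' := fun c _ => map_zero _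
  add_mem' ha hb c hc := by rw [map_add, ha c hc, hb c hc, add_zero]
  smul_mem' r x hx c hc := by rw [map_smul, hx c hc, smul_zero]

/-- Operators of degree at least `r`. -/
def Dg (co : ℕ → V →ₗ[F] F) (r : ℕ) (A : End F V) : Prop :=
  ∀ a, ∀ w ∈ Fl co a, A w ∈ Fl co (a + r)

/-- Data of a regular nilpotent operator. -/
structure Reg (N : End F V) (d : ℕ) (v : ℕ → V) (co : ℕ → V →ₗ[F] F) : Prop where
  Nv : ∀ a, N (v a) = v (a + 1)
  vd : ∀ a, d ≤ a → v a = 0
  co_v : ∀ a b, b < d → co a (v b) = if a = b then 1 else 0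
  ext : ∀ w, (∀ a < d, co a w = 0) → w = 0

/-- Leading coefficients. -/
def cf (v : ℕ → V) (co : ℕ → V →ₗ[F] F) (r : ℕ) (A : End F V) (a : ℕ) : F := co (a + r) (A (v a))

variable {N A B : End F V} {d : ℕ} {v : ℕ → V} {co : ℕ → V →ₗ[F] F} {a b r r' : ℕ} {w : V}

theorem Fl_zero : Fl co 0 = ⊤ := eq_top_iff.2 fun _ _ c hc => absurd hc (Nat.not_lt_zero c)

theorem mem_Fl_zero (w : V) : w ∈ Fl co 0 := fun c hc => absurd hc (Nat.not_lt_zero c)

theorem Fl_anti (h : a ≤ b) : Fl co b ≤ Fl co a := fun _ hw c hc => hw c (hc.trans_le h)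

theorem mem_Fl_succ : w ∈ Fl co (a + 1) ↔ w ∈ Fl co a ∧ co a w = 0 :=
  ⟨fun h => ⟨Fl_anti (Nat.le_succ a) h, h a (Nat.lt_succ_self a)⟩, fun h c hc => by
    rcases Nat.lt_succ_iff_lt_or_eq.1 hc with hc | rfl
    exacts [h.1 c hc, h.2]⟩

theorem Dg.mono (h : Dg co r A) (hr : r' ≤ r) : Dg co r' A :=
  fun a w hw => Fl_anti (by omega) (h a w hw)

theorem Dg.mul (h : Dg co r A) (h' : Dg co r' B) : Dg co (r + r') (A * B) := fun a w hw => by
  have := h _ _ (h' a w hw)
  rwa [add_assoc, add_comm r'] at this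

theorem Dg.mul_zero (h : Dg co r A) (h' : Dg co 0 B) : Dg co r (A * B) := h.mul h'

theorem Dg.zero_mul (h : Dg co 0 A) (h' : Dg co r B) : Dg co r (A * B) := by
  simpa using h.mul h'

theorem Dg.add (h : Dg co r A) (h' : Dg co r B) : Dg co r (A + B) :=
  fun a w hw => add_mem (h a w hw) (h' a w hw)

theorem Dg.sub (h : Dg co r A) (h' : Dg co r B) : Dg co r (A - B) :=
  fun a w hw => sub_mem (h a w hw) (h' a w hw)

theorem Dg.neg (h : Dg co r A) : Dg co r (-A) := fun a w hw => neg_mem (h a w hw)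

theorem Dg.smul (h : Dg co r A) (c : F) : Dg co r (c • A) :=
  fun a w hw => Submodule.smul_mem _ c (h a w hw)

theorem dg_zero : Dg co r (0 : End F V) := fun _ _ _ => zero_mem _

theorem dg_one : Dg co 0 (1 : End F V) := fun _ _ hw => hw

theorem Dg.pow (h : Dg co r A) (m : ℕ) : Dg co (r * m) (A ^ m) := by
  induction m with
  | zero => exact dg_one
  | succ m ih => rw [pow_succ, mul_add, mul_one]; exact ih.mul h

theorem Dg.of_sub_one (h : Dg co r (A - 1)) : Dg co 0 A := by
  simpa using (h.mono (Nat.zero_le r)).add dg_one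

theorem cf_add : cf v co r (A + B) a = cf v co r A a + cf v co r B a := by simp [cf]

theorem cf_sub : cf v co r (A - B) a = cf v co r A a - cf v co r B a := by simp [cf]

theorem cf_smul (c : F) : cf v co r (c • A) a = c * cf v co r A a := by simp [cf]

namespace Reg

variable (h : Reg N d v co)
include h

theorem eq_zero (ha : d ≤ a) (hw : w ∈ Fl co a) : w = 0 :=
  h.ext w fun c hc => hw c (hc.trans_le ha)

theorem Fl_eq_bot (ha : d ≤ a) : Fl co a = ⊥ := eq_bot_iff.2 fun _ hw => h.eq_zero ha hw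

theorem v_mem (a : ℕ) : v a ∈ Fl co a := fun c hc => by
  rcases lt_or_ge a d with ha | ha
  · rw [h.co_v c a ha, if_neg hc.ne]
  · rw [h.vd a ha, map_zero]

theorem co_self (ha : a < d) : co a (v a) = 1 := by rw [h.co_v a a ha, if_pos rfl]

theorem v_not_mem (ha : a < d) : v a ∉ Fl co (a + 1) := fun e => by
  have := (mem_Fl_succ.1 e).2
  rw [h.co_self ha] at this
  exact one_ne_zero this

theorem sub_mem (hw : w ∈ Fl co a) : w - co a w • v a ∈ Fl co (a + 1) := by
  rcases lt_or_ge a d with ha | ha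
  · exact mem_Fl_succ.2 ⟨_root_.sub_mem hw (Submodule.smul_mem _ _ (h.v_mem a)), by
      rw [map_sub, map_smul, h.co_self ha, smul_eq_mul, mul_one, sub_self]⟩
  · rw [h.eq_zero ha hw]; simp

theorem Fl_le {U : Submodule F V} (hU : ∀ b, a ≤ b → b < d → v b ∈ U) : Fl co a ≤ U := by
  have : ∀ j, ∀ b, a ≤ b → d ≤ b + j → Fl co b ≤ U := fun j => by
    induction j with
    | zero => exact fun b _ hb => (h.Fl_eq_bot hb).le.trans bot_le
    | succ j ih =>
      intro b hb hb' w hw
      rcases lt_or_ge b d with hd | hd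
      · have := add_mem (ih (b + 1) (by omega) (by omega) (h.sub_mem hw))
          (Submodule.smul_mem _ (co b w) (hU b hb hd))
        rwa [sub_add_cancel] at this
      · rw [h.eq_zero hd hw]; exact zero_mem _
  exact this d a le_rfl (by omega)

theorem dg_of (hA : ∀ b < d, A (v b) ∈ Fl co (b + r)) : Dg co r A := fun a w hw =>
  h.Fl_le (U := (Fl co (a + r)).comap A) (fun b hb hb' => Fl_anti (by omega) (hA b hb')) hw

theorem dg_N : Dg co 1 N := h.dg_of fun b _ => h.Nv b ▸ h.v_mem (b + 1)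

theorem cf_N (ha : a + 1 < d) : cf v co 1 N a = 1 := by rw [cf, h.Nv, h.co_self ha]

theorem cf_one (ha : a < d) : cf v co 0 1 a = 1 := h.co_self ha

theorem co_apply (hA : Dg co r A) (hw : w ∈ Fl co a) :
    co (a + r) (A w) = cf v co r A a * co a w := by
  have := hA _ _ (h.sub_mem hw) (a + r) (by omega)
  rw [map_sub, map_sub, map_smul, map_smul, sub_eq_zero, smul_eq_mul, mul_comm] at this
  exact this

theorem cf_eq_zero (hA : Dg co (r + 1) A) : cf v co r A a = 0 :=
  hA a _ (h.v_mem a) (a + r) (by omega)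

theorem dg_succ (hA : Dg co r A) (hc : ∀ a, a + r < d → cf v co r A a = 0) :
    Dg co (r + 1) A := h.dg_of fun b _ => by
  rcases lt_or_ge (b + r) d with hb | hb
  · exact mem_Fl_succ.2 ⟨hA b _ (h.v_mem b), hc b hb⟩
  · rw [h.eq_zero hb (hA b _ (h.v_mem b))]; exact zero_mem _

theorem cf_mul (hA : Dg co r A) (hB : Dg co r' B) :
    cf v co (r + r') (A * B) a = cf v co r A (a + r') * cf v co r' B a := by
  have := h.co_apply hA (hB a _ (h.v_mem a))
  rw [add_assoc, add_comm r'] at this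
  exact this

theorem cf_mul_zero (hA : Dg co r A) (hB : Dg co 0 B) :
    cf v co r (A * B) a = cf v co r A a * cf v co 0 B a := h.cf_mul hA hB

theorem cf_zero_mul (hA : Dg co 0 A) (hB : Dg co r B) :
    cf v co r (A * B) a = cf v co 0 A (a + r) * cf v co r B a := by
  simpa using h.cf_mul hA hB (a := a)

theorem cf_of_sub_one (hA : Dg co 1 (A - 1)) (ha : a < d) : cf v co 0 A a = 1 := by
  have := h.cf_eq_zero (r := 0) hA (a := a)
  rwa [cf_sub, h.cf_one ha, sub_eq_zero] at this

theorem eq_zero_of_dg (hA : Dg co r A) (hr : d ≤ r) : A = 0 :=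
  LinearMap.ext fun w => h.eq_zero (by omega) (hA 0 w (mem_Fl_zero w))

theorem exists_pos (hw : w ≠ 0) : ∃ a < d, w ∈ Fl co a ∧ co a w ≠ 0 := by
  classical
  have : ∃ a, co a w ≠ 0 := by
    by_contra e
    push Not at e
    exact hw (h.ext w fun a _ => e a)
  refine ⟨Nat.find this, ?_, fun c hc => by simpa using Nat.find_min this hc, Nat.find_spec this⟩
  by_contra e
  exact hw (h.ext w fun c hc => by simpa using Nat.find_min this (m := c) (by omega))

theorem exists_pos' (hw : w ∉ Fl co b) : ∃ a < b, a < d ∧ w ∈ Fl co a ∧ co a w ≠ 0 := by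
  obtain ⟨a, h₁, h₂, h₃⟩ := h.exists_pos (w := w) fun e => hw (e ▸ zero_mem _)
  refine ⟨a, ?_, h₁, h₂, h₃⟩
  by_contra e
  exact hw (Fl_anti (by omega) h₂)

end Reg

/-- Operators of exact degree `r`. -/
def Ex (d : ℕ) (v : ℕ → V) (co : ℕ → V →ₗ[F] F) (r : ℕ) (A : End F V) : Prop :=
  Dg co r A ∧ ∀ a, a + r < d → cf v co r A a ≠ 0

namespace Reg

variable (h : Reg N d v co)
include h

theorem ex_N : Ex d v co 1 N := ⟨h.dg_N, fun a ha => by rw [h.cf_N ha]; exact one_ne_zero⟩

theorem mem_of_apply_mem (hA : Ex d v co r A) (hb : b + r ≤ d) (hw : A w ∈ Fl co (b + r)) :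
    w ∈ Fl co b := by
  by_contra e
  obtain ⟨a, h₁, h₂, h₃, h₄⟩ := h.exists_pos' e
  have := hw (a + r) (by omega)
  rw [h.co_apply hA.1 h₃] at this
  exact mul_ne_zero (hA.2 a (by omega)) h₄ this

theorem Fl_le_of_inv (hA : Ex d v co 1 A) {U : Submodule F V} (hU : ∀ x ∈ U, A x ∈ U)
    (hw : w ∈ U) (h₁ : w ∈ Fl co a) (h₂ : co a w ≠ 0) : Fl co a ≤ U := by
  have : ∀ j, ∀ a, d ≤ a + j → ∀ w ∈ U, w ∈ Fl co a → co a w ≠ 0 → Fl co a ≤ U := fun j => by
    induction j with
    | zero => exact fun a ha _ _ _ _ => (h.Fl_eq_bot ha).le.trans bot_le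
    | succ j ih =>
      intro a ha w hw h₁ h₂ x hx
      have h3 : Fl co (a + 1) ≤ U := by
        rcases lt_or_ge (a + 1) d with hd | hd
        · refine ih (a + 1) (by omega) (A w) (hU w hw) (hA.1 a w h₁) ?_
          rw [h.co_apply hA.1 h₁]
          exact mul_ne_zero (hA.2 a hd) h₂
        · exact (h.Fl_eq_bot hd).le.trans bot_le
      have h4 : x - (co a x / co a w) • w ∈ Fl co (a + 1) :=
        mem_Fl_succ.2 ⟨_root_.sub_mem hx (Submodule.smul_mem _ _ h₁), by
          rw [map_sub, map_smul, smul_eq_mul, div_mul_cancel₀ _ h₂, sub_self]⟩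
      have := add_mem (h3 h4) (Submodule.smul_mem _ (co a x / co a w) hw)
      rwa [sub_add_cancel] at this
  exact this d a (by omega) w hw h₁ h₂

theorem exists_eq_Fl (hA : Ex d v co 1 A) {U : Submodule F V} (hU : ∀ x ∈ U, A x ∈ U) :
    ∃ a ≤ d, U = Fl co a := by
  classical
  have hex : ∃ a, Fl co a ≤ U := ⟨d, (h.Fl_eq_bot le_rfl).le.trans bot_le⟩
  refine ⟨Nat.find hex, Nat.find_min' hex ((h.Fl_eq_bot le_rfl).le.trans bot_le),
    le_antisymm (fun w hw => ?_) (Nat.find_spec hex)⟩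
  by_contra e
  obtain ⟨a, h₁, h₂, h₃, h₄⟩ := h.exists_pos' e
  exact Nat.find_min hex h₁ (h.Fl_le_of_inv hA hU hw h₃ h₄)

theorem Fl_lt (hab : a < b) (ha : a < d) : Fl co b < Fl co a :=
  lt_of_le_of_ne (Fl_anti hab.le) fun e =>
    h.v_not_mem ha (Fl_anti hab (e ▸ h.v_mem a))

theorem le_of_Fl_le (hb : b ≤ d) (e : Fl co a ≤ Fl co b) : b ≤ a := by
  by_contra hab
  exact (h.Fl_lt (not_le.1 hab) (by omega)).not_ge e

/-- An invertible map carrying the flag to invariant subspaces stabilises the flag. -/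
theorem dg_zero_of_inv [Module.Finite F V] (hA : Ex d v co 1 A) {g : End F V}
    (hg : Function.Injective g) (hB : Dg co 0 B) (e : A * g = g * B) : Dg co 0 g := fun a w hw => by
  rcases le_or_gt d a with ha | ha
  · rw [h.eq_zero ha hw, map_zero]; exact zero_mem _
  obtain ⟨b, hb, e'⟩ := h.exists_eq_Fl hA (U := (Fl co a).map g) (by
    rintro _ ⟨x, hx, rfl⟩
    exact ⟨B x, hB a x hx, (LinearMap.congr_fun e x).symm⟩)
  have h1 : finrank F (Fl co b) = finrank F (Fl co a) := by
    rw [← e']; exact (LinearEquiv.finrank_eq (Submodule.equivMapOfInjective g hg _)).symm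
  have h2 : b = a := by
    rcases lt_trichotomy a b with hab | hab | hab
    · exact absurd h1 (Submodule.finrank_lt_finrank_of_lt (h.Fl_lt hab ha)).ne
    · exact hab.symm
    · exact absurd h1 (Submodule.finrank_lt_finrank_of_lt (h.Fl_lt hab (by omega))).ne'
  subst h2
  exact e'.le ⟨w, hw, rfl⟩

theorem pow_v (a b : ℕ) : (N ^ a) (v b) = v (b + a) := by
  induction a with
  | zero => rfl
  | succ a ih => rw [pow_succ', End.mul_apply, ih, h.Nv, add_assoc]

theorem cf_pow_N (ha : a + r < d) : cf v co r (N ^ r) a = 1 := by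
  rw [cf, h.pow_v, h.co_self ha]

theorem dg_pow_N (r : ℕ) : Dg co r (N ^ r) := by simpa using h.dg_N.pow r

/-- Operators commuting with `N` have constant leading coefficients. -/
theorem cf_eq_of_comm (hA : Dg co r A) (e : A * N = N * A) (ha : a + r < d) :
    cf v co r A a = cf v co r A 0 := by
  induction a with
  | zero => rfl
  | succ a ih =>
    rw [← ih (by omega)]
    have h1 := h.cf_mul hA h.dg_N (a := a)
    have h2 := h.cf_mul h.dg_N hA (a := a)
    rw [e, h.cf_N (by omega), mul_one] at h1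
    rw [h.cf_N (by omega), one_mul, add_comm 1 r] at h2
    rw [← h1, h2]

theorem exists_ex (h0 : A ≠ 0) (e : A * N = N * A) : ∃ k < d, Ex d v co k A := by
  classical
  have hex : ∃ k, ¬ Dg co (k + 1) A := ⟨d, fun e => h0 (h.eq_zero_of_dg e (by omega))⟩
  have hpow : ∀ a, A (v a) = (N ^ a) (A (v 0)) := fun a => by
    rw [← End.mul_apply, ← (Commute.pow_right e a).eq, End.mul_apply, h.pow_v, zero_add]
  have hk : Dg co (Nat.find hex) A := by
    rcases Nat.eq_zero_or_pos (Nat.find hex) with e0 | e0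
    · rw [e0]
      refine h.dg_of fun b _ => ?_
      rw [hpow]
      simpa using h.dg_pow_N b 0 _ (mem_Fl_zero _)
    · have := Nat.find_min hex (m := Nat.find hex - 1) (by omega)
      rwa [not_not, Nat.sub_add_cancel e0] at this
  refine ⟨Nat.find hex, ?_, hk, fun a ha e0 => Nat.find_spec hex (h.dg_succ hk fun b hb => ?_)⟩
  · by_contra e'
    exact h0 (h.eq_zero_of_dg hk (by omega))
  · rw [h.cf_eq_of_comm hk e hb, ← h.cf_eq_of_comm hk e ha, e0]

theorem cf_comm (hA : Dg co r A) (ha : a + (r + 1) < d) :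
    cf v co (r + 1) (A * N - N * A) a = cf v co r A (a + 1) - cf v co r A a := by
  have h1 := h.cf_mul hA h.dg_N (a := a)
  have h2 := h.cf_mul h.dg_N hA (a := a)
  rw [h.cf_N (by omega), mul_one] at h1
  rw [h.cf_N (by omega), one_mul, add_comm 1 r] at h2
  rw [cf_sub, h1, h2]

theorem dg_comm (hA : Dg co r A) : Dg co (r + 1) (A * N - N * A) :=
  (hA.mul h.dg_N).sub (add_comm 1 r ▸ h.dg_N.mul hA)

end Reg

/-- Construction from a uniserial flag. -/
theorem exists_reg {Γ : ℕ → Submodule F V} (hanti : Antitone Γ) (h0 : Γ 0 = ⊤) (hd : Γ d = ⊥)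
    (hN : ∀ a, ∀ w ∈ Γ a, N w ∈ Γ (a + 1))
    (hstep : ∀ a < d, ∀ w ∈ Γ a, ∀ w' ∈ Γ a, w' ∉ Γ (a + 1) → ∃ c : F, w - c • w' ∈ Γ (a + 1))
    (hne : ∀ a, a + 1 < d → ∀ w ∈ Γ a, w ∉ Γ (a + 1) → N w ∉ Γ (a + 2)) {v₀ : V}
    (hv₀ : v₀ ∉ Γ 1) :
    ∃ co : ℕ → V →ₗ[F] F, Reg N d (fun a => (N ^ a) v₀) co ∧ ∀ a, Γ a = Fl co a := by
  classical
  set v : ℕ → V := fun a => (N ^ a) v₀ with hv
  have hNv : ∀ a, N (v a) = v (a + 1) := fun a => by simp only [hv, pow_succ', End.mul_apply]
  have h1 : ∀ a, v a ∈ Γ a := fun a => by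
    induction a with
    | zero => rw [h0]; trivial
    | succ a ih => exact hNv a ▸ hN a _ ih
  have h2 : ∀ a < d, v a ∉ Γ (a + 1) := fun a => by
    induction a with
    | zero => exact fun _ => hv₀
    | succ a ih => exact fun ha => hNv a ▸ hne a ha _ (h1 a) (ih (by omega))
  have hsp : ∀ j a, d = a + j → Γ a ≤ Submodule.span F {x | ∃ b, a ≤ b ∧ b < d ∧ x = v b} :=
    fun j => by
    induction j with
    | zero => intro a ha; rw [add_zero] at ha; rw [← ha, hd]; exact bot_le
    | succ j ih =>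
      intro a ha w hw
      obtain ⟨c, hc⟩ := hstep a (by omega) w hw _ (h1 a) (h2 a (by omega))
      have := add_mem (Submodule.span_mono (t := {x | ∃ b, a ≤ b ∧ b < d ∧ x = v b})
        (by rintro x ⟨b, hb, hb', e⟩; exact ⟨b, by omega, hb', e⟩)
        (ih (a + 1) (by omega) hc)) (Submodule.smul_mem _ c (Submodule.subset_span
          (s := {x | ∃ b, a ≤ b ∧ b < d ∧ x = v b}) ⟨a, le_rfl, by omega, rfl⟩))
      rwa [sub_add_cancel] at this
  have hli : LinearIndependent F fun i : Fin d => v i := by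
    rw [Fintype.linearIndependent_iff]
    intro g hg i
    induction i using WellFoundedLT.induction with
    | ind i ih =>
    by_contra e
    rw [← add_sum_erase _ _ (mem_univ i), add_eq_zero_iff_eq_neg] at hg
    refine h2 i i.2 ((Submodule.smul_mem_iff _ e).1 (hg ▸ neg_mem (Submodule.sum_mem _ ?_)))
    intro j hj
    rcases lt_or_gt_of_ne (ne_of_mem_erase hj) with hji | hji
    · rw [ih j hji, zero_smul]; exact zero_mem _
    · exact Submodule.smul_mem _ _ (hanti (show i.1 + 1 ≤ j.1 from hji) (h1 j))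
  have hspan : ⊤ ≤ Submodule.span F (Set.range fun i : Fin d => v i) := by
    rw [← h0]
    exact (hsp d 0 (by omega)).trans (Submodule.span_mono fun x ⟨b, _, hb, e⟩ => ⟨⟨b, hb⟩, e.symm⟩)
  let B := Basis.mk hli hspan
  let co : ℕ → V →ₗ[F] F := fun a => if h : a < d then B.coord ⟨a, h⟩ else 0
  have hco : ∀ a b, b < d → co a (v b) = if a = b then 1 else 0 := fun a b hb => by
    have e : v b = B ⟨b, hb⟩ := by simp [B]
    by_cases ha : a < d
    · simp only [co, dif_pos ha, e, Basis.coord_apply, Basis.repr_self, Finsupp.single_apply,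
        Fin.mk.injEq, eq_comm]
    · simp only [co, dif_neg ha, LinearMap.zero_apply, if_neg (show a ≠ b by omega)]
  have hvd : ∀ a, d ≤ a → v a = 0 := fun a ha => by
    have := hanti ha (h1 a)
    rwa [hd, Submodule.mem_bot] at this
  have hreg : Reg N d v co := ⟨hNv, hvd, hco, fun w hw => B.ext_elem fun i => by
    have := hw i i.2
    simp only [co, dif_pos i.2, Basis.coord_apply] at this
    simpa using this⟩
  refine ⟨co, hreg, fun a => le_antisymm ?_ (hreg.Fl_le fun b hb _ => hanti hb (h1 b))⟩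
  rcases le_or_gt d a with ha | ha
  · exact (hanti ha).trans (hd.le.trans bot_le)
  · refine (hsp (d - a) a (by omega)).trans (Submodule.span_le.2 ?_)
    rintro _ ⟨b, hb, -, rfl⟩
    exact Fl_anti hb (hreg.v_mem b)

end Cfsg.Agent.MC
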