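import Cfsg.Agent.Lib.MC.Black
import Cfsg.Agent.Lib.MC.Lin
import Cfsg.Agent.Lib.Fit.Subnormal

/-!
The Frattini quotient of a normal `p`-subgroup as a faithful module.
-/

set_option autoImplicit false
set_option linter.style.haveILetI false
set_option linter.unusedVariables false
set_option linter.unusedSectionVars false

namespace Cfsg.Agent.Ess

open Subgroup Cfsg.Agent.Fus Cfsg.Agent.TwoGrp Module
open scoped commutatorElement

universe u v

variable {p : ℕ} [hp : Fact p.Prime]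

/-- A linear action from an action by group endomorphisms. -/
def repOf {H : Type*} [Group H] {W : Type v} [CommGroup W] [Module (ZMod p) (Additive W)]
    (f : H → W →* W) (h₁ : ∀ w, f 1 w = w) (h₂ : ∀ a b w, f (a * b) w = f a (f b w)) :
    H →* End (ZMod p) (Additive W) where
  toFun g := (MonoidHom.toAdditive (f g)).toZModLinearMap p
  map_one' := LinearMap.ext fun w => h₁ w.toMul
  map_mul' a b := LinearMap.ext fun w => h₂ a b w.toMul

theorem exists_rep_aux {H : Type*} [Group H] {W : Type v} [CommGroup W] [Finite W]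
    (hW : ∀ w : W, w ^ p = 1) (f : H → W →* W) (h₁ : ∀ w, f 1 w = w)
    (h₂ : ∀ a b w, f (a * b) w = f a (f b w)) :
    ∃ (V : Type v) (_ : AddCommGroup V) (_ : Module (ZMod p) V)
      (_ : Finite V) (ρ : H →* End (ZMod p) V) (π : W → V),
      (∀ x y, π (x * y) = π x + π y) ∧ (∀ x, π x = 0 ↔ x = 1) ∧
      (∀ w, ∃ x, π x = w) ∧ ∀ g x, ρ g (π x) = π (f g x) :=
  ⟨Additive W, inferInstance, AddCommGroup.zmodModule fun x => hW x.toMul, inferInstance,
    @repOf p _ H _ W _ (AddCommGroup.zmodModule fun x => hW x.toMul) f h₁ h₂, Additive.ofMul,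
    fun _ _ => rfl, fun _ => ofMul_eq_zero, fun w => ⟨w.toMul, rfl⟩, fun _ _ => rfl⟩

theorem exists_rep {H : Type v} [Group H] [Finite H] {E D : Subgroup H} [hE : E.Normal]
    [hn : D.Normal] (hD : phi p E ≤ D) :
    ∃ (V : Type v) (_ : AddCommGroup V) (_ : Module (ZMod p) V)
      (_ : Finite V) (ρ : H →* End (ZMod p) V) (π : H → V),
      (∀ x ∈ E, ∀ y ∈ E, π (x * y) = π x + π y) ∧ (∀ x ∈ E, π x = 0 ↔ x ∈ D) ∧
      (∀ w, ∃ x ∈ E, π x = w) ∧ ∀ g, ∀ x ∈ E, ρ g (π x) = π (g * x * g⁻¹) := by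
  classical
  obtain ⟨h₁, h₂⟩ := phi_le_iff.1 hD
  let _ : CommGroup (E ⧸ D.subgroupOf E) := { (inferInstance : Group (E ⧸ D.subgroupOf E)) with
    mul_comm := fun a b => by
      obtain ⟨a, rfl⟩ := QuotientGroup.mk_surjective a
      obtain ⟨b, rfl⟩ := QuotientGroup.mk_surjective b
      exact (mk_commute_iff (N := D.subgroupOf E).2 (h₂ a a.2 b b.2)).eq }
  obtain ⟨V, _, _, _, ρ, π, h₃, h₄, h₅, h₆⟩ := exists_rep_aux (p := p) (W := E ⧸ D.subgroupOf E)
    (fun x => by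
      obtain ⟨a, rfl⟩ := QuotientGroup.mk_surjective x
      exact (QuotientGroup.eq_one_iff (a ^ p)).2 (h₁ a a.2))
    (fun g : H => QuotientGroup.map _ _
      (MulAut.conjNormal g : MulAut E).toMonoidHom fun x hx => hn.conj_mem (x : H) hx g)
    (fun x => by
      obtain ⟨a, rfl⟩ := QuotientGroup.mk_surjective x
      exact congrArg QuotientGroup.mk (Subtype.ext (by simp)))
    (fun g g' x => by
      obtain ⟨a, rfl⟩ := QuotientGroup.mk_surjective x
      exact congrArg QuotientGroup.mk (Subtype.ext (by simp [mul_assoc])))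
  refine ⟨V, _, _, ‹_›, ρ, fun x => if h : x ∈ E then π (QuotientGroup.mk ⟨x, h⟩) else 0,
    fun x hx y hy => ?_, fun x hx => ?_, fun w => ?_, fun g x hx => ?_⟩
  · simp only [dif_pos hx, dif_pos hy, dif_pos (mul_mem hx hy)]
    exact h₃ (QuotientGroup.mk ⟨x, hx⟩) (QuotientGroup.mk ⟨y, hy⟩)
  · simp only [dif_pos hx]
    exact (h₄ _).trans (QuotientGroup.eq_one_iff _)
  · obtain ⟨x, rfl⟩ := h₅ w
    obtain ⟨a, rfl⟩ := QuotientGroup.mk_surjective x
    exact ⟨a, a.2, by simp only [dif_pos a.2]⟩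
  · simp only [dif_pos hx, dif_pos (hE.conj_mem x hx g)]
    exact h₆ g _

/-- The faithful module of a group with self-centralizing `O_p`. -/
theorem exists_faithful_rep {H : Type v} [Group H] [Finite H] {E : Subgroup H} [hE : E.Normal]
    (hp' : IsPGroup p E) (hO : pCore p H ≤ E) (hC : centralizer (E : Set H) ≤ E) :
    ∃ (V : Type v) (_ : AddCommGroup V) (_ : Module (ZMod p) V)
      (_ : Finite V) (ρ : H ⧸ E →* End (ZMod p) V) (π : H → V), Function.Injective ρ ∧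
      (∀ x ∈ E, ∀ y ∈ E, π (x * y) = π x + π y) ∧ (∀ x ∈ E, π x = 0 ↔ x ∈ phi p E) ∧
      (∀ w, ∃ x ∈ E, π x = w) ∧ ∀ g : H, ∀ x ∈ E, ρ g (π x) = π (g * x * g⁻¹) := by
  haveI : (phi p E).Normal := normal_phi
  obtain ⟨V, _, _, _, ρ, π, h₁, h₂, h₃, h₄⟩ := exists_rep (p := p) (E := E) le_rfl
  have h₅ : ∀ x ∈ E, ∀ y ∈ E, π x = π y ↔ x⁻¹ * y ∈ phi p E := fun x hx y hy => by
    rw [← h₂ _ (mul_mem (inv_mem hx) hy)]
    have := h₁ x hx _ (mul_mem (inv_mem hx) hy)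
    rw [mul_inv_cancel_left] at this
    rw [this, left_eq_add]
  have h₆ : ∀ g, g ∈ ρ.ker ↔ ∀ x ∈ E, x⁻¹ * (g * x * g⁻¹) ∈ phi p E := fun g => by
    refine ⟨fun hg x hx => (h₅ x hx _ (hE.conj_mem x hx g)).1 ?_,
      fun hg => LinearMap.ext fun w => ?_⟩
    · rw [← h₄ g x hx, MonoidHom.mem_ker.1 hg]; rfl
    · obtain ⟨x, hx, rfl⟩ := h₃ w
      rw [h₄ g x hx]
      exact ((h₅ x hx _ (hE.conj_mem x hx g)).2 (hg x hx)).symm
  have h₇ : E ≤ ρ.ker := fun g hg => (h₆ g).2 fun x hx => by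
    rw [inv_mul_conj_eq]; exact comm_mem_phi (inv_mem hx) hg
  have h₈ : IsPGroup p ρ.ker := isPGroup_of_forall_coprime fun g hg hc => by
    have h₉ : TrivOn (MulAut.conjNormal g : MulAut E) ⊤ ⊥ := by
      refine trivOn_bot_of_nonGen hp' nonGen_frattini le_top
        (hc.coprime_dvd_left (orderOf_map_dvd _ g)) fun x _ => ?_
      have := (h₆ g).1 hg x x.2
      rw [phi_eq hp'] at this
      obtain ⟨y, hy, e⟩ := this
      rwa [← show y = x⁻¹ * MulAut.conjNormal g x from Subtype.ext e]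
    refine eq_one_of_isPGroup_of_coprime hp' (hC fun x hx => ?_) hc
    have := congrArg Subtype.val (trivOn_bot_iff.1 h₉ ⟨x, hx⟩ trivial)
    exact (mul_inv_eq_iff_eq_mul.1 this).symm
  have h₉ : E = ρ.ker := le_antisymm h₇ ((Fit.le_pCore inferInstance h₈).trans hO)
  exact ⟨V, _, _, ‹_›, QuotientGroup.lift E ρ h₇, π,
    (QuotientGroup.injective_lift_iff _ _ _).2 h₉, h₁, h₂, h₃, h₄⟩

variable {G : Type u} [Group G] [Finite G] {n : ℕ} {K : Subgroup G}

theorem MaxCl.eq_lcs_of_index (h : MaxCl p n G) {N : Subgroup G} [N.Normal] {j : ℕ} (hj : 1 ≤ j)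
    (hi : N.index = p ^ (j + 1)) : j + 1 ≤ n ∧ N = lcs G j := by
  have h₁ : j + 1 ≤ n := by
    have := N.index_dvd_card
    rwa [hi, h.card, Nat.pow_dvd_pow_iff_le_right hp.out.one_lt] at this
  refine ⟨h₁, (eq_of_le_of_card_ge (lcs_le_of_index h.isPGroup hj hi.dvd) ?_).symm⟩
  have h₂ := N.card_mul_index
  rw [← (lcs G j).card_mul_index, hi, h.index_lcs hj h₁] at h₂
  exact (Nat.eq_of_mul_eq_mul_right (pow_pos hp.out.pos _) h₂).le

theorem TwoStep.exists_tsr_eq (hK : TwoStep p K) (h : MaxCl p n G) {N : Subgroup G} [N.Normal]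
    (hN : N ≤ K) : ∃ j, j + 1 ≤ n ∧ N = tsr K j := by
  obtain ⟨k, hk⟩ := h.isPGroup.index N
  have h₁ := index_dvd_of_le hN
  rcases k with _ | _ | k
  · rw [hK.idx, hk, pow_zero, Nat.dvd_one] at h₁
    exact absurd h₁ hp.out.ne_one
  · refine ⟨0, by have := h.le; omega, eq_of_le_of_card_ge hN ?_⟩
    have h₂ := N.card_mul_index
    rw [← K.card_mul_index, hk, hK.idx, zero_add, pow_one] at h₂
    exact (Nat.eq_of_mul_eq_mul_right hp.out.pos h₂).ge
  · exact ⟨k + 1, h.eq_lcs_of_index (by omega) hk⟩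

theorem TwoStep.exists_pos (hK : TwoStep p K) {x : G} (hx : x ∈ K) {j : ℕ}
    (hx' : x ∉ tsr K (j + 1)) : ∃ a ≤ j, x ∈ tsr K a ∧ x ∉ tsr K (a + 1) := by
  induction j with
  | zero => exact ⟨0, le_rfl, hx, hx'⟩
  | succ j ih =>
    by_cases e : x ∈ tsr K (j + 1)
    · exact ⟨j + 1, le_rfl, e, hx'⟩
    · obtain ⟨a, ha, h⟩ := ih e
      exact ⟨a, ha.trans j.le_succ, h⟩

theorem map_ic {X Y : Type*} [Group X] [Group Y] (f : X →* Y) (s x : X) (r : ℕ) :
    f (MC.ic s x r) = MC.ic (f s) (f x) r := by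
  induction r with
  | zero => rfl
  | succ r ih => rw [MC.ic, MC.ic, map_commutatorElement, ih]

theorem TwoStep.ic_mem (hK : TwoStep p K) (h : MaxCl p n G) (h2 : p ≠ 2) (h4 : 4 ≤ n) {s : G}
    (hs : s ∉ K) (hs' : s ∉ centralizer (lcs G (n - 3) : Set G)) {a : ℕ} {x : G}
    (hx : x ∈ tsr K a) (hx' : x ∉ tsr K (a + 1)) (r : ℕ) (hr : a + r + 2 ≤ n) :
    MC.ic s x r ∈ tsr K (a + r) ∧ MC.ic s x r ∉ tsr K (a + r + 1) := by
  induction r with
  | zero => exact ⟨hx, hx'⟩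
  | succ r ih =>
    obtain ⟨h₁, h₂⟩ := ih (by omega)
    exact ⟨(hK.tsr_succ _).ge (commutator_mem_commutator h₁ trivial),
      hK.comm_not_mem_unif h h2 h4 hs hs' hr h₁ h₂⟩

end Cfsg.Agent.Ess
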