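import Cfsg.Agent.Lib.MC.Norm
import Cfsg.Agent.Lib.ZJ.Quot

/-!
Images of essential subgroups, extension along invariant chains, and the strongly embedded subgroup
of `Aut_F(E)`.
-/

set_option autoImplicit false
set_option linter.style.haveILetI false
set_option linter.unusedVariables false
set_option linter.unusedSectionVars false

namespace Cfsg.Agent.Ess

open Subgroup Cfsg.Agent.Fus Cfsg.Agent.TwoGrp
open Cfsg.FusionSystem (normalizerIn centralizerIn preimageAlong)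
open Cfsg.Agent.Fus2 (M afn img HomOn)
open scoped commutatorElement

universe u

section Group

variable {G : Type u} [Group G] {p : ℕ} [hp : Fact p.Prime]

theorem exists_pow_coprime {X : Type*} [Group X] [Finite X] (x : X) :
    ∃ k : ℕ, (orderOf (x ^ p ^ k)).Coprime p := by
  obtain ⟨a, k, hk, e⟩ := Nat.exists_eq_pow_mul_and_not_dvd (orderOf_pos x).ne' p hp.out.ne_one
  refine ⟨a, Nat.Coprime.coprime_dvd_left (k := k) ?_
    ((Nat.Prime.coprime_iff_not_dvd hp.out).2 hk).symm⟩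
  rw [orderOf_dvd_iff_pow_eq_one, ← pow_mul, ← e, pow_orderOf_eq_one]

/-- The subgroups strictly between `Y` and `N`, other than `B`, are permuted transitively. -/
theorem exists_conj_eq [Finite G] (hG : IsPGroup p G) {Y E B Q N : Subgroup G} {u : G}
    (hN : u ∈ normalizer (N : Set G)) (hY : u ∈ normalizer (Y : Set G))
    (hB : u ∈ normalizer (B : Set G)) (hE : u ∉ normalizer (E : Set G)) (hYE : Y ≤ E)
    (hYB : Y ≤ B) (hYQ : Y ≤ Q) (hEN : E ≤ N) (hBN : B ≤ N) (hQN : Q ≤ N)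
    (iE : Y.relIndex E ∣ p) (iB : Y.relIndex B ∣ p) (iQ : Y.relIndex Q ∣ p)
    (iN : B.relIndex N ∣ p) (nE : ¬ E ≤ B) (nQ : ¬ Q ≤ B) :
    ∃ i : ℕ, E.map (MulAut.conj (u ^ i)).toMonoidHom = Q := by
  obtain ⟨x, hx, hx'⟩ := SetLike.not_le_iff_exists.1 nE
  have hBn : N ≤ normalizer (B : Set G) := le_normalizer_of_relIndex_dvd (hG.to_subgroup N) hBN iN
  have hYn : B ≤ normalizer (Y : Set G) := le_normalizer_of_relIndex_dvd (hG.to_subgroup B) hYB iB
  have hEx : zpowers x ⊔ Y = E := sup_eq_of_relIndex_prime' hYE iE hx fun e => hx' (hYB e)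
  have hQB : Q ⊔ B = N := ((eq_or_eq_of_relIndex_dvd le_sup_right (sup_le hQN hBN) iN).resolve_left
    fun e => nQ (e ▸ le_sup_left))
  obtain ⟨q, hq, t, ht, e⟩ := (Fus2.mem_sup_iff_of_le_normalizer (hQN.trans hBn)).1
    (hQB.ge (hEN hx))
  obtain ⟨k, hk⟩ := hG u
  have hk' : MulAut.conj u ^ p ^ k = 1 := by rw [← map_pow, hk, map_one]
  have hc := trivOn_of_relIndex_dvd hG hk' (fun y hy => (hN y).1 hy) (fun y hy => (hB y).1 hy) iN
    x (hEN hx)
  have hc' : x⁻¹ * MulAut.conj u x ∉ Y := fun e' => hE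
    (Fus.mem_normalizer_of_conj_mem fun y hy => ?_)
  swap
  · refine conj_mem_of_map_le (R := E) ?_ hy
    rw [← hEx, Subgroup.map_sup, MonoidHom.map_zpowers, map_conj_eq_of_mem_normalizer hY]
    refine sup_le (zpowers_le.2 ?_) le_sup_right
    have := mul_mem (mem_sup_left (mem_zpowers x) : x ∈ zpowers x ⊔ Y) (mem_sup_right e')
    rwa [mul_inv_cancel_left] at this
  obtain ⟨j, d, hd, e'⟩ := (mem_zpowers_sup_iff (hYn hc)).1
    ((sup_eq_of_relIndex_prime' hYB iB hc hc').ge (inv_mem ht))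
  obtain ⟨i, hi⟩ : ∃ i : ℕ, (x⁻¹ * MulAut.conj u x) ^ i = (x⁻¹ * MulAut.conj u x) ^ j :=
    mem_powers_iff_mem_zpowers.2 (zpow_mem_zpowers (x⁻¹ * MulAut.conj u x) j)
  obtain ⟨d', hd', e''⟩ := exists_pow_apply_eq (β := MulAut.conj u) (D := Y) (x := x)
    (fun y hy => (hY y).1 hy) (hYn hc) (mul_inv_cancel_left _ _).symm
    (trivOn_of_relIndex_dvd hG hk' (fun y hy => (hB y).1 hy) (fun y hy => (hY y).1 hy) iB _ hc) i
  have hxq : MulAut.conj (u ^ i) x ∈ Q := by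
    rw [map_pow, e'', hi, eq_mul_inv_of_mul_eq e', ← e]
    simpa [mul_assoc] using mul_mem hq (hYQ (mul_mem (inv_mem hd) hd'))
  have hYi := map_conj_eq_of_mem_normalizer (_root_.pow_mem hY i)
  refine ⟨i, ?_⟩
  rw [← hEx, Subgroup.map_sup, MonoidHom.map_zpowers, hYi]
  refine sup_eq_of_relIndex_prime' hYQ iQ hxq fun e₁ => hx' (hYB ?_)
  exact (_root_.pow_mem hY i x).2 e₁

end Group

section Fusion

variable {Ω : Type u} [Group Ω] {S : Subgroup Ω} {F : FusionSystem S} {E P Q : Subgroup Ω} {p : ℕ}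
  [Finite S] [hp : Fact p.Prime]

theorem not_lt_normalizerIn (hE : F.IsFullyNormalized E) (h : F.IsConj E Q) {N : Subgroup Ω}
    (hN : N ≤ normalizerIn S Q) : Nat.card N ≤ Nat.card (normalizerIn S E) :=
  (Subgroup.card_le_of_le hN).trans (hE.2 Q h)

theorem exists_mulAut {G : Type u} [Group G] [Finite G] {F : FusionSystem (⊤ : Subgroup G)}
    {f : G → G} (hf : M F ⊤ f) : ∃ σ : MulAut G, ∀ x, σ x = f x :=
  ⟨MulEquiv.ofBijective (MonoidHom.mk' f fun a b => hf.map_mul trivial trivial)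
    (Finite.injective_iff_bijective.1 fun a b e => hf.inj a trivial b trivial e), fun _ => rfl⟩

variable (hS : IsPGroup p S) (hF : F.IsSaturated p)
include hS hF

theorem mem_extAut_of_M {α : MulAut E} (hEQ : E < Q) {f : Ω → Ω} (hf : M F Q f)
    (e : ∀ x ∈ E, f x = afn α x) : α ∈ extAut F E :=
  mem_extAut hEQ hf.toHom_mem fun x => (e x x.2).trans (Fus2.afn_coe α x)

theorem isEssential_img_of {Ω' : Type*} [Group Ω'] {S' : Subgroup Ω'} {F' : FusionSystem S'}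
    {θ : S →* Ω'} (hθ : Fus2.SurjM F F' θ) (hE : F.IsEssential p E)
    (hk : preimageAlong θ ⊥ ≤ E)
    (hfix : ∀ α ∈ F.autGroup E, ∀ x ∈ preimageAlong θ ⊥, afn α x = x) :
    F'.IsEssential p (img E (Fus2.fn θ)) := by
  have hES := hE.1.1
  haveI := finite_of_le hES
  haveI := hθ.finite
  have hS' := hθ.isPGroup hS
  have hlt := lt_of_isEssential hS hF hE
  have ha := sat_automized hS hF hE.2.1
  have hpre := Fus2.pre_img hES hk
  rw [isEssential_iff_extAut_ne hS' (hθ.saturated hS hF) (lt_of_le_of_ne (hθ.img_le hES) fun e =>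
    hlt.ne (by rw [← hpre, e, hθ.pre_top])) (isFullyNormalized_of_automized_of_receptive hS'
      (hθ.automized hS ha hk) (hθ.receptive hS ha (sat_receptive hS hF hE.2.1) hk))]
  intro e
  refine (isEssential_iff_extAut_ne hS hF hlt hE.2.1).1 hE (le_antisymm extAut_le_autGroup ?_)
  have key : ∀ β ∈ extAut F' (img E (Fus2.fn θ)), ∃ α ∈ extAut F E,
      ∀ x ∈ E, afn β (Fus2.fn θ x) = Fus2.fn θ (afn α x) := fun β hβ => by
    induction hβ using closure_induction'' with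
    | one => exact ⟨1, one_mem _, fun x _ => by rw [Fus2.afn_one, Fus2.afn_one]⟩
    | mem β hβ =>
      obtain ⟨R, hR, φ, hφ, eφ⟩ := hβ
      obtain ⟨f, hf, ef⟩ := hθ.lift R _ (Fus2.M_fn hφ)
      have hle : E ≤ preimageAlong θ R := hpre.ge.trans (Fus2.pre_mono θ hR.le)
      have e₁ : ∀ x ∈ E, afn β (Fus2.fn θ x) = Fus2.fn θ (f x) := fun x hx => by
        rw [← ef x (hle hx), Fus2.fn_apply φ (hR.le (Fus2.mem_img_of_mem _ hx)),
          Fus2.afn_apply β (Fus2.mem_img_of_mem _ hx)]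
        exact (eφ ⟨_, Fus2.mem_img_of_mem _ hx⟩).symm
      obtain ⟨α, -, eα⟩ := (hf.mono hle).exists_aut' fun x hx => hpre.le (Fus2.mem_pre.2
        ⟨hf.mem (hle hx), e₁ x hx ▸ Fus2.afn_mem β (Fus2.mem_img_of_mem _ hx)⟩)
      refine ⟨α, mem_extAut_of_M hS hF (lt_of_le_of_ne hle fun e' => hR.ne ?_) hf
        fun x hx => (eα x hx).symm, fun x hx => by rw [e₁ x hx, eα x hx]⟩
      rw [e', hθ.img_pre (le_of_mem hφ)]
    | inv_mem β hβ =>
      obtain ⟨R, hR, φ, hφ, eφ⟩ := hβ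
      obtain ⟨f, hf, ef⟩ := hθ.lift R _ (Fus2.M_fn hφ)
      have hle : E ≤ preimageAlong θ R := hpre.ge.trans (Fus2.pre_mono θ hR.le)
      have e₁ : ∀ x ∈ E, afn β (Fus2.fn θ x) = Fus2.fn θ (f x) := fun x hx => by
        rw [← ef x (hle hx), Fus2.fn_apply φ (hR.le (Fus2.mem_img_of_mem _ hx)),
          Fus2.afn_apply β (Fus2.mem_img_of_mem _ hx)]
        exact (eφ ⟨_, Fus2.mem_img_of_mem _ hx⟩).symm
      obtain ⟨α, -, eα⟩ := (hf.mono hle).exists_aut' fun x hx => hpre.le (Fus2.mem_pre.2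
        ⟨hf.mem (hle hx), e₁ x hx ▸ Fus2.afn_mem β (Fus2.mem_img_of_mem _ hx)⟩)
      refine ⟨α⁻¹, inv_mem (mem_extAut_of_M hS hF (lt_of_le_of_ne hle fun e' => hR.ne ?_) hf
        fun x hx => (eα x hx).symm), fun x hx => Fus2.afn_injective β ?_⟩
      · rw [e', hθ.img_pre (le_of_mem hφ)]
      · rw [← Fus2.afn_mul, mul_inv_cancel, Fus2.afn_one, e₁ _ (Fus2.afn_mem _ hx),
          ← eα _ (Fus2.afn_mem _ hx), ← Fus2.afn_mul, mul_inv_cancel, Fus2.afn_one]
    | mul β β' _ _ h₁ h₂ =>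
      obtain ⟨α, hα, e₁⟩ := h₁
      obtain ⟨α', hα', e₂⟩ := h₂
      exact ⟨α * α', mul_mem hα hα', fun x hx => by
        rw [Fus2.afn_mul, Fus2.afn_mul, e₂ x hx, e₁ _ (Fus2.afn_mem _ hx)]⟩
  intro α hα
  obtain ⟨β, hβ, e₁⟩ := hθ.exists_aut_push hES hα
  obtain ⟨α', hα', e₂⟩ := key β (e.ge hβ)
  have hA : α'⁻¹ * α ∈ F.autGroup E := mul_mem (inv_mem (extAut_le_autGroup hα')) hα
  have hinv : Inv (F.autGroup E) ((preimageAlong θ ⊥).subgroupOf E) :=
    inv_subgroupOf_iff.2 fun γ hγ x _ hx => by rwa [hfix γ hγ x hx]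
  have hd := essData hS hF hE
  have := hd.mem_Inn_of_ctl hA ((ctl_ncl_single le_top (inv_top _) hinv fun x _ => ?_).trans_bot
    hd.hG (ctl_ncl_single bot_le hinv (inv_bot _) (trivOn_bot_iff.2 fun x hx =>
      Subtype.ext ((Fus2.afn_coe _ x).symm.trans (hfix _ hA x hx)))))
  · simpa using mul_mem hα' (((Inn_le_autInducedBy hES).trans (autInducedBy_le_extAut hlt)) this)
  · refine (Fus2.fn_eq_iff (hES x.2) (hES ((α'⁻¹ * α) x).2)).1 (Fus2.afn_injective β ?_)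
    rw [e₁ x x.2, e₂ _ ((α'⁻¹ * α) x).2, ← Fus2.afn_coe, ← Fus2.afn_mul, mul_inv_cancel_left]

theorem exists_top : ∃ F' : FusionSystem (⊤ : Subgroup S), F'.IsSaturated p ∧
    ∀ E, F.IsEssential p E → F'.IsEssential p (E.subgroupOf S) := by
  have hk : preimageAlong (MonoidHom.id S) ⊥ = ⊥ := by
    rw [Fus2.pre_bot_eq_ker, MonoidHom.ker_id, Subgroup.map_bot]
  obtain ⟨F', h⟩ := Fus2.exists_isFactorSystem (Fus2.sc_bot F) hk (S' := ⊤)
    (MonoidHom.range_eq_top.2 Function.surjective_id)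
  have hθ := Fus2.surjM_of_factor_bot h
  refine ⟨F', hθ.saturated hS hF, fun E hE => ?_⟩
  have := isEssential_img_of hS hF hθ hE (hk ▸ bot_le) fun α _ x hx => by
    rw [hk, mem_bot] at hx; rw [hx, (Fus2.homOn_afn α).map_one]
  rwa [← Fus2.map_subgroupOf_eq_img _ hE.1.1, Subgroup.map_id] at this

/-- An automorphism of a normal subgroup preserving a central chain extends to `S`. -/
theorem ext_of_chain (hP : P ≤ S) (hn : S ≤ normalizer (P : Set Ω)) (T : ℕ → Subgroup Ω) {m : ℕ}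
    (h₀ : P ≤ T 0) (hm : T m = ⊥) (hT : ∀ i, T (i + 1) ≤ T i)
    (hN : ∀ i, P ≤ normalizer (T i : Set Ω))
    (hc : ∀ i, ∀ g ∈ S, ∀ x ∈ T i, x⁻¹ * (g * x * g⁻¹) ∈ T (i + 1)) {τ : MulAut P}
    (hτ : τ ∈ F.autGroup P) (hτT : ∀ i, ∀ x ∈ P, x ∈ T i → afn τ x ∈ T i) :
    ∃ f, M F S f ∧ ∀ x ∈ P, f x = afn τ x := by
  haveI := finite_of_le hP
  have hfn : F.IsFullyNormalized P := isFullyNormalized_of_normal hP hn
  have hPp := isPGroup_of_le hS hP
  let U : Subgroup (MulAut P) := F.autGroup P ⊓ ⨅ i, trivSub ((T i).subgroupOf P)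
    ((T (i + 1)).subgroupOf P) (subgroupOf_mono P (hT i))
  have hU : ∀ β, β ∈ U ↔ β ∈ F.autGroup P ∧
      ∀ i, TrivOn β ((T i).subgroupOf P) ((T (i + 1)).subgroupOf P) := fun β => by
    simp only [U, mem_inf, mem_iInf]; rfl
  have hctl : ∀ i, Ctl p U ⊤ ((T i).subgroupOf P) := fun i => by
    induction i with
    | zero => rw [subgroupOf_eq_top.2 h₀]; exact ctl_self (inv_top _)
    | succ i ih =>
      haveI := normal_subgroupOf_of_le (hN (i + 1))
      exact ih.trans_normal hPp (fun β hβ x hx => (((hU β).1 hβ).2 (i + 1)).apply_mem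
        (subgroupOf_mono P (hT _)) hx) (ctl_of_trivOn fun β hβ => ((hU β).1 hβ).2 i)
  have hUe : U = autInducedBy S P := (sat_sylow hS hF hfn).eq_of_le
    (by simpa [hm] using hctl m : Ctl p U ⊤ ⊥).isPGroup (fun β hβ => by
      obtain ⟨g, hg, rfl⟩ := mem_autInducedBy_iff'.1 hβ
      exact (hU _).2 ⟨conjAut_mem_autGroup hP hg.1 hg.2, fun i =>
        trivOn_conjAut_iff.2 fun x _ hx => hc i g hg.1 x hx⟩) inf_le_left
  have hτ' : ∀ i, Inv (zpowers τ) ((T i).subgroupOf P) := fun i =>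
    inv_zpowers_iff.2 fun x hx => by
      have := hτT i x x.2 hx
      rwa [Fus2.afn_coe] at this
  obtain ⟨f, hf, -, e⟩ := exists_ext_normalizerIn hS hF hfn hτ (hUe ▸
    Fus.mem_normalizer_of_conj_mem fun β hβ => (hU _).2 ⟨mul_mem (mul_mem hτ ((hU β).1 hβ).1)
      (inv_mem hτ), fun i => (((hU β).1 hβ).2 i).conj (hτ' i _ (inv_mem (mem_zpowers τ)))
        (hτ' _ _ (mem_zpowers τ))⟩)
  exact ⟨f, hf.mono (le_inf le_rfl hn), e⟩

theorem ext_mem (hE : F.IsEssential p E) {α t : MulAut E} (hα : α ∈ F.autGroup E)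
    (ht : t ∈ extAut F E) (ht' : t ∉ Inn E) {k : ℕ} (hk : t ^ p ^ k = 1)
    (h : α * t * α⁻¹ ∈ extAut F E) : α ∈ extAut F E := by
  have hle : (Inn E).subgroupOf (F.autGroup E) ≤ (extAut F E).subgroupOf (F.autGroup E) :=
    subgroupOf_mono _ ((Inn_le_autInducedBy hE.1.1).trans
      (autInducedBy_le_extAut (lt_of_isEssential hS hF hE)))
  have := mem_of_stronglyPEmbedded (stronglyPEmbedded_extAut hS hF hE) (x := outMk F E ⟨α, hα⟩)
    (t := outMk F E ⟨t, extAut_le_autGroup ht⟩) ⟨_, ht, rfl⟩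
    (fun e => ht' (outMk_eq_one_iff.1 e)) (k := k) (by
      rw [← map_pow, ← (outMk F E).map_one]; exact congrArg _ (Subtype.ext hk))
    ⟨⟨α, hα⟩ * ⟨t, extAut_le_autGroup ht⟩ * ⟨α, hα⟩⁻¹, h, by rw [map_mul, map_mul, map_inv]⟩
  rwa [← mem_comap, comap_map_eq_self (by rwa [QuotientGroup.ker_mk'])] at this

theorem ext_le (hE : F.IsEssential p E) {U : Subgroup (MulAut E)} (hU : U ≤ F.autGroup E)
    (hp' : IsPGroup p U) {t : MulAut E} (htU : t ∈ U) (ht : t ∈ extAut F E) (ht' : t ∉ Inn E) :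
    U ≤ extAut F E := by
  haveI := finite_of_le hE.1.1
  obtain ⟨g, hg, e⟩ := (sat_sylow hS hF hE.2.1).exists_conj_mem hp' hU
  have hT := autInducedBy_le_extAut (F := F) (lt_of_isEssential hS hF hE)
  obtain ⟨k, hk⟩ := exists_pow_eq_one_of_mem hp' htU
  have hg' := ext_mem hS hF hE hg ht ht' hk (hT (e t htU))
  intro b hb
  simpa [mul_assoc] using mul_mem (mul_mem (inv_mem hg') (hT (e b hb))) hg'

theorem ext_pair (hE : F.IsEssential p E) {γ t t' : MulAut E} (hγ : γ ∈ F.autGroup E)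
    (hγ' : γ ∉ extAut F E) (ht : t ∈ extAut F E) (ht' : t' ∈ extAut F E) (h₁ : t ∉ Inn E)
    (h₂ : t' ∉ Inn E) : ¬ IsPGroup p (closure {t, γ * t' * γ⁻¹} : Subgroup (MulAut E)) :=
  fun h => by
  have hm : γ * t' * γ⁻¹ ∈ closure {t, γ * t' * γ⁻¹} := subset_closure (Or.inr rfl)
  obtain ⟨k, hk⟩ := exists_pow_eq_one_of_mem h hm
  rw [conj_pow, conj_eq_one_iff] at hk
  refine hγ' (ext_mem hS hF hE hγ ht' h₂ hk (ext_le hS hF hE ((closure_le _).2 ?_) h
    (subset_closure (Or.inl rfl)) ht h₁ hm))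
  rintro _ (rfl | rfl)
  exacts [extAut_le_autGroup ht, mul_mem (mul_mem hγ (extAut_le_autGroup ht')) (inv_mem hγ)]

theorem exists_not_ext (hE : F.IsEssential p E) : ∃ γ ∈ F.autGroup E, γ ∉ extAut F E :=
  SetLike.not_le_iff_exists.1 fun e => (isEssential_iff_extAut_ne hS hF
    (lt_of_isEssential hS hF hE) hE.2.1).1 hE (le_antisymm extAut_le_autGroup e)

end Fusion

/-- The reduction modulo a central subgroup. -/
theorem exists_quot_essential {G : Type u} [Group G] [Finite G] {p : ℕ} [Fact p.Prime]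
    (hG : IsPGroup p G) {F : FusionSystem (⊤ : Subgroup G)} (hF : F.IsSaturated p)
    {E Z : Subgroup G} [Z.Normal] (hE : F.IsEssential p E) (hZ : Z ≤ center G) {α : MulAut E}
    (hα : α ∈ F.autGroup E) (hα' : α ∉ extAut F E) (hfix : ∀ x ∈ Z, afn α x = x) :
    ∃ F' : FusionSystem (⊤ : Subgroup (G ⧸ Z)), F'.IsSaturated p ∧
      F'.IsEssential p (E.map (QuotientGroup.mk' Z)) := by
  have hS := hG.to_subgroup ⊤
  have hZE : Z ≤ E := fun x hx => mem_of_commute hE.1 trivial fun e _ =>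
    (Subgroup.mem_center_iff.1 (hZ hx) e).symm
  obtain ⟨D, hD, hDs, hDn, -, h₁, h₂⟩ := ZJF.exists_cSys hS hF (U := Z) le_top
    (by rw [normalizer_eq_top])
  have hlt := lt_of_isEssential hS hF hE
  have hDF : D ≤ F := Fus2.isSubsystemOf_iff.2 (ZJF.IsNK.toM hD)
  have hE' : D.IsEssential p E := (isEssential_iff_extAut_ne hS hDs hlt
    ⟨le_top, fun Q hQ => hE.2.1.2 Q (isConj_mono hDF hQ)⟩).2 fun e => hα' (closure_mono
      (by rintro β ⟨Q, hQ, φ, hφ, e⟩; exact ⟨Q, hQ, φ, hDF Q hφ, e⟩) (e.ge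
        ((Fus2.mem_autGroup_iff le_top).2 (h₁ _ _ ((Fus2.mem_autGroup_iff le_top).1 hα) hZE hfix))))
  let θ : (⊤ : Subgroup G) →* G ⧸ Z := (QuotientGroup.mk' Z).comp (⊤ : Subgroup G).subtype
  have hθ : ∀ x, Fus2.fn θ x = QuotientGroup.mk' Z x := fun x => Fus2.fn_apply θ (mem_top x)
  have hk : preimageAlong θ ⊥ = Z := by
    ext x
    rw [Fus2.mem_pre_bot, hθ]
    simp
  obtain ⟨F', h⟩ := Fus2.exists_isFactorSystem (Fus2.sc_of_isNormal hDn) hk (S' := ⊤)
    (MonoidHom.range_eq_top.2 fun y => by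
      obtain ⟨x, rfl⟩ := QuotientGroup.mk'_surjective Z y
      exact ⟨⟨x, trivial⟩, rfl⟩)
  have hs := Fus2.surjM_of_factor_of_normal h hDn
  refine ⟨F', hs.saturated hS hDs, ?_⟩
  have := isEssential_img_of hS hDs hs hE' (hk.le.trans hZE) fun β hβ x hx => by
    rw [hk] at hx
    obtain ⟨s, -, e⟩ := h₂ _ _ ((Fus2.mem_autGroup_iff le_top).1 hβ)
    rw [e x (hZE hx) hx, Subgroup.mem_center_iff.1 (hZ hx) s, mul_inv_cancel_right]
  rwa [Fus2.img_congr fun x _ => hθ x, Fus2.img_hom] at this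

end Cfsg.Agent.Ess
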