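import Cfsg.Agent.Lib.MC.Quad2

/-! The torus of a quadratic pair. -/

set_option autoImplicit false
set_option linter.style.haveILetI false
set_option linter.unusedVariables false
set_option linter.unusedSectionVars false

namespace Cfsg.Agent.MC

open Module Subgroup Polynomial

variable {p : ℕ} [hp : Fact p.Prime] {X : Type*} [Group X] {V : Type*} [AddCommGroup V]
  [Module (ZMod p) V] [Finite X] {ρ : X →* End (ZMod p) V} {x y t : X}

theorem isPGroup_pair (hc : Commute x y) (hx : x ^ p = 1) (hy : y ^ p = 1) :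
    IsPGroup p (closure {x, y} : Subgroup X) := fun g => ⟨1, Subtype.ext (by
  have hC : ∀ a ∈ ({x, y} : Set X), a ∈ centralizer ({x, y} : Set X) := by
    rintro _ (rfl | rfl) _ (rfl | rfl)
    exacts [rfl, hc.symm.eq, hc.eq, rfl]
  have := (closure_le (subOf (fun g => g ∈ centralizer (centralizer ({x, y} : Set X) : Set X) ∧
    g ^ p = 1) ⟨one_mem _, one_pow _⟩ fun a b ha hb => ⟨mul_mem ha.1 hb.1, by
      rw [Commute.mul_pow (hb.1 a fun c hc => (ha.1 c (hC c hc))), ha.2, hb.2, one_mul]⟩)).2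
    (fun a ha => ⟨fun c hc => (hc a ha).symm, by rcases ha with rfl | rfl <;> assumption⟩) g.2
  rw [pow_one]; exact this.2)⟩

theorem Qd.pow_eq_one (hρ : Function.Injective ρ) (ht : Qd ρ t) : t ^ p = 1 :=
  hρ (by rw [ht.pow, ZMod.natCast_self, zero_smul, add_zero, map_one])

theorem QP.torus (h2 : p ≠ 2) (hρ : Function.Injective ρ) (ht : Qd ρ t) {c : ZMod p}
    (h : QP ρ t t y c 1) : ∃ e₁ e₂ : End (ZMod p) V, e₁ * e₁ = e₁ ∧ e₂ * e₂ = e₂ ∧ e₁ * e₂ = 0 ∧
      e₂ * e₁ = 0 ∧ (∀ u, (ρ t - 1) u = 0 → e₂ u = 0) ∧ (∀ u, ∃ u', e₁ u = (ρ t - 1) u') ∧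
      (∀ l : ZMod p, l ≠ 0 → ∃ τ, ρ τ = 1 + (l - 1) • e₁ + (l⁻¹ - 1) • e₂ ∧
        IsPGroup p (closure {t, τ * t * τ⁻¹} : Subgroup X)) ∧
      ∃ β, (∀ u, e₁ u = 0 → e₂ u = 0 → ρ β u = u) ∧
        ¬ IsPGroup p (closure {t, β * t * β⁻¹} : Subgroup X) := by
  obtain ⟨-, h₂, h₃, ⟨e, h₄, h₅⟩, D, h₆⟩ := h
  have hy := ht.conj h₂
  have htp := ht.pow_eq_one hρ
  set n := ρ t - 1 with hn'
  set m := ρ y - 1 with hm'
  set w := Wp ρ t y with hw'
  have hn : Commute w n := comm_anti ht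
  have hm : Commute w m := by
    have := comm_anti (m := n) hy
    rwa [add_comm] at this
  have e₂ : n * n = 0 := ht
  have e₃ : m * m = 0 := hy
  have e₄ : w = n * m + m * n := rfl
  clear_value n m w
  have k₁ : w * w ^ D = c • w ^ D := by
    simp only [map_mul, map_pow, aeval_X, map_sub, aeval_C, pow_one, mul_sub, sub_eq_zero] at h₆
    rw [← pow_succ', pow_succ, h₆, ← Algebra.commutes, Algebra.smul_def]
  have k₂ : ∀ j, w ^ j * w ^ D = c ^ j • w ^ D := fun j => by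
    induction j with
    | zero => simp
    | succ j ih => rw [pow_succ', mul_assoc, ih, mul_smul_comm, k₁, smul_smul, pow_succ]
  set π := (c ^ D)⁻¹ • w ^ D with hπ
  have hcD : c ^ D ≠ 0 := pow_ne_zero _ h₃
  have wπ : w * π = c • π := by rw [hπ, mul_smul_comm, k₁, smul_comm]
  have ππ : π * π = π := by
    rw [hπ, smul_mul_assoc, mul_smul_comm, k₂, smul_smul (c ^ D)⁻¹ (c ^ D), inv_mul_cancel₀ hcD,
      one_smul]
  have nπ : n * π = π * n := ((hn.pow_left D).smul_left _).symm.eq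
  have mπ : m * π = π * m := ((hm.pow_left D).smul_left _).symm.eq
  have πe : π e = e := by
    have := aeval_eigen h₅ (Polynomial.X ^ D)
    rw [map_pow, aeval_X, eval_pow, eval_X] at this
    rw [hπ, LinearMap.smul_apply, this, smul_smul, inv_mul_cancel₀ hcD, one_smul]
  clear_value π
  have hcomm : ∀ g ∈ closure {t, y}, Commute (ρ g) π := fun g hg =>
    (closure_le (subOf (fun g => Commute (ρ g) π) (by rw [map_one]; exact Commute.one_left _)
      fun a b ha hb => by rw [map_mul]; exact ha.mul_left hb)).2 (by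
        rintro _ (rfl | rfl)
        · have := Commute.add_left nπ (Commute.one_left π)
          rwa [hn', sub_add_cancel] at this
        · have := Commute.add_left mπ (Commute.one_left π)
          rwa [hm', sub_add_cancel] at this) hg
  set q := p ^ (2 * D + 1) with hq
  have hq0 : q ≠ 0 := pow_ne_zero _ hp.out.ne_zero
  have hpow : ∀ g ∈ closure {t, y}, ∀ j, ρ (g ^ (j + 1)) * π = (ρ g * π) ^ (j + 1) :=
    fun g hg j => by
      rw [(hcomm g hg).mul_pow, IsIdempotentElem.pow_succ_eq j ππ, map_pow]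
  have hfix : ∀ g ∈ closure {t, y}, ρ (g ^ q) = (ρ g * π) ^ q + (1 - π) := fun g hg => by
    have : ρ (g ^ q) * (1 - π) = 1 - π := LinearMap.ext fun u => pow_pow_apply ht hy D hg (by
      rw [← hw', ← End.mul_apply, mul_sub, mul_one, hπ, mul_smul_comm, k₂, smul_smul,
        inv_mul_cancel₀ hcD, one_smul, sub_self, LinearMap.zero_apply])
    obtain ⟨j, hj⟩ := Nat.exists_eq_succ_of_ne_zero hq0
    rw [← this, hj, ← hpow g hg, ← mul_add, add_sub_cancel, mul_one]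
  have mt : t ∈ closure {t, y} := subset_closure (Or.inl rfl)
  have my : y ∈ closure {t, y} := subset_closure (Or.inr rfl)
  let ω : ZMod p → X := fun l => t ^ l.val * y ^ (-(l * c)⁻¹).val * t ^ l.val
  have mω : ∀ l, ω l ∈ closure {t, y} := fun l =>
    mul_mem (mul_mem (pow_mem mt _) (pow_mem my _)) (pow_mem mt _)
  obtain ⟨a, ha⟩ : ∃ a, a = n * π := ⟨_, rfl⟩
  obtain ⟨b, hb⟩ : ∃ b, b = m * π := ⟨_, rfl⟩
  have hω : ∀ l ≠ 0, ρ (ω l) * π = l • a + (-(l * c)⁻¹) • b := fun l hl => by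
    simp only [ω, map_mul, ht.pow, hy.pow, ZMod.natCast_zmod_val, ← hn', ← hm']
    rw [omega_id e₂ (e₄ ▸ wπ) nπ (by field_simp), add_mul, smul_mul_assoc, smul_mul_assoc, ha, hb]
  have aπ : a * π = a := by rw [ha, mul_assoc, ππ]
  have bπ : b * π = b := by rw [hb, mul_assoc, ππ]
  have πa : π * a = a := by rw [ha, nπ, ← mul_assoc, ππ]
  have πb : π * b = b := by rw [hb, mπ, ← mul_assoc, ππ]
  have na : n * a = 0 := by rw [ha, ← mul_assoc, e₂, zero_mul]
  have an : a * n = 0 := by rw [ha, nπ, mul_assoc, e₂, mul_zero]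
  have nb : n * b = a * b := by rw [ha, mul_assoc, πb]
  have bn : b * n = b * a := by rw [ha, nπ, ← mul_assoc, bπ]
  have aa : a * a = 0 := by rw [ha, nπ, mul_assoc, ← nπ, ← ha, na, mul_zero]
  have bb : b * b = 0 := by rw [hb, mπ, mul_assoc, ← mπ, ← mul_assoc m, e₃, zero_mul, mul_zero]
  have ab : b * a = c • π - a * b := by
    rw [← wπ, e₄, add_mul, mul_assoc, mul_assoc, ← ha, ← hb, nb, add_sub_cancel_left, hb, mul_assoc,
      πa]
  have nπ' : n * π = a := ha.symm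
  have πn : π * n = a := nπ.symm.trans ha.symm
  have A : ∀ {x y z : End (ZMod p) V}, x * y = z → ∀ u, x * (y * u) = z * u := fun h u => by
    rw [← mul_assoc, h]
  have ρt : ρ t = 1 + n := by rw [hn', add_sub_cancel]
  have hodd : Odd q := (hp.out.odd_of_ne_two h2).pow
  obtain ⟨f₁, hf₁⟩ : ∃ f, f = c⁻¹ • (a * b) := ⟨_, rfl⟩
  obtain ⟨f₂, hf₂⟩ : ∃ f, f = π - c⁻¹ • (a * b) := ⟨_, rfl⟩
  have f₁₁ : f₁ * f₁ = f₁ := by
    simp only [hf₁, smul_mul_assoc, mul_smul_comm, mul_assoc, A ab, sub_mul, mul_sub, πb, A aa,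
      zero_mul]
    match_scalars; field_simp
  have f₁₂ : f₁ * f₂ = 0 := by
    rw [hf₂, ← hf₁, mul_sub, f₁₁, hf₁, smul_mul_assoc, mul_assoc, bπ, sub_self]
  have f₂₁ : f₂ * f₁ = 0 := by
    rw [hf₂, ← hf₁, sub_mul, f₁₁, hf₁, mul_smul_comm, A πa, sub_self]
  have f₂₂ : f₂ * f₂ = f₂ := by
    nth_rw 1 [hf₂]
    rw [← hf₁, sub_mul, f₁₂, sub_zero, hf₂, mul_sub, ππ, mul_smul_comm, A πa]
  have hπ' : π = f₁ + f₂ := by rw [hf₁, hf₂, add_sub_cancel]
  refine ⟨f₁, f₂, f₁₁, f₂₂, f₁₂, f₂₁, fun u hu => ?_, fun u => ⟨c⁻¹ • b u, ?_⟩, fun l hl => ?_,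
    ω 1 ^ q, fun u h₁ h₂ => ?_, fun hP => h₄ ?_⟩
  · have : f₂ = c⁻¹ • (b * n) := by
      rw [hf₂, bn, ab, smul_sub, smul_smul, inv_mul_cancel₀ h₃, one_smul]
    rw [this, LinearMap.smul_apply, End.mul_apply, hu, map_zero, smul_zero]
  · rw [hf₁, ← nb, LinearMap.smul_apply, End.mul_apply, map_smul]
  · have k₃ : ρ (ω (-l) * ω 1) * π = l • f₁ + l⁻¹ • f₂ := by
      rw [map_mul, mul_assoc, ← ππ, ← mul_assoc (ρ (ω 1)), (hcomm _ (mω 1)).eq, mul_assoc π,
        (hcomm _ (mω 1)).eq, A ππ, ← (hcomm _ (mω 1)).eq, ← ππ, ← mul_assoc (ρ (ω 1)),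
        (hcomm _ (mω 1)).eq, mul_assoc π, ← mul_assoc, hω _ (neg_ne_zero.2 hl), hω _ one_ne_zero,
        hf₁, hf₂]
      simp only [add_mul, mul_add, smul_mul_assoc, mul_smul_comm, aa, bb, ab]
      match_scalars <;> field_simp <;> ring
    have k₄ : ∀ j, (l • f₁ + l⁻¹ • f₂) ^ (j + 1) = l ^ (j + 1) • f₁ + l⁻¹ ^ (j + 1) • f₂ :=
      fun j => by
      induction j with
      | zero => simp
      | succ j ih =>
        rw [pow_succ, ih]
        simp only [add_mul, mul_add, smul_mul_assoc, mul_smul_comm, f₁₁, f₁₂, f₂₁, f₂₂]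
        module
    have k₅ : ρ ((ω (-l) * ω 1) ^ q) = 1 + (l - 1) • f₁ + (l⁻¹ - 1) • f₂ := by
      obtain ⟨j, hj⟩ := Nat.exists_eq_succ_of_ne_zero hq0
      rw [hfix _ (mul_mem (mω _) (mω _)), k₃, hj, k₄, ← Nat.succ_eq_add_one, ← hj, hq,
        ZMod.pow_card_pow, ZMod.pow_card_pow, hπ']
      module
    refine ⟨_, k₅, isPGroup_pair (hρ ?_) htp (by rw [conj_pow, htp]; simp)⟩
    generalize (ω (-l) * ω 1) ^ q = τ at k₅
    have k₆ : ρ τ * n = (n + (l * l - 1) • a) * ρ τ := by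
      rw [k₅, hf₁, hf₂]
      simp only [add_mul, mul_add, sub_mul, mul_sub, smul_mul_assoc, mul_smul_comm, mul_assoc,
        one_mul, mul_one, bn, ab, A aa, A na, πn, nπ', aπ, zero_mul]
      match_scalars <;> field_simp <;> ring
    have k₇ : ρ (τ * t * τ⁻¹) = 1 + (n + (l * l - 1) • a) := by
      rw [← sub_add_cancel (ρ (τ * t * τ⁻¹)) 1, conj_sub_one, ← hn', k₆, mul_assoc, ← map_mul,
        mul_inv_cancel, map_one, mul_one, add_comm]
    rw [map_mul, map_mul _ _ t, k₇, ρt]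
    simp only [add_mul, mul_add, smul_mul_assoc, mul_smul_comm, one_mul, mul_one, e₂, na, an]
    module
  · have k₃ : π u = 0 := by rw [hπ', LinearMap.add_apply, h₁, h₂, add_zero]
    obtain ⟨j, hj⟩ := Nat.exists_eq_succ_of_ne_zero hq0
    rw [hfix _ (mω 1), hj, pow_succ, ← mul_assoc]
    simp [k₃]
  · set Ω := (1 : ZMod p) • a + (-(1 * c)⁻¹) • b with hΩ
    have ΩΩ : Ω * Ω = -π := by
      simp only [hΩ, add_mul, mul_add, smul_mul_assoc, mul_smul_comm, aa, bb, ab]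
      match_scalars <;> field_simp <;> ring
    have k₃ : ∀ j, Ω ^ (2 * j + 1) = (-1 : ZMod p) ^ j • Ω := fun j => by
      induction j with
      | zero => simp
      | succ j ih =>
        have : Ω * π = Ω := by simp only [hΩ, add_mul, smul_mul_assoc, aπ, bπ]
        rw [show 2 * (j + 1) + 1 = 2 * j + 1 + 1 + 1 by ring, pow_succ, pow_succ, ih, mul_assoc, ΩΩ,
          smul_mul_assoc, mul_neg, this]
        module
    obtain ⟨j, hj⟩ := hodd
    have k₄ : ρ (ω 1 ^ q) = (-1 : ZMod p) ^ j • Ω + (1 - π) := by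
      rw [hfix _ (mω 1), hω 1 one_ne_zero, hj, k₃]
    have mβ := pow_mem (mω 1) q
    generalize ω 1 ^ q = β at k₄ hP mβ
    have k₅ : ρ β * a = (-c⁻¹ • b) * ρ β := by
      rw [k₄, hΩ]
      simp only [add_mul, mul_add, sub_mul, mul_sub, smul_mul_assoc, mul_smul_comm, one_mul,
        mul_one, aa, bb, πa, bπ]
      match_scalars <;> ring
    have k₆ : ρ (β * t * β⁻¹) * π = π + -c⁻¹ • b := by
      rw [← sub_add_cancel (ρ (β * t * β⁻¹)) 1, conj_sub_one, ← hn', add_mul, mul_assoc,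
        (hcomm _ (inv_mem mβ)).eq, ← mul_assoc, mul_assoc _ n, nπ', k₅, mul_assoc, ← map_mul,
        mul_inv_cancel, map_one, mul_one, one_mul, add_comm]
    have m₁ : t ∈ closure {t, β * t * β⁻¹} := subset_closure (Or.inl rfl)
    obtain ⟨k, hk⟩ := hP ⟨_, mul_mem (mul_mem m₁ (subset_closure (Or.inr rfl))) m₁⟩
    have k₇ : ρ (t * (β * t * β⁻¹) * t) * π = Ω := by
      rw [map_mul, map_mul, mul_assoc, (hcomm t mt).eq, ← mul_assoc, mul_assoc (ρ t), k₆, ρt, hΩ]
      simp only [add_mul, mul_add, sub_mul, mul_sub, smul_mul_assoc, mul_smul_comm, one_mul,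
        mul_one, mul_assoc, nπ', πn, nb, bn, an, ab, aπ, A aa, zero_mul]
      match_scalars <;> field_simp <;> ring
    obtain ⟨i, hi⟩ : Odd (p ^ k) := (hp.out.odd_of_ne_two h2).pow
    have k₈ := hpow _ (mul_mem (mul_mem mt (mul_mem (mul_mem mβ mt) (inv_mem mβ))) mt) (2 * i)
    rw [k₇, k₃, ← hi, show (t * (β * t * β⁻¹) * t) ^ p ^ k = 1 from congrArg Subtype.val hk,
      map_one, one_mul] at k₈
    have k₉ : π = -π := by
      have := congrArg₂ (· * ·) k₈ k₈
      rwa [ππ, smul_mul_assoc, mul_smul_comm, ΩΩ, smul_smul, ← mul_pow, neg_mul_neg, one_mul,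
        one_pow, one_smul] at this
    have h20 : (2 : ZMod p) ≠ 0 := fun e => h2 ((Nat.prime_dvd_prime_iff_eq hp.out Nat.prime_two).1
      ((ZMod.natCast_eq_zero_iff 2 p).1 e))
    have := LinearMap.congr_fun k₉ e
    rw [LinearMap.neg_apply, πe, eq_neg_iff_add_eq_zero, ← two_smul (ZMod p)] at this
    exact (smul_eq_zero.1 this).resolve_left h20

end Cfsg.Agent.MC
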