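import Mathlib

/-! The transfer trick on product functions. -/

set_option autoImplicit false
set_option linter.style.haveILetI false
set_option linter.unusedVariables false
set_option linter.unusedSectionVars false

namespace Cfsg.Agent.MC

open Finset

section TL

variable {F : Type*} [Field F] {Γ : Type*} [Group Γ] {D : Type*} [MulAction Γ D]

/-- The permutation action on functions. -/
def act (F : Type*) [Field F] (D : Type*) [MulAction Γ D] : Γ →* Module.End F (D → F) where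
  toFun g := LinearMap.funLeft F F fun d => g⁻¹ • d
  map_one' := by ext f d; simp
  map_mul' g h := by
    refine LinearMap.ext fun f => funext fun d => ?_
    simp [LinearMap.funLeft_apply, mul_smul]

theorem act_apply (g : Γ) (f : D → F) (d : D) : act F D g f d = f (g⁻¹ • d) := rfl

variable {ι : Type*} [Fintype ι] [DecidableEq ι]

/-- Product functions. -/
def pr (f : ι → D → F) : (ι → D) → F := fun x => ∏ j, f j (x j)

theorem act_pr (g : Γ) (f : ι → D → F) :
    act F (ι → D) g (pr f) = pr fun j => act F D g (f j) := rfl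

/-- The filtration on product functions. -/
def PF (Fil : ι → ℕ → Submodule F (D → F)) (r : ℕ) : Submodule F ((ι → D) → F) :=
  Submodule.span F {y | ∃ (l : ι → ℕ) (f : ι → D → F), (∀ j, f j ∈ Fil j (l j)) ∧
    r ≤ ∑ j, l j ∧ y = pr f}

variable {Fil : ι → ℕ → Submodule F (D → F)}

theorem pr_mem {l : ι → ℕ} {f : ι → D → F} (h : ∀ j, f j ∈ Fil j (l j)) {r : ℕ}
    (hr : r ≤ ∑ j, l j) : pr f ∈ PF Fil r := Submodule.subset_span ⟨l, f, h, hr, rfl⟩

theorem PF_anti {r r' : ℕ} (h : r ≤ r') : PF Fil r' ≤ PF Fil r :=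
  Submodule.span_mono fun _ ⟨l, f, h₁, h₂, h₃⟩ => ⟨l, f, h₁, h.trans h₂, h₃⟩

theorem pr_add_sub_mem {l : ι → ℕ} {f h : ι → D → F} {κ : ℕ} (hf : ∀ j, f j ∈ Fil j (l j))
    (hh : ∀ j, h j ∈ Fil j (l j + κ)) :
    pr (fun j => h j + f j) - pr f ∈ PF Fil (∑ j, l j + κ) := by
  have e : pr (fun j => h j + f j) - pr f =
      ∑ t ∈ (univ : Finset ι).powerset.erase ∅, pr (t.piecewise h f) := by
    funext x
    have h1 := Finset.prod_add (fun j => h j (x j)) (fun j => f j (x j)) univ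
    rw [← add_sum_erase _ _ (empty_mem_powerset univ)] at h1
    simp only [Pi.sub_apply, pr, Pi.add_apply, Finset.sum_apply]
    rw [h1, prod_empty, sdiff_empty, one_mul, add_sub_cancel_left]
    refine sum_congr rfl fun t _ => ?_
    have h2 := prod_piecewise univ t (fun j => h j (x j)) (fun j => f j (x j))
    rw [univ_inter] at h2
    rw [← h2]
    refine prod_congr rfl fun j _ => ?_
    by_cases hj : j ∈ t
    · rw [piecewise_eq_of_mem _ _ _ hj, piecewise_eq_of_mem _ _ _ hj]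
    · rw [piecewise_eq_of_notMem _ _ _ hj, piecewise_eq_of_notMem _ _ _ hj]
  rw [e]
  refine Submodule.sum_mem _ fun t ht => pr_mem (l := t.piecewise (fun j => l j + κ) l) ?_ ?_
  · intro j
    by_cases hj : j ∈ t
    · rw [piecewise_eq_of_mem _ _ _ hj, piecewise_eq_of_mem _ _ _ hj]; exact hh j
    · rw [piecewise_eq_of_notMem _ _ _ hj, piecewise_eq_of_notMem _ _ _ hj]; exact hf j
  · obtain ⟨j₀, hj₀⟩ := nonempty_iff_ne_empty.2 (ne_of_mem_erase ht)
    rw [← add_sum_erase _ _ (mem_univ j₀), ← add_sum_erase _ _ (mem_univ j₀),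
      piecewise_eq_of_mem _ _ _ hj₀]
    have : ∑ j ∈ univ.erase j₀, l j ≤ ∑ j ∈ univ.erase j₀, t.piecewise (fun j => l j + κ) l j :=
      sum_le_sum fun j _ => by
        by_cases hj : j ∈ t
        · rw [piecewise_eq_of_mem _ _ _ hj]; omega
        · rw [piecewise_eq_of_notMem _ _ _ hj]
    omega

theorem act_sub_mem {x : Γ} {κ : ℕ}
    (hx : ∀ j r, ∀ f ∈ Fil j r, act F D x f - f ∈ Fil j (r + κ)) {r : ℕ} {y : (ι → D) → F}
    (hy : y ∈ PF Fil r) : (act F (ι → D) x - 1) y ∈ PF Fil (r + κ) := by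
  induction hy using Submodule.span_induction with
  | mem y hy =>
    obtain ⟨l, f, h₁, h₂, rfl⟩ := hy
    have := pr_add_sub_mem h₁ fun j => hx j _ _ (h₁ j)
    simp only [sub_add_cancel] at this
    exact PF_anti (by omega) this
  | zero => rw [map_zero]; exact zero_mem _
  | add a b _ _ ha hb => rw [map_add]; exact add_mem ha hb
  | smul c a _ ha => rw [map_smul]; exact Submodule.smul_mem _ _ ha

theorem pow_act_sub_mem {x : Γ} {κ : ℕ}
    (hx : ∀ j r, ∀ f ∈ Fil j r, act F D x f - f ∈ Fil j (r + κ)) (m : ℕ) {r : ℕ}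
    {y : (ι → D) → F} (hy : y ∈ PF Fil r) :
    ((act F (ι → D) x - 1) ^ m) y ∈ PF Fil (r + κ * m) := by
  induction m with
  | zero => simpa using hy
  | succ m ih =>
    rw [pow_succ', Module.End.mul_apply, mul_add, mul_one, ← add_assoc]
    exact act_sub_mem hx ih

theorem geom_eq_pow {p : ℕ} [hp : Fact p.Prime] [CharP F p] {R : Type*} [Ring R] [Algebra F R]
    (a : R) : ∑ c ∈ range p, a ^ c = (a - 1) ^ (p - 1) := by
  have e : (∑ c ∈ range p, (Polynomial.X : Polynomial F) ^ c) = (Polynomial.X - 1) ^ (p - 1) := by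
    have h0 : (Polynomial.X - 1 : Polynomial F) ≠ 0 := by
      simpa using Polynomial.X_sub_C_ne_zero (1 : F)
    refine mul_right_cancel₀ h0 ?_
    rw [geom_sum_mul, ← pow_succ, Nat.sub_add_cancel hp.out.one_le, sub_pow_char, one_pow]
  simpa using congrArg (Polynomial.aeval a) e

/-- The trace of a cyclic group of order `p` raises degrees. -/
theorem trace_mem {p : ℕ} [hp : Fact p.Prime] [CharP F p] {x : Γ} {κ : ℕ}
    (hx : ∀ j r, ∀ f ∈ Fil j r, act F D x f - f ∈ Fil j (r + κ)) {r : ℕ}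
    {y : (ι → D) → F} (hy : y ∈ PF Fil r) :
    ∑ c : ZMod p, act F (ι → D) (x ^ c.val) y ∈ PF Fil (r + κ * (p - 1)) := by
  have := pow_act_sub_mem hx (p - 1) hy
  rw [← geom_eq_pow (F := F), LinearMap.sum_apply] at this
  convert this using 1
  refine sum_nbij' (fun c => c.val) (fun c => (c : ZMod p)) (fun c _ => mem_range.2 c.val_lt)
    (fun _ _ => mem_univ _) (fun c _ => ZMod.natCast_zmod_val c)
    (fun c hc => ZMod.val_cast_of_lt (mem_range.1 hc)) fun c _ => by rw [map_pow]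

theorem orbit_sum {I Ω M : Type*} [Group I] [Fintype I] [MulAction I Ω] [AddCommMonoid M]
    (σ : I → M → M) (hσ : ∀ i a b, σ i (a + b) = σ i a + σ i b) (hσ0 : ∀ i, σ i 0 = 0)
    (U : AddSubmonoid M) (Φ : Ω → M) (hΦ : ∀ ω, Φ ω ∈ U) (he : ∀ i ω, Φ (i • ω) = σ i (Φ ω))
    (n : ℕ) : ∀ T : Finset Ω, T.card = n → (∀ i : I, ∀ ω ∈ T, i • ω ∈ T) →
      (∀ i : I, ∀ ω ∈ T, i • ω = ω → i = 1) →
      Fintype.card I ∣ T.card ∧ ∃ u ∈ U, ∑ ω ∈ T, Φ ω = ∑ i, σ i u := by
  classical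
  induction n using Nat.strong_induction_on with
  | _ n ih =>
  intro T hT h₁ h₂
  rcases T.eq_empty_or_nonempty with rfl | ⟨ω, hω⟩
  · exact ⟨by simp, 0, zero_mem _, by simp [hσ0]⟩
  have hinj : Function.Injective fun i : I => i • ω := fun i j e => by
    have : (j⁻¹ * i) • ω = ω := by rw [mul_smul]; exact inv_smul_eq_iff.2 e
    exact (inv_mul_eq_one.1 (h₂ _ _ hω this)).symm
  set O := univ.image fun i : I => i • ω with hO
  have hOT : O ⊆ T := fun x hx => by
    obtain ⟨i, -, rfl⟩ := mem_image.1 hx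
    exact h₁ i ω hω
  have hc : O.card = Fintype.card I := card_image_of_injective _ hinj
  have hc' := card_sdiff_add_card_eq_card hOT
  have hpos : 0 < Fintype.card I := Fintype.card_pos
  obtain ⟨d, u, hu, e⟩ := ih (T \ O).card (by omega) (T \ O) rfl (fun i x hx => by
    obtain ⟨hx₁, hx₂⟩ := mem_sdiff.1 hx
    refine mem_sdiff.2 ⟨h₁ i x hx₁, fun h => hx₂ ?_⟩
    obtain ⟨j, -, hj⟩ := mem_image.1 h
    exact mem_image.2 ⟨i⁻¹ * j, mem_univ _, by rw [mul_smul, hj, inv_smul_smul]⟩)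
    fun i x hx => h₂ i x (mem_sdiff.1 hx).1
  refine ⟨by rw [← hc', hc]; exact dvd_add d dvd_rfl, u + Φ ω, add_mem hu (hΦ ω), ?_⟩
  rw [← sum_sdiff hOT, e, hO, sum_image fun i _ j _ h => hinj h, ← sum_add_distrib]
  exact sum_congr rfl fun i _ => by rw [hσ, he]

theorem eval_eq_zero (hanti : ∀ j, Antitone (Fil j)) {l : ι → ℕ} {d : ι → D}
    (hd : ∀ j, ∀ f ∈ Fil j (l j + 1), f (d j) = 0) {y : (ι → D) → F}
    (hy : y ∈ PF Fil (∑ j, l j + 1)) : y d = 0 := by
  induction hy using Submodule.span_induction with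
  | mem y hy =>
    obtain ⟨l', f, h₁, h₂, rfl⟩ := hy
    obtain ⟨j, -, hj⟩ := exists_lt_of_sum_lt (s := univ) (f := l) (g := l') (by omega)
    exact prod_eq_zero (mem_univ j) (hd j _ (hanti j hj (h₁ j)))
  | zero => rfl
  | add a b _ _ ha hb => rw [Pi.add_apply, ha, hb, add_zero]
  | smul c a _ ha => rw [Pi.smul_apply, ha, smul_zero]

theorem slice_mem (hanti : ∀ j, Antitone (Fil j)) {len : ι → ℕ}
    (hlen : ∀ j, Fil j (len j + 1) = ⊥) {j₀ : ι} {ρ r : ℕ}
    (hρ : ρ + ∑ j ∈ univ.erase j₀, len j ≤ r) (x : ι → D) {y : (ι → D) → F}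
    (hy : y ∈ PF Fil r) : (fun d => y (Function.update x j₀ d)) ∈ Fil j₀ ρ := by
  induction hy using Submodule.span_induction with
  | mem y hy =>
    obtain ⟨l, f, h₁, h₂, rfl⟩ := hy
    have e : (fun d => pr f (Function.update x j₀ d)) =
        (∏ j ∈ univ.erase j₀, f j (x j)) • f j₀ := by
      funext d
      rw [pr, ← mul_prod_erase _ _ (mem_univ j₀), Function.update_self, Pi.smul_apply, smul_eq_mul,
        mul_comm]
      congr 1
      exact prod_congr rfl fun j hj => by rw [Function.update_of_ne (ne_of_mem_erase hj)]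
    rw [e]
    by_cases h : ∀ j ∈ univ.erase j₀, l j ≤ len j
    · refine Submodule.smul_mem _ _ (hanti j₀ ?_ (h₁ j₀))
      have := sum_le_sum h
      rw [← add_sum_erase _ _ (mem_univ j₀)] at h₂
      omega
    · push Not at h
      obtain ⟨j, hj, hj'⟩ := h
      have : f j = 0 := by
        have := hanti j (show len j + 1 ≤ l j from hj') (h₁ j)
        rwa [hlen, Submodule.mem_bot] at this
      rw [prod_eq_zero hj (by rw [this]; rfl), zero_smul]
      exact zero_mem _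
  | zero => exact zero_mem _
  | add a b _ _ ha hb => exact add_mem ha hb
  | smul c a _ ha => exact Submodule.smul_mem _ c ha

theorem act_mem_PF (h0 : ∀ j (g : Γ), ∀ f ∈ Fil j 0, act F D g f ∈ Fil j 0)
    (hanti : ∀ j, Antitone (Fil j)) (g : Γ) {f : ι → D → F} (hf : ∀ j, f j ∈ Fil j 0) :
    act F (ι → D) g (pr f) ∈ PF Fil 0 :=
  pr_mem (l := fun _ => 0) (fun j => h0 j g _ (hf j)) (Nat.zero_le _)

/-- The transfer trick. -/
theorem trick [Finite Γ] {p : ℕ} [CharP F p] {P N : Subgroup Γ} (hP : ¬ p ∣ P.index)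
    (hPN : P ≤ N) {I : Type*} [Group I] [Fintype I] (hI : p ∣ Fintype.card I) (φ : I →* Γ)
    (hφ : ∀ i, φ i ∈ P) (hfree : ∀ i, i ≠ 1 → ∀ g, g⁻¹ * φ i * g ∈ P → g ∈ N)
    (hanti : ∀ j, Antitone (Fil j)) (h0 : ∀ j (g : Γ), ∀ f ∈ Fil j 0, act F D g f ∈ Fil j 0)
    {len l : ι → ℕ} (hlen : ∀ j, Fil j (len j + 1) = ⊥)
    (htr : ∀ u ∈ PF Fil 0, ∑ i, act F (ι → D) (φ i) u ∈ PF Fil (∑ j, l j + 1))
    {m : ι → D → F} (hm : ∀ j, m j ∈ Fil j (l j)) (hmP : ∀ g ∈ P, ∀ j, act F D g (m j) = m j)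
    (hw : ∀ g ∈ N, ∃ w : ι → F, ∏ j, w j = 1 ∧
      ∀ j, act F D g (m j) - w j • m j ∈ Fil j (l j + 1))
    {d : ι → D} (hd : ∀ j, ∀ f ∈ Fil j (l j + 1), f (d j) = 0) (hd' : ∀ j, m j (d j) ≠ 0)
    {j₀ : ι} {ρ : ℕ} (hρ : ρ + ∑ j ∈ univ.erase j₀, len j ≤ ∑ j, l j) :
    ∃ U : Set (D → F), (∀ f ∈ U, f ∈ Fil j₀ ρ) ∧ (∀ f ∈ U, ∀ g : Γ, act F D g f ∈ U) ∧
      ∃ f ∈ U, f ≠ 0 := by
  classical
  haveI := Fintype.ofFinite (Γ ⧸ P)
  let Φ : Γ ⧸ P → (ι → D) → F := fun ω => act F (ι → D) ω.out (pr m)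
  have hΦ : ∀ g : Γ, Φ g = act F (ι → D) g (pr m) := fun g => by
    obtain ⟨h, hh⟩ := QuotientGroup.mk_out_eq_mul P g
    simp only [Φ]
    rw [hh, map_mul, Module.End.mul_apply, act_pr (h : Γ)]
    simp only [hmP _ h.2]
  have hΦe : ∀ (g : Γ) ω, Φ (g • ω) = act F (ι → D) g (Φ ω) := fun g ω => by
    induction ω using QuotientGroup.induction_on with
    | H a => rw [MulAction.Quotient.smul_mk, hΦ, hΦ, smul_eq_mul, map_mul, Module.End.mul_apply]
  have hm0 : ∀ j, m j ∈ Fil j 0 := fun j => hanti j (Nat.zero_le _) (hm j)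
  have hout : ∀ g : Γ, (g : Γ ⧸ P).out ∈ N ↔ g ∈ N := fun g => by
    obtain ⟨h, hh⟩ := QuotientGroup.mk_out_eq_mul P g
    rw [hh]
    exact N.mul_mem_cancel_right (hPN h.2)
  letI : MulAction I (Γ ⧸ P) := MulAction.compHom _ φ
  have hsm : ∀ (i : I) (ω : Γ ⧸ P), i • ω = φ i • ω := fun _ _ => rfl
  obtain ⟨hdvd, u, hu, hsum⟩ := orbit_sum (I := I) (fun i y => act F (ι → D) (φ i) y)
    (fun i a b => map_add _ a b) (fun i => map_zero _) (PF Fil 0).toAddSubmonoid Φ
    (fun ω => act_mem_PF h0 hanti _ hm0) (fun i ω => hΦe _ ω) _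
    (univ.filter fun ω : Γ ⧸ P => ¬ ω.out ∈ N) rfl
    (fun i ω hω => by
      induction ω using QuotientGroup.induction_on with
      | H a =>
        rw [mem_filter, hout] at hω
        rw [hsm, MulAction.Quotient.smul_mk, mem_filter, hout, smul_eq_mul,
          N.mul_mem_cancel_left (hPN (hφ i))]
        exact ⟨mem_univ _, hω.2⟩)
    (fun i ω hω e => by
      induction ω using QuotientGroup.induction_on with
      | H a =>
        rw [mem_filter, hout] at hω
        rw [hsm, MulAction.Quotient.smul_mk, eq_comm, QuotientGroup.eq, smul_eq_mul,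
          ← mul_assoc] at e
        by_contra hi
        exact hω.2 (hfree i hi a e))
  set T₀ := univ.filter fun ω : Γ ⧸ P => ω.out ∈ N with hT₀
  have hcard : (T₀.card : F) ≠ 0 := fun e => hP (by
    have h1 := (CharP.cast_eq_zero_iff F p _).1 e
    have h2 := card_filter_add_card_filter_not (s := univ) fun ω : Γ ⧸ P => ω.out ∈ N
    rw [Subgroup.index, Nat.card_eq_fintype_card, ← card_univ, ← h2]
    exact dvd_add h1 (hI.trans hdvd))
  set y := ∑ ω, Φ ω with hy
  have hy1 : y - (T₀.card : F) • pr m ∈ PF Fil (∑ j, l j + 1) := by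
    rw [hy, ← sum_filter_add_sum_filter_not univ fun ω : Γ ⧸ P => ω.out ∈ N, hsum,
      add_sub_right_comm, Nat.cast_smul_eq_nsmul, ← sum_const, ← sum_sub_distrib]
    refine add_mem (Submodule.sum_mem _ fun ω hω => ?_) (htr u hu)
    obtain ⟨w, hw₁, hw₂⟩ := hw _ (mem_filter.1 hω).2
    have := pr_add_sub_mem (fun j => Submodule.smul_mem _ (w j) (hm j)) hw₂
    simp only [sub_add_cancel] at this
    have e : (pr fun j => w j • m j) = pr m := by
      funext x
      simp only [pr, Pi.smul_apply, smul_eq_mul, prod_mul_distrib, hw₁, one_mul]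
    rwa [e] at this
  have hy2 : y ∈ PF Fil (∑ j, l j) := by
    have := add_mem (PF_anti (Nat.le_succ _) hy1)
      (Submodule.smul_mem _ (T₀.card : F) (pr_mem hm le_rfl))
    rwa [sub_add_cancel] at this
  have hy3 : ∀ g : Γ, act F (ι → D) g y = y := fun g => by
    rw [hy, map_sum]
    exact Fintype.sum_equiv (MulAction.toPerm g) _ _ fun ω => (hΦe g ω).symm
  refine ⟨Set.range fun x d => y (Function.update x j₀ d), ?_, ?_,
    fun e => y (Function.update d j₀ e), ⟨d, rfl⟩, fun e => ?_⟩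
  · rintro _ ⟨x, rfl⟩
    exact slice_mem hanti hlen hρ x hy2
  · rintro _ ⟨x, rfl⟩ g
    refine ⟨g • x, funext fun e => ?_⟩
    rw [act_apply]
    refine (congrFun (hy3 g) _).symm.trans ?_
    rw [act_apply]
    congr 1
    funext j
    by_cases hj : j = j₀
    · subst hj; simp
    · simp [Function.update_of_ne hj]
  · have h1 := congrFun e (d j₀)
    rw [Function.update_eq_self, Pi.zero_apply] at h1
    have h2 := eval_eq_zero hanti hd hy1
    rw [Pi.sub_apply, h1, zero_sub, neg_eq_zero, Pi.smul_apply, smul_eq_mul] at h2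
    exact mul_ne_zero hcard (prod_ne_zero_iff.2 fun j _ => hd' j) h2

end TL

end Cfsg.Agent.MC
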