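import Cfsg.Agent.Lib.MC.Tr
import Cfsg.Agent.Lib.MC.Reg

/-! Windows of a flag, as a permutation module with filtrations. -/

set_option autoImplicit false
set_option linter.style.haveILetI false
set_option linter.unusedVariables false
set_option linter.unusedSectionVars false

namespace Cfsg.Agent.MC

open Finset Module

variable {F : Type*} [Field F] {V : Type*} [AddCommGroup V] [Module F V]
  {Γ : Type*} [Group Γ]

/-- Invariance of a member of the flag. -/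
def FI (σ : Γ →* End F V) (co : ℕ → V →ₗ[F] F) (c : ℕ) : Prop :=
  ∀ g, ∀ w ∈ Fl co c, σ g w ∈ Fl co c

/-- A window of the flag. -/
structure Win (σ : Γ →* End F V) (co : ℕ → V →ₗ[F] F) (a b : ℕ) : Prop where
  lt : a < b
  ia : FI σ co a
  ib : FI σ co b

variable {σ : Γ →* End F V} {co : ℕ → V →ₗ[F] F} {a b : ℕ}

theorem rep_inv_apply (σ : Γ →* End F V) (g : Γ) (w : V) : σ g (σ g⁻¹ w) = w := by
  rw [← End.mul_apply, ← map_mul, mul_inv_cancel, map_one, End.one_apply]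

theorem rep_inv_apply' (σ : Γ →* End F V) (g : Γ) (w : V) : σ g⁻¹ (σ g w) = w := by
  rw [← End.mul_apply, ← map_mul, inv_mul_cancel, map_one, End.one_apply]

theorem rep_inj (σ : Γ →* End F V) (g : Γ) : Function.Injective (σ g) :=
  Function.LeftInverse.injective (rep_inv_apply' σ g)

/-- Test data. -/
@[ext] structure Dom (W : Win σ co a b) where
  x : V
  ψ : V →ₗ[F] F
  y : V
  hx : x ∈ Fl co a
  hψ : ∀ w ∈ Fl co b, ψ w = 0

variable {W : Win σ co a b}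

instance : MulAction Γ (Dom W) where
  smul g e := ⟨σ g e.x, e.ψ ∘ₗ σ g⁻¹, σ g e.y, W.ia g _ e.hx, fun w hw => e.hψ _ (W.ib _ w hw)⟩
  one_smul e := by
    refine Dom.ext ?_ ?_ ?_
    · change σ 1 e.x = e.x; rw [map_one]; rfl
    · change e.ψ ∘ₗ σ 1⁻¹ = e.ψ; rw [inv_one, map_one]; rfl
    · change σ 1 e.y = e.y; rw [map_one]; rfl
  mul_smul g h e := by
    refine Dom.ext ?_ ?_ ?_
    · change σ (g * h) e.x = σ g (σ h e.x); rw [map_mul]; rfl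
    · change e.ψ ∘ₗ σ (g * h)⁻¹ = (e.ψ ∘ₗ σ h⁻¹) ∘ₗ σ g⁻¹; rw [mul_inv_rev, map_mul]; rfl
    · change σ (g * h) e.y = σ g (σ h e.y); rw [map_mul]; rfl

theorem smul_x (g : Γ) (e : Dom W) : (g • e).x = σ g e.x := rfl
theorem smul_ψ (g : Γ) (e : Dom W) (w : V) : (g • e).ψ w = e.ψ (σ g⁻¹ w) := rfl
theorem smul_y (g : Γ) (e : Dom W) : (g • e).y = σ g e.y := rfl

/-- Matrix coefficient functions. -/
def fE (W : Win σ co a b) : End F V →ₗ[F] (Dom W → F) where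
  toFun A e := e.ψ (A e.x)
  map_add' A B := by funext e; simp
  map_smul' c A := by funext e; simp

theorem fE_apply (A : End F V) (e : Dom W) : fE W A e = e.ψ (A e.x) := rfl

theorem act_fE (g : Γ) (A : End F V) : act F (Dom W) g (fE W A) = fE W (σ g * A * σ g⁻¹) := by
  funext e
  rw [act_apply, fE_apply, smul_ψ, smul_x, inv_inv]
  rfl

/-- The degree filtration on matrix coefficients. -/
def FilE (W : Win σ co a b) (r : ℕ) : Submodule F (Dom W → F) where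
  carrier := {f | f ∈ LinearMap.range (fE W) ∧ ∀ (e : Dom W) c c', e.x ∈ Fl co c →
    (∀ w ∈ Fl co c', e.ψ w = 0) → (b ≤ c ∨ c' ≤ a ∨ c' + (b - a - 1) ≤ c + r) → f e = 0}
  zero_mem' := ⟨zero_mem _, fun _ _ _ _ _ _ => rfl⟩
  add_mem' hf hg := ⟨add_mem hf.1 hg.1, fun e c c' h₁ h₂ h₃ => by
    rw [Pi.add_apply, hf.2 e c c' h₁ h₂ h₃, hg.2 e c c' h₁ h₂ h₃, add_zero]⟩
  smul_mem' x f hf := ⟨Submodule.smul_mem _ x hf.1, fun e c c' h₁ h₂ h₃ => by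
    rw [Pi.smul_apply, hf.2 e c c' h₁ h₂ h₃, smul_zero]⟩

theorem FilE_anti : Antitone (FilE W) := fun r r' h f hf =>
  ⟨hf.1, fun e c c' h₁ h₂ h₃ => hf.2 e c c' h₁ h₂ (by omega)⟩

theorem FilE_len : FilE W (2 * (b - a - 1) + 1) = ⊥ := eq_bot_iff.2 fun f hf =>
  funext fun e => hf.2 e a b e.hx e.hψ (by have := W.lt; omega)

theorem fE_mem {r : ℕ} {A : End F V} (h : Dg co r A) : fE W A ∈ FilE W (r + (b - a - 1)) :=
  ⟨⟨A, rfl⟩, fun e c c' h₁ h₂ h₃ => by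
    rcases h₃ with h₃ | h₃ | h₃
    · exact e.hψ _ (Fl_anti (by omega) (h c _ h₁))
    · exact h₂ _ (Fl_anti (by omega) (h a _ e.hx))
    · exact h₂ _ (Fl_anti (by omega) (h c _ h₁))⟩

theorem act_mem_FilE (g : Γ) {f : Dom W → F} (hf : f ∈ FilE W 0) :
    act F (Dom W) g f ∈ FilE W 0 := by
  refine ⟨?_, fun e c c' h₁ h₂ h₃ => ?_⟩
  · obtain ⟨A, rfl⟩ := hf.1
    exact ⟨_, (act_fE g A).symm⟩
  · rw [act_apply]
    by_cases hc : b ≤ c
    · exact hf.2 _ b b (W.ib _ _ (Fl_anti hc h₁)) (g⁻¹ • e).hψ (Or.inl le_rfl)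
    · have hc' : c' ≤ a := by omega
      exact hf.2 _ a a (g⁻¹ • e).hx (fun w hw => h₂ _ (Fl_anti hc' (W.ia _ w hw)))
        (Or.inr (Or.inl le_rfl))

theorem act_sub_mem_FilE {x : Γ} {κ : ℕ} (h₁ : Dg co κ (σ x - 1)) (h₂ : Dg co κ (σ x⁻¹ - 1))
    (r : ℕ) (f : Dom W → F) (hf : f ∈ FilE W r) : act F (Dom W) x f - f ∈ FilE W (r + κ) := by
  obtain ⟨A, rfl⟩ := hf.1
  refine ⟨sub_mem ⟨_, (act_fE x A).symm⟩ ⟨A, rfl⟩, fun e c c' hc hc' h₃ => ?_⟩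
  let e₁ : Dom W := ⟨(σ x⁻¹ - 1) e.x, e.ψ ∘ₗ σ x, e.y, sub_mem (W.ia _ _ e.hx) e.hx,
    fun w hw => e.hψ _ (W.ib _ w hw)⟩
  let e₂ : Dom W := ⟨e.x, e.ψ ∘ₗ (σ x - 1), e.y, e.hx,
    fun w hw => e.hψ _ (sub_mem (W.ib _ w hw) hw)⟩
  have he : (act F (Dom W) x (fE W A) - fE W A) e = fE W A e₁ + fE W A e₂ := by
    rw [act_fE]
    simp [fE_apply, e₁, e₂]
  have k₁ : fE W A e₁ = 0 := hf.2 e₁ (c + κ) c' (h₂ c _ hc)
    (fun w hw => hc' _ (h₁.of_sub_one c' w hw)) (by omega)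
  have k₂ : fE W A e₂ = 0 := by
    rcases le_or_gt κ c' with hκ | hκ
    · exact hf.2 e₂ c (c' - κ) hc (fun w hw => hc' _ (Fl_anti (by omega) (h₁ _ w hw))) (by omega)
    · exact hc' _ (Fl_anti (by omega) (h₁ 0 _ (mem_Fl_zero _)))
  rw [he, k₁, k₂, add_zero]

variable {N : End F V} {d : ℕ} {v : ℕ → V}

theorem eq_zero_of_irr (h : Reg N d v co) {g₀ : Γ} (hg : Ex d v co 1 (σ g₀ - 1))
    (hirr : ∀ c, a < c → c < b → ¬ FI σ co c) {U : Set (Dom W → F)}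
    (hU : ∀ f ∈ U, f ∈ FilE W (b - a)) (hU' : ∀ f ∈ U, ∀ g : Γ, act F (Dom W) g f ∈ U)
    (hb : b ≤ d) {f : Dom W → F} (hf : f ∈ U) : f = 0 := by
  let K : Submodule F V :=
    { carrier := {w | w ∈ Fl co a ∧ ∀ f ∈ U, ∀ e : Dom W, e.x = w → f e = 0}
      zero_mem' := ⟨zero_mem _, fun f hf e he => by
        obtain ⟨A, rfl⟩ := (hU f hf).1
        rw [fE_apply, he, map_zero, map_zero]⟩
      add_mem' := fun {w w'} hw hw' => ⟨add_mem hw.1 hw'.1, fun f hf e he => by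
        have k₁ := hw.2 f hf ⟨w, e.ψ, e.y, hw.1, e.hψ⟩ rfl
        have k₂ := hw'.2 f hf ⟨w', e.ψ, e.y, hw'.1, e.hψ⟩ rfl
        obtain ⟨A, rfl⟩ := (hU f hf).1
        rw [fE_apply] at k₁ k₂ ⊢
        rw [he, map_add, map_add, k₁, k₂, add_zero]⟩
      smul_mem' := fun c w hw => ⟨Submodule.smul_mem _ c hw.1, fun f hf e he => by
        have k₁ := hw.2 f hf ⟨w, e.ψ, e.y, hw.1, e.hψ⟩ rfl
        obtain ⟨A, rfl⟩ := (hU f hf).1
        rw [fE_apply] at k₁ ⊢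
        rw [he, map_smul, map_smul, k₁, smul_zero]⟩ }
  have hK : ∀ g, ∀ w ∈ K, σ g w ∈ K := fun g w hw => ⟨W.ia g w hw.1, fun f hf e he => by
    have := hw.2 _ (hU' f hf g⁻¹) (g⁻¹ • e) (by rw [smul_x, he, rep_inv_apply'])
    rwa [act_apply, inv_inv, smul_inv_smul] at this⟩
  obtain ⟨c, hc, e⟩ := h.exists_eq_Fl hg (U := K) fun w hw => sub_mem (hK g₀ w hw) hw
  have hlt := W.lt
  have h1 : Fl co (b - 1) ≤ K := fun w hw => ⟨Fl_anti (by omega) hw, fun f hf e he =>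
    (hU f hf).2 e (b - 1) b (he ▸ hw) e.hψ (by omega)⟩
  have h2 : c ≤ b - 1 := h.le_of_Fl_le hc (e ▸ h1)
  have h3 : c ≤ a := by
    by_contra h3
    exact hirr c (by omega) (by omega) fun g w hw => e ▸ hK g w (e ▸ hw)
  funext x
  have : x.x ∈ K := e ▸ Fl_anti h3 x.hx
  exact this.2 f hf x rfl

/-- The filtration on linear functionals. -/
def FilD (W : Win σ co a b) (q r : ℕ) : Submodule F (Dom W → F) where
  carrier := {f | ∃ φ : V →ₗ[F] F, (∀ w ∈ Fl co (q - r), φ w = 0) ∧ f = fun e => φ e.y}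
  zero_mem' := ⟨0, fun _ _ => rfl, rfl⟩
  add_mem' := by
    rintro _ _ ⟨φ, h₁, rfl⟩ ⟨φ', h₂, rfl⟩
    exact ⟨φ + φ', fun w hw => by rw [LinearMap.add_apply, h₁ w hw, h₂ w hw, add_zero], rfl⟩
  smul_mem' := by
    rintro c _ ⟨φ, h₁, rfl⟩
    exact ⟨c • φ, fun w hw => by rw [LinearMap.smul_apply, h₁ w hw, smul_zero], rfl⟩

variable {q : ℕ}

theorem FilD_anti : Antitone (FilD W q) := fun r r' h f ⟨φ, h₁, h₂⟩ =>
  ⟨φ, fun w hw => h₁ w (Fl_anti (by omega) hw), h₂⟩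

theorem FilD_len (hq : 1 ≤ q) : FilD W q (q - 1 + 1) = ⊥ := eq_bot_iff.2 fun f ⟨φ, h₁, h₂⟩ =>
  h₂ ▸ funext fun e => h₁ _ (Fl_anti (by omega) (mem_Fl_zero _))

theorem act_mem_FilD (hq : FI σ co q) (g : Γ) {f : Dom W → F} (hf : f ∈ FilD W q 0) :
    act F (Dom W) g f ∈ FilD W q 0 := by
  obtain ⟨φ, h₁, rfl⟩ := hf
  exact ⟨φ ∘ₗ σ g⁻¹, fun w hw => h₁ _ (hq _ w hw), rfl⟩

theorem act_sub_mem_FilD {x : Γ} {κ : ℕ} (h₂ : Dg co κ (σ x⁻¹ - 1))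
    (r : ℕ) (f : Dom W → F) (hf : f ∈ FilD W q r) : act F (Dom W) x f - f ∈ FilD W q (r + κ) := by
  obtain ⟨φ, h₁, rfl⟩ := hf
  refine ⟨φ ∘ₗ (σ x⁻¹ - 1), fun w hw => h₁ _ (Fl_anti (by omega) (h₂ _ w hw)), funext fun e => ?_⟩
  simp [act_apply, smul_y]

theorem exists_gap (h : Reg N d v co) {a' c : ℕ} (ha : FI σ co a') (hc : ¬ FI σ co c)
    (hac : a' ≤ c) : ∃ a b, a' ≤ a ∧ a < c ∧ c < b ∧ b ≤ d ∧ Win σ co a b ∧
      ∀ c, a < c → c < b → ¬ FI σ co c := by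
  classical
  have hd : ∀ e, d ≤ e → FI σ co e := fun e he g w hw => by
    rw [h.eq_zero he hw, map_zero]; exact zero_mem _
  have hcd : c < d := not_le.1 fun e => hc (hd c e)
  have hex : ∃ b, c ≤ b ∧ FI σ co b := ⟨d, hcd.le, hd d le_rfl⟩
  have h1 := Nat.findGreatest_spec (P := FI σ co) hac ha
  have h2 := Nat.find_spec hex
  have h3 : Nat.findGreatest (FI σ co) c < c :=
    lt_of_le_of_ne (Nat.findGreatest_le c) fun e => hc (e ▸ h1)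
  have h4 : c < Nat.find hex := lt_of_le_of_ne h2.1 fun e => hc (e ▸ h2.2)
  refine ⟨_, _, Nat.le_findGreatest hac ha, h3, h4, Nat.find_min' hex ⟨hcd.le, hd d le_rfl⟩,
    ⟨h3.trans h4, h1, h2.2⟩, fun c' h₁ h₂ h₃ => ?_⟩
  rcases le_or_gt c' c with hc' | hc'
  · exact absurd (Nat.le_findGreatest hc' h₃) (not_le.2 h₁)
  · exact Nat.find_min hex h₂ ⟨hc'.le, h₃⟩

end Cfsg.Agent.MC
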