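import Cfsg.Agent.Lib.MC.Top

/-!
Weights of automorphisms of a `p`-group of maximal class, and subgroups without uniform elements.
-/

set_option autoImplicit false
set_option linter.style.haveILetI false
set_option linter.unusedVariables false
set_option linter.unusedSectionVars false

namespace Cfsg.Agent.Ess

open Subgroup Cfsg.Agent.Fus Cfsg.Agent.TwoGrp
open Cfsg.FusionSystem (normalizerIn centralizerIn)
open Cfsg.Agent.Fus2 (M afn img HomOn)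
open scoped commutatorElement

universe u

variable {G : Type u} [Group G] {p n : ℕ} [hp : Fact p.Prime] {K : Subgroup G}

/-- `σ` raises `y` to the power `c` modulo `Y`. -/
def Sc (σ : G → G) (Y : Subgroup G) (y : G) (c : ZMod p) : Prop := (y ^ c.val)⁻¹ * σ y ∈ Y

section Sc

variable {σ : G → G} {X Y : Subgroup G} {y : G} {c c' : ZMod p}

theorem Sc.unique (h₁ : Sc σ Y y c) (h₂ : Sc σ Y y c') (hy : y ∉ Y) (hp' : y ^ p ∈ Y) : c = c' := by
  simpa using eig_unique hy hp' h₁ h₂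

theorem Sc.mono (h : Sc σ X y c) (hXY : X ≤ Y) : Sc σ Y y c := hXY h

theorem sc_of_nat {a : ℕ} (h : (y ^ a)⁻¹ * σ y ∈ Y) (hp' : y ^ p ∈ Y) (e : (a : ZMod p) = c) :
    Sc σ Y y c := by
  have := mul_mem (pow_inv_mul_pow_mem hp' (a := c.val) (b := a) (by simpa using e.symm)) h
  rwa [mul_assoc, mul_inv_cancel_left] at this

theorem sc_one (h : y⁻¹ * σ y ∈ Y) : Sc σ Y y (1 : ZMod p) := by
  rwa [Sc, ZMod.val_one, pow_one]

theorem sc_neg (h : y * σ y ∈ Y) (hp' : y ^ p ∈ Y) : Sc σ Y y (-1 : ZMod p) := by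
  refine sc_of_nat (a := p - 1) ?_ hp' (by rw [Nat.cast_pred hp.out.pos]; simp)
  have := mul_mem (inv_mem hp') h
  rwa [← Nat.sub_add_cancel hp.out.pos, pow_succ', mul_inv_rev, mul_assoc,
    inv_mul_cancel_left] at this

theorem sc_of_eq (h : σ y = y ^ c.val) : Sc σ Y y c := by
  rw [Sc, h, inv_mul_cancel]; exact one_mem _

theorem Sc.eq (h : Sc σ ⊥ y c) : σ y = y ^ c.val := (inv_mul_eq_one.1 (mem_bot.1 h)).symm

theorem Sc.one (h : Sc σ Y y (1 : ZMod p)) : y⁻¹ * σ y ∈ Y := by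
  rwa [Sc, ZMod.val_one, pow_one] at h

theorem neg_ne_one (h2 : p ≠ 2) : (-1 : ZMod p) ≠ 1 := fun e => h2
  ((Nat.prime_dvd_prime_iff_eq hp.out Nat.prime_two).1 ((ZMod.natCast_eq_zero_iff 2 p).1 (by
    push_cast; linear_combination -e)))

end Sc

/-- The weights of an automorphism. -/
structure Wts (n : ℕ) (K : Subgroup G) (σ : G → G) (a b : ZMod p) : Prop where
  ha : a ≠ 0
  hb : b ≠ 0
  top : ∀ y, Sc σ K y a
  mid : ∀ j, j + 3 ≤ n → ∀ y ∈ tsr K j, Sc σ (tsr K (j + 1)) y (b * a ^ j)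
  non : ⁅K, lcs G (n - 3)⁆ = ⊥ → ∀ y ∈ lcs G (n - 2), Sc σ ⊥ y (b * a ^ (n - 2))
  exc : ⁅K, lcs G (n - 3)⁆ ≠ ⊥ → ∀ y ∈ lcs G (n - 2), Sc σ ⊥ y (b * (b * a ^ (n - 3)))

namespace TwoStep

variable [Finite G] (hK : TwoStep p K) (h : MaxCl p n G)
include hK h

theorem card_tsr {j : ℕ} (hj : j + 1 ≤ n) : Nat.card (tsr K j) = p ^ (n - 1 - j) := by
  cases j with
  | zero =>
    exact card_eq_of_index (n := 1) hp.out.pos (by rw [h.card]; congr 1; omega)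
      (hK.idx.trans (pow_one p).symm)
  | succ j => exact h.card_lcs (by omega) hj

theorem le_of_mem {E : Subgroup G} {j : ℕ} {y : G} (hy : y ∈ tsr K j) (hy' : y ∉ tsr K (j + 1))
    (hE : y ∈ E) (h₁ : tsr K (j + 1) ≤ E) : tsr K j ≤ E :=
  (sup_eq_of_relIndex_prime' (hK.anti (Nat.le_succ _)) (hK.relIndex_dvd h j) hy hy').ge.trans
    (sup_le (zpowers_le.2 hE) h₁)

theorem exists_pos' {x : G} (hx : x ∈ K) (h1 : x ≠ 1) :
    ∃ a, a + 2 ≤ n ∧ x ∈ tsr K a ∧ x ∉ tsr K (a + 1) := by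
  have := h.le
  obtain ⟨a, ha, h₁⟩ := hK.exists_pos hx (j := n - 2) (by
    rwa [tsr_of_pos K (by omega), h.eq_bot (by omega)])
  exact ⟨a, by omega, h₁⟩

theorem exists_min {X : Subgroup G} (hX : X ≤ K) (h1 : X ≠ ⊥) :
    ∃ a, a + 2 ≤ n ∧ X ≤ tsr K a ∧ ¬ X ≤ tsr K (a + 1) := by
  classical
  have := h.le
  have hn : ¬ X ≤ tsr K (n - 2 + 1) := by
    rwa [tsr_of_pos K (by omega), h.eq_bot (by omega), le_bot_iff]
  have hex : ∃ a, ¬ X ≤ tsr K (a + 1) := ⟨_, hn⟩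
  refine ⟨Nat.find hex, by have := Nat.find_min' hex hn; omega, ?_, Nat.find_spec hex⟩
  rcases e : Nat.find hex with _ | a
  · exact hX
  · exact not_not.1 (Nat.find_min hex (m := a) (by omega))

theorem pow_eq_one_of_triv (h4 : 4 ≤ n) {σ : MulAut G} (h₁ : ∀ y, y⁻¹ * σ y ∈ K)
    (h₂ : ∀ y ∈ K, y⁻¹ * σ y ∈ lcs G 1) : ∃ k, σ ^ p ^ k = 1 := by
  obtain ⟨k, hk⟩ := exists_pow_coprime (p := p) σ
  have c₁ : Ctl p (zpowers σ) ⊤ K := ctl_of_trivOn (by
    rintro _ ⟨j, rfl⟩; exact trivOn_zpow le_top (fun y _ => h₁ y) j)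
  have c₂ : Ctl p (zpowers σ) K (lcs G 1) := ctl_of_trivOn (by
    rintro _ ⟨j, rfl⟩; exact trivOn_zpow hK.le h₂ j)
  have hc := ((c₁.trans_char h.isPGroup c₂).mono' le_rfl
    (lcs_one_le_frattini h.isPGroup)).frattini h.isPGroup
  exact ⟨k, trivOn_top_bot_iff.1 (hc _ (_root_.pow_mem (mem_zpowers σ) _) hk)⟩

theorem fix_of_triv (h4 : 4 ≤ n) {σ : MulAut G} (h₁ : ∀ y, y⁻¹ * σ y ∈ K)
    (h₂ : ∀ y ∈ K, y⁻¹ * σ y ∈ lcs G 1) {z : G} (hz : z ∈ center G) : σ z = z := by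
  obtain ⟨k, hk⟩ := hK.pow_eq_one_of_triv h h4 h₁ h₂
  exact trivOn_bot_iff.1 (trivOn_of_relIndex_dvd h.isPGroup hk (inv_char ⊤ _ σ trivial)
    (inv_bot ⊤ σ trivial) (by rw [relIndex_bot_left, h.card_center])) z hz

variable (h2 : p ≠ 2)
include h2

theorem pos_all (hne : ⁅K, lcs G (n - 3)⁆ = ⊥) (m : ℕ) : Pos K m := fun i hi _ => by
  by_cases e : i < n - 3
  · exact hK.pos h2 n h i hi e
  · exact (commutator_mono le_rfl (lcs_anti (not_lt.1 e))).trans (hne.le.trans bot_le)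

theorem comm_nm {x : G} (hx : x ∉ K) {j : ℕ} (hj : j + 4 ≤ n) {y : G} (hy : y ∈ tsr K j)
    (hy' : y ∉ tsr K (j + 1)) : ⁅y, x⁆ ∉ tsr K (j + 2) :=
  hK.comm_not_mem' h (hK.pos h2 n h) hx (by omega) (by omega) hy hy'

theorem comm_tsr₂ {i j : ℕ} (hij : i + j + 4 ≤ n) : ⁅tsr K i, tsr K j⁆ ≤ tsr K (i + j + 2) :=
  hK.comm_tsr' h (hK.pos h2 n h) (by omega)

theorem nonvan₂ (h4 : 4 ≤ n) (hexc : ⁅K, lcs G (n - 3)⁆ ≠ ⊥) {i j : ℕ} (hij : i + j + 3 = n)
    {x y : G} (hx : x ∈ tsr K i) (hx' : x ∉ tsr K (i + 1)) (hy : y ∈ tsr K j)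
    (hy' : y ∉ tsr K (j + 1)) : ¬ Commute x y := fun e =>
  hK.nonvan' h (m := n - 3) (by omega) (hK.pos h2 n h)
    (by rwa [h.eq_bot (j := n - 3 + 2) (by omega), le_bot_iff]) i j (by omega) (by
      have := hK.comm_le_of_gen h hx hx' hy hy' (by rw [e.commutator_eq]; exact one_mem _)
      rwa [show i + j = n - 3 by omega] at this)

theorem even (h4 : 4 ≤ n) (hexc : ⁅K, lcs G (n - 3)⁆ ≠ ⊥) : Even n ∧ 6 ≤ n := by
  have : Even n := by
    by_contra e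
    obtain ⟨i, hi⟩ := Nat.not_even_iff_odd.1 e
    obtain ⟨y, hy, hy'⟩ := SetLike.exists_of_lt (hK.tsr_lt h (j := i - 1) (by omega))
    exact hK.nonvan₂ h h2 h4 hexc (by omega) hy hy' hy hy' (Commute.refl y)
  refine ⟨this, ?_⟩
  obtain ⟨i, hi⟩ := this
  by_contra e
  obtain rfl : n = 4 := by omega
  exact hexc (eq_bot_iff.2 (hK.comm.trans (h.eq_bot (by omega)).le))

theorem exists_wts (h4 : 4 ≤ n) (σ : MulAut G) : ∃ a b : ZMod p, Wts n K σ a b := by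
  obtain ⟨a, b, ha, hb, h₁, h₂⟩ := hK.exists_eig h h4 σ
  have hb' : lcs G (n - 2 + 1) = ⊥ := h.eq_bot (by omega)
  have hZ : ∀ y ∈ lcs G (n - 2), y ^ p ∈ (⊥ : Subgroup G) := fun y hy => by
    have := hK.pow_mem_tsr h (n - 2) y ((tsr_of_pos K (by omega)).ge hy)
    rwa [tsr_of_pos K (by omega), hb'] at this
  refine ⟨a, b, ha, hb, fun y => sc_of_nat (h₁ y trivial) (hK.pow_mem h y) rfl,
    fun j hj y hy => sc_of_nat (hK.eig h (hK.pos h2 n h) h₁ h₂ (by omega) (by omega) y hy)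
      (hK.pow_mem_tsr h j y hy) (by push_cast; rfl), fun e y hy => ?_, fun e y hy => ?_⟩
  · have := hK.eig h (hK.pos_all h h2 e n) h₁ h₂ (j := n - 2) (by omega) (by omega)
    rw [tsr_of_pos K (by omega), tsr_of_pos K (by omega), hb'] at this
    exact sc_of_nat (this y hy) (hZ y hy) (by push_cast; rfl)
  · obtain ⟨c, hc⟩ := exists_eig' (p := p) (X := lcs G (n - 2)) (σ := σ) bot_le
      (by rw [relIndex_bot_left, ← h.center_eq, h.card_center]) (inv_char ⊤ _ σ trivial)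
      (inv_bot ⊤ σ trivial)
    obtain ⟨x, hx, hx'⟩ := SetLike.exists_of_lt (hK.tsr_lt h (j := 0) (by omega))
    obtain ⟨w, hw, hw'⟩ := SetLike.exists_of_lt (hK.tsr_lt h (j := n - 3) (by omega))
    have h₃ := hK.eig h (hK.pos h2 n h) h₁ h₂ (j := n - 3) le_rfl (by omega)
    refine sc_of_nat (hc y hy) (hZ y hy) ?_
    rw [eig_pair_eq h₂ h₃ hc hx hw (hK.inv_tsr h h4 ⊤ _ σ trivial w hw)
      ((comm_tsr_le K 1 _).trans (h.eq_bot (by omega)).le)
      ((comm_tsr_le K 0 _).trans (h.eq_bot (by omega)).le) hb'.le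
      (lcs_anti (by omega) (comm_tsr_le K 0 _ (commutator_mem_commutator hx hw)))
      (fun e' => hK.nonvan₂ h h2 h4 e (i := 0) (by omega) hx hx' hw hw'
        (commutatorElement_eq_one_iff_commute.1 e')) hZ]
    push_cast
    rfl

theorem le_or_le (h4 : 4 ≤ n) {E : Subgroup G}
    (hE : ∀ x ∈ E, ¬ Nat.card (centralizer {x}) ≤ p ^ 2) :
    E ≤ K ∨ E ≤ centralizer (lcs G (n - 3) : Set G) := by
  by_contra e
  rw [not_or, ← subgroupOf_eq_top, ← subgroupOf_eq_top] at e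
  obtain ⟨x, h₁, h₂⟩ := exists_not_mem_two e.1 e.2
  exact hE x x.2 (hK.unif h h2 h4 h₁ h₂)

theorem tsr_le_of_norm {E : Subgroup G} {x : G} (hx : x ∉ K) (hxE : x ∈ normalizer (E : Set G))
    (hZ : lcs G (n - 2) ≤ E) (d : ℕ) : ∀ j, j + d + 2 = n → ∀ y ∈ E, y ∈ tsr K j →
      y ∉ tsr K (j + 1) → tsr K j ≤ E := by
  have := h.le
  induction d with
  | zero =>
    intro j hj y _ _ _
    rwa [tsr_of_pos K (by omega), show j = n - 2 by omega]
  | succ d ih =>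
    intro j hj y hy h₁ h₂
    refine hK.le_of_mem h h₁ h₂ hy ?_
    rcases d with _ | d
    · rwa [tsr_of_pos K (by omega), show j + 1 = n - 2 by omega]
    · exact ih (j + 1) (by omega) _ (comm_mem_of_mem_normalizer' hxE hy)
        ((hK.tsr_succ j).ge (commutator_mem_commutator h₁ trivial))
        (hK.comm_nm h h2 hx (by omega) h₁ h₂)

theorem exists_inf_eq {E : Subgroup G} {x : G} (hx : x ∉ K) (hxE : x ∈ normalizer (E : Set G))
    (hZ : lcs G (n - 2) ≤ E) : ∃ j, j + 2 ≤ n ∧ E ⊓ K = tsr K j := by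
  have := h.le
  obtain ⟨a, ha, h₁, h₂⟩ := hK.exists_min h (X := E ⊓ K) inf_le_right fun e =>
    h.ne (eq_bot_iff.2 (e ▸ le_inf hZ ((lcs_anti (by omega)).trans hK.le)))
  obtain ⟨y, hy, hy'⟩ := SetLike.not_le_iff_exists.1 h₂
  exact ⟨a, ha, h₁.antisymm (le_inf (hK.tsr_le_of_norm h h2 hx hxE hZ (n - 2 - a) a (by omega) y
    hy.1 (h₁ hy) hy') (hK.anti (Nat.zero_le a)))⟩

/-- Commutators with a subgroup not contained in `K`. -/
theorem comm_eq {C : Subgroup G} [C.Normal] (hC : ¬ C ≤ K) {j : ℕ} (hj : j + 4 ≤ n) :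
    ⁅tsr K j, C⁆ = tsr K (j + 1) := by
  obtain ⟨x, hx, hx'⟩ := SetLike.not_le_iff_exists.1 hC
  obtain ⟨y, hy, hy'⟩ := SetLike.exists_of_lt (hK.tsr_lt h (j := j) (by omega))
  haveI := hK.normal_tsr j
  have h₁ : ⁅tsr K j, C⁆ ≤ tsr K (j + 1) :=
    (commutator_mono le_rfl le_top).trans (hK.tsr_succ j).ge
  obtain ⟨i, hi, e⟩ := hK.exists_tsr_eq h (h₁.trans (hK.anti (Nat.zero_le _)))
  refine h₁.antisymm (e ▸ hK.anti (not_lt.1 fun e' => hK.comm_nm h h2 hx' hj hy hy' ?_))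
  exact hK.anti e' (e.le (commutator_mem_commutator hy hx))

theorem mem_of_commute {E : Subgroup G} {j : ℕ} (hj : j + 4 ≤ n) (hT : tsr K j ≤ E)
    (hE : ¬ E ≤ K) {y : G} (hy : ∀ x ∈ E, Commute y x) : y ∈ lcs G (n - 3) := by
  obtain ⟨x, hx, hx'⟩ := SetLike.not_le_iff_exists.1 hE
  have hyK : y ∈ K := by
    by_contra e
    obtain ⟨w, hw, hw'⟩ := SetLike.exists_of_lt (hK.tsr_lt h (j := j) (by omega))
    exact hK.comm_nm h h2 e hj hw hw' (by rw [(hy w (hT hw)).symm.commutator_eq]; exact one_mem _)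
  by_contra e
  obtain ⟨a, ha, h₁, h₂⟩ := hK.exists_pos hyK (j := n - 4)
    (by rwa [tsr_of_pos K (by omega), show n - 4 + 1 = n - 3 by omega])
  exact hK.comm_nm h h2 hx' (by omega) h₁ h₂ (by rw [(hy x hx).commutator_eq]; exact one_mem _)

end TwoStep

theorem MaxCl.lcs_one_le [Finite G] (h : MaxCl p n G) :
    lcs G 1 ≤ centralizer (lcs G (n - 3) : Set G) := fun x hx y hy =>
  (commutatorElement_eq_one_iff_commute.1 ((h.eq_bot (j := n - 3 + 1 + 1) (by omega)).le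
    (commutator_lcs _ _ (commutator_mem_commutator hy hx)))).eq

theorem MaxCl.index_cent [Finite G] (h : MaxCl p n G) (h4 : 4 ≤ n) :
    (centralizer (lcs G (n - 3) : Set G)).index = p := by
  have := h.index_centralizer_ucs h4
  rw [h.ucs_eq h4, show n - 1 - 2 = n - 3 by omega] at this
  refine (((Nat.dvd_prime hp.out).1 this).resolve_left fun e => ?_)
  have h₁ : lcs G (n - 3) ≤ center G := fun x hx => Subgroup.mem_center_iff.2 fun g =>
    ((index_eq_one.1 e).ge (mem_top g) x hx).symm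
  rw [h.center_eq, show n - 2 = n - 3 + 1 by omega] at h₁
  exact (lcs_lt h.isPGroup (h.ne_bot (by omega))).not_ge h₁

end Cfsg.Agent.Ess
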