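import Cfsg.Agent.Lib.MC.Cube
import Cfsg.Agent.Lib.Ess.Five2

/-!
Essential subgroups inside the centralizer of the second centre but not in the two-step centralizer.
-/

set_option autoImplicit false
set_option linter.style.haveILetI false
set_option linter.unusedVariables false
set_option linter.unusedSectionVars false

namespace Cfsg.Agent.Ess

open Subgroup Cfsg.Agent.Fus Cfsg.Agent.TwoGrp
open Cfsg.FusionSystem (normalizerIn centralizerIn)
open Cfsg.Agent.Fus2 (M afn img HomOn)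
open scoped commutatorElement

universe u

variable {G : Type u} [Group G] [Finite G] {p n : ℕ} [hp : Fact p.Prime] {K : Subgroup G}
  {F : FusionSystem (⊤ : Subgroup G)} {E : Subgroup G}

theorem Prl.card_le (h : Prl p E) : Nat.card E ≤ p ^ 3 := by
  rcases h with h | h
  exacts [h.le.trans (Nat.pow_le_pow_right hp.out.pos (by norm_num)), h.1.le]

theorem afn_comm' (α : MulAut E) {x y : G} (hx : x ∈ E) (hy : y ∈ E) :
    ⁅afn α x, y⁆ = afn α ⁅x, afn α⁻¹ y⁆ := by
  rw [afn_comm α hx (Fus2.afn_mem _ hy), Fus2.afn_afn_inv]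

theorem lt_normalizer_ess (hG : IsPGroup p G) (hF : F.IsSaturated p) (hE : F.IsEssential p E) :
    E < normalizer (E : Set G) := by
  obtain ⟨u, -, hu, hu'⟩ := exists_mem_normalizer_not_mem (hG.to_subgroup ⊤)
    (lt_of_isEssential (hG.to_subgroup ⊤) hF hE)
  exact lt_of_le_not_ge le_normalizer fun e => hu' (e hu)

theorem not_cube' (hF : F.IsSaturated p) (hK : TwoStep p K) (h : MaxCl p n G) (h5 : 5 ≤ p)
    (hn : 5 ≤ n) (hE : F.IsEssential p E) (hprl : ¬ Prl p E) : p ^ 4 ≤ Nat.card E := by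
  have hD := essData (h.isPGroup.to_subgroup ⊤) hF hE
  obtain ⟨k, hk⟩ := IsPGroup.iff_card.1 hD.hG
  by_contra hlt
  have hk4 : k < 4 := by
    by_contra e
    exact hlt (hk ▸ Nat.pow_le_pow_right hp.out.pos (by omega))
  obtain ⟨j, hj, hjk, -⟩ := hD.index_frattini_cases hk
  obtain rfl | rfl : k = 2 ∨ k = 3 := by omega
  · exact hprl (Or.inl hk)
  have hab : ∀ x y : E, Commute x y := by_contra fun e => hprl (Or.inr ⟨hk, e⟩)
  obtain ⟨m, rfl⟩ : ∃ m, n = m + 5 := ⟨n - 5, by omega⟩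
  refine not_cube hF hK h h5 hE hk (fun x hx y hy => congrArg Subtype.val (hab ⟨x, hx⟩ ⟨y, hy⟩).eq)
    fun x hx => ?_
  obtain ⟨-, e⟩ | ⟨-, -, e⟩ | ⟨e, -⟩ := hD.card_three hk
  exacts [congrArg Subtype.val (e ⟨x, hx⟩), congrArg Subtype.val (e ⟨x, hx⟩), by omega]

variable (hF : F.IsSaturated p) (hK : TwoStep p K) (h : MaxCl p n G) (h2 : p ≠ 2)
  (hE : F.IsEssential p E) (hEC : E ≤ centralizer (lcs G (n - 3) : Set G)) (hEK : ¬ E ≤ K) {j : ℕ}
  (hj : E ⊓ K = tsr K j)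
include hK h h2 hEC hEK hj

theorem inv_tsr_of (hj₂ : j + 4 ≤ n) (α : MulAut E) (d : ℕ) : ∀ i, i + d + 3 = n → j + 1 ≤ i →
    ∀ y ∈ tsr K i, afn α y ∈ tsr K i := by
  have hT : tsr K j ≤ E := hj.ge.trans inf_le_left
  obtain ⟨x, hx, hx'⟩ := SetLike.not_le_iff_exists.1 hEK
  induction d with
  | zero =>
    intro i hi hi' y hy
    obtain rfl : i = n - 3 := by omega
    have hyE := hT (hK.anti (by omega) hy)
    rw [tsr_of_pos K (by omega)] at hy ⊢
    refine hK.mem_of_commute h h2 hj₂ hT hEK fun e he => ?_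
    rw [← commutatorElement_eq_one_iff_commute, afn_comm' α hyE he,
      commutatorElement_eq_one_iff_commute.2 (hEC (Fus2.afn_mem _ he) y hy),
      (Fus2.homOn_afn α).map_one]
  | succ d ih =>
    intro i hi hi' y hy
    have hyE := hT (hK.anti (by omega) hy)
    have k₁ : ∀ e ∈ E, ⁅afn α y, e⁆ ∈ tsr K (i + 1) := fun e he => by
      rw [afn_comm' α hyE he]
      exact ih (i + 1) (by omega) (by omega) _
        ((hK.tsr_succ i).ge (commutator_mem_commutator hy trivial))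
    have k₂ : afn α y ∈ K := by
      by_contra e
      obtain ⟨u, hu, hu'⟩ := SetLike.exists_of_lt (hK.tsr_lt h (j := j) (by omega))
      exact hK.comm_nm h h2 e hj₂ hu hu' (comm_mem_symm (hK.anti (by omega) (k₁ u (hT hu))))
    by_contra e
    obtain ⟨i, rfl⟩ : ∃ k, i = k + 1 := ⟨i - 1, by omega⟩
    obtain ⟨a, ha, k₃, k₄⟩ := hK.exists_pos k₂ e
    exact hK.comm_nm h h2 hx' (by omega) k₃ k₄ (hK.anti (by omega) (k₁ x hx))

theorem inv_tsr_of' (hj₁ : 2 ≤ j) (hj₂ : j + 5 ≤ n) (α : MulAut E) {i : ℕ} (hi : j ≤ i)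
    (hi' : i + 3 ≤ n) {y : G} (hy : y ∈ tsr K i) : afn α y ∈ tsr K i := by
  have hT : tsr K j ≤ E := hj.ge.trans inf_le_left
  have key : ∀ (β : MulAut E) i, j + 1 ≤ i → i + 3 ≤ n → ∀ y ∈ tsr K i, afn β y ∈ tsr K i :=
    fun β i h₁ h₂ => inv_tsr_of hK h h2 hEC hEK hj (by omega) β (n - 3 - i) i (by omega) h₁
  rcases hi.eq_or_lt with rfl | hi
  swap
  · exact key α i hi hi' y hy
  refine hj.le ⟨Fus2.afn_mem α (hT hy), by_contra fun e => ?_⟩
  obtain ⟨u, hu, hu'⟩ := SetLike.exists_of_lt (hK.tsr_lt h (j := j + 1) (by omega))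
  refine hK.comm_nm h h2 e (by omega) hu hu' (comm_mem_symm ?_)
  rw [afn_comm' α (hT hy) (hT (hK.anti (by omega) hu))]
  have k₁ := comm_tsr_le K j (j + 1) (commutator_mem_commutator hy
    (key α⁻¹ (j + 1) le_rfl (by omega) u hu))
  by_cases e' : j + 6 ≤ n
  · exact key α _ (by omega) (by omega) _ (lcs_anti (by omega) k₁)
  · rw [h.eq_bot (by omega), mem_bot] at k₁
    rw [k₁, (Fus2.homOn_afn α).map_one]; exact one_mem _

include hF hE

theorem x1_chain (hj₁ : 2 ≤ j) (hj₂ : j + 5 ≤ n) : False := by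
  have hS := h.isPGroup.to_subgroup ⊤
  have hT : tsr K j ≤ E := hj.ge.trans inf_le_left
  obtain ⟨j, rfl⟩ : ∃ k, j = k + 1 := ⟨j - 1, by omega⟩
  obtain ⟨t, ht, ht'⟩ := SetLike.exists_of_lt (hK.tsr_lt h (j := j) (by omega))
  have k₀ : ∀ x, x⁻¹ * (t * x * t⁻¹) ∈ tsr K (j + 1) := fun x => by
    rw [inv_mul_conj_eq]
    exact comm_mem_symm ((hK.tsr_succ j).ge (commutator_mem_commutator ht trivial))
  have hN : t ∈ normalizer (E : Set G) := mem_normalizer_of_comm_mem fun x _ =>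
    hT ((hK.tsr_succ j).ge (commutator_mem_commutator ht trivial))
  have hI : ∀ i, j + 1 ≤ i → i + 3 ≤ n → Inv (F.autGroup E) ((tsr K i).subgroupOf E) :=
    fun i h₁ h₂ => inv_subgroupOf_iff.2 fun α _ y _ hy =>
      inv_tsr_of' hK h h2 hEC hEK hj hj₁ hj₂ α h₁ h₂ hy
  have hA : ({conjAut E t hN} : Set (MulAut E)) ⊆ F.autGroup E :=
    Set.singleton_subset_iff.2 (conjAut_mem_autGroup le_top trivial hN)
  have hc : ∀ i, j + 1 ≤ i → i + 3 ≤ n →
      Ctl p (ncl (F.autGroup E) {conjAut E t hN}) ⊤ ((tsr K i).subgroupOf E) := fun i h₁ h₂ => by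
    induction i, h₁ using Nat.le_induction with
    | base =>
      exact ctl_ncl_single le_top (inv_top _) (hI _ le_rfl h₂)
        (trivOn_conjAut_top_iff.2 fun x _ => k₀ x)
    | succ i hi ih =>
      haveI := hK.normal_tsr (i + 1)
      refine (ih (by omega)).trans_normal (h.isPGroup.to_subgroup E)
        ((hI _ (by omega) h₂).mono (ncl_le hA)) (ctl_ncl_single
          (subgroupOf_mono E (hK.anti (Nat.le_succ i))) (hI _ hi (by omega)) (hI _ (by omega) h₂)
          (trivOn_conjAut_iff.2 fun x _ hx => ?_))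
      rw [inv_mul_conj_eq]
      exact (hK.tsr_succ i).ge (commutator_mem_commutator (inv_mem hx) trivial)
  refine ht' (hj.le ⟨mem_of_ctl hS hF hE trivial hN ((hc (n - 3) (by omega) (by omega)).trans_bot
    (h.isPGroup.to_subgroup E) (ctl_ncl_single bot_le (hI _ (by omega) (by omega)) (inv_bot _)
      (trivOn_bot_iff.2 fun x hx => Subtype.ext ?_))), hK.anti (Nat.zero_le j) ht⟩)
  rw [coe_conjAut_apply, mul_inv_eq_iff_eq_mul]
  exact (h.lcs_one_le ((tsr_of_pos K le_rfl).le (hK.anti (by omega) ht)) x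
    ((tsr_of_pos K (by omega)).le hx)).symm

theorem x1_four (hj₁ : 2 ≤ j) (hj₂ : j + 4 = n) (hc : Nat.card E = p ^ 4)
    (hmax : ∀ E', F.IsEssential p E' → Nat.card E < Nat.card E' →
      Prl p E' ∨ E' = K ∨ E' = centralizer (lcs G (n - 3) : Set G)) : False := by
  have hS := h.isPGroup.to_subgroup ⊤
  have hT : tsr K j ≤ E := hj.ge.trans inf_le_left
  have hCK : ¬ centralizer (lcs G (n - 3) : Set G) ≤ K := fun e => hEK (hEC.trans e)
  have hexc := hK.exc_of h (by omega) hCK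
  obtain ⟨x, hx, hx'⟩ := SetLike.not_le_iff_exists.1 hEK
  obtain ⟨y, hy, hy'⟩ := SetLike.exists_of_lt (hK.tsr_lt h (j := j) (by omega))
  have hB := (essData hS hF hE).topSec_of_card_four hc fun e => hK.comm_nm h h2 hx' hj₂.le hy hy' (by
    rw [commutatorElement_eq_one_iff_commute.2 (congrArg Subtype.val (e ⟨y, hT hy⟩ ⟨x, hx⟩).eq)]
    exact one_mem _)
  have hlt := lt_normalizer_ess h.isPGroup hF hE
  have hx₀ : ExtTop F (normalizerIn ⊤ E) := extTop_of hS hF fun g hg E' hE' e => by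
    rw [normalizerIn_top] at e
    have k₁ : Nat.card E < Nat.card E' := (Fus2.card_lt_of_lt hlt).trans_le
      ((hg.mono le_top).card_img ▸ Subgroup.card_le_of_le (Fus2.img_le_iff.2 e))
    obtain k₂ | rfl | rfl := hmax E' hE' k₁
    · have := k₁.trans_le k₂.card_le
      rw [hc, Nat.pow_lt_pow_iff_right hp.out.one_lt] at this
      omega
    · obtain ⟨σ, hσ⟩ := exists_mulAut hg
      exact hx' (((hK.inv h (by omega) ⊤).mem_iff (mem_top σ)).1 (hσ x ▸ e x (le_normalizer hx)))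
    · obtain ⟨γ, hγ, hγ'⟩ := exists_not_ext hS hF hE'
      obtain ⟨σ, hσ, e'⟩ := ext_cent hF hK h h2 (by omega) rfl hCK (fun β hβ =>
        inv_lcs_one hK h h2 (by omega) rfl hCK hE.2.1 hEC hEK hj hj₁ (by omega) hβ) hγ
      exact hγ' (mem_extAut_of_M hS hF (lt_of_isEssential hS hF hE') hσ e')
  obtain ⟨σ₀, hσ₀, τ, e₁, e₂, e₃, -⟩ := exists_neg hS hF hE hB hx₀
  obtain ⟨σ, hσ⟩ := exists_mulAut (M_afn le_rfl hσ₀)
  have hz : ∀ u : E, u ∈ center E → (u : G) ∈ lcs G (n - 3) := fun u hu =>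
    hK.mem_of_commute h h2 hj₂.le hT hEK fun e he =>
      congrArg Subtype.val (Subgroup.mem_center_iff.1 hu ⟨e, he⟩).symm
  have k₀ : ∀ u ∈ E, u * σ u ∈ lcs G (n - 3) := fun u hu => by
    rw [hσ, e₁ ⟨u, hu⟩]; exact hz _ (e₂ ⟨u, hu⟩)
  obtain ⟨a, b, hw⟩ := hK.exists_wts h h2 (by omega) σ
  have k₁ : (-1 : ZMod p) = a := (sc_neg (hK.le (lcs_anti (by omega) (k₀ x hx)))
    (hK.pow_mem h x)).unique (hw.top x) hx' (hK.pow_mem h x)
  have k₂ : (-1 : ZMod p) = b * a ^ j := (sc_neg ((tsr_of_pos K (by omega)).ge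
    (lcs_anti (by omega) (k₀ y (hT hy)))) (hK.pow_mem_tsr h j y hy)).unique
      (hw.mid j (by omega) y hy) hy' (hK.pow_mem_tsr h j y hy)
  obtain ⟨z, hz₁, hz₂, hz₃⟩ := h.exists_gen
  have hz₄ : z ∈ center G := hz₃.le (mem_zpowers z)
  have k₃ : (1 : ZMod p) = b * (b * a ^ (n - 3)) := (sc_one (Y := ⊥) (by
    rw [hσ, e₁ ⟨z, center_le_ess hE hz₄⟩, e₃ _ (Subgroup.mem_center_iff.2 fun g =>
      Subtype.ext (Subgroup.mem_center_iff.1 hz₄ g)), inv_mul_cancel]
    exact one_mem _)).unique (hw.exc hexc z (h.center_eq.le hz₄)) hz₁ hz₂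
  have k₄ : Even j := by
    obtain ⟨k, hk⟩ := (hK.even h h2 (by omega) hexc).1
    exact ⟨k - 2, by omega⟩
  rw [show n - 3 = j + 1 by omega, pow_succ, ← mul_assoc b (a ^ j), ← k₂, ← k₁] at k₃
  rw [← k₁, k₄.neg_one_pow, mul_one] at k₂
  rw [← k₂] at k₃
  exact neg_ne_one h2 (by linear_combination -k₃)

omit h2 hj

theorem not_x1 (h5 : 5 ≤ p) (hn : 5 ≤ n) (hne : ¬ E.Normal) (hprl : ¬ Prl p E)
    (hmax : ∀ E', F.IsEssential p E' → Nat.card E < Nat.card E' →
      Prl p E' ∨ E' = K ∨ E' = centralizer (lcs G (n - 3) : Set G)) : False := by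
  have h2 : p ≠ 2 := by omega
  obtain ⟨x, hx, hx'⟩ := SetLike.not_le_iff_exists.1 hEK
  obtain ⟨j, hj', hj⟩ := hK.exists_inf_eq h h2 hx' (le_normalizer hx)
    (h.center_eq.ge.trans (center_le_ess hE))
  have hj₁ : 2 ≤ j := by
    by_contra e
    exact hne (Normal.of_commutator_le G (((tsr_of_pos K le_rfl).ge.trans
      (hK.anti (by omega))).trans (hj.ge.trans inf_le_left)))
  have hc : Nat.card E = p ^ (n - j) := by
    haveI := hK.normal
    have e := sup_eq_of_relIndex_prime' (p := p) (B := K ⊓ E) inf_le_right (by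
      rw [inf_relIndex_right]; exact hK.idx ▸ relIndex_dvd_index_of_normal K E) hx
      fun e => hx' e.1
    haveI := hK.normal_tsr j
    rw [inf_comm, hj] at e
    rw [← e, card_zpowers_sup (p := p) (by rw [normalizer_eq_top]; trivial)
      (hj.le ⟨_root_.pow_mem hx p, hK.pow_mem h x⟩) (fun e => hx' (hj.ge e).2), hK.card_tsr h
        (by omega), ← pow_succ]
    congr 1; omega
  have h₄ := not_cube' hF hK h h5 hn hE hprl
  rw [hc, Nat.pow_le_pow_iff_right hp.out.one_lt] at h₄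
  by_cases e : j + 4 = n
  · exact x1_four hF hK h h2 hE hEC hEK hj hj₁ e (by rw [hc]; congr 1; omega) hmax
  · exact x1_chain hF hK h h2 hE hEC hEK hj hj₁ (by omega)

end Cfsg.Agent.Ess
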