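import Cfsg.Agent.Lib.MC.X1

/-!
Essential subgroups inside the two-step centralizer: the exceptional case.
-/

set_option autoImplicit false
set_option linter.style.haveILetI false
set_option linter.unusedVariables false
set_option linter.unusedSectionVars false

namespace Cfsg.Agent.Ess

open Subgroup Cfsg.Agent.Fus Cfsg.Agent.TwoGrp
open Cfsg.FusionSystem (normalizerIn centralizerIn)
open Cfsg.Agent.Fus2 (M afn img HomOn)
open scoped commutatorElement

universe u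

variable {G : Type u} [Group G] [Finite G] {p n : ℕ} [hp : Fact p.Prime] {K : Subgroup G}
  {F : FusionSystem (⊤ : Subgroup G)} {E : Subgroup G} {z : G}

/-- Every automorphism of `E` in `F` fixing `z` is a product of extendable ones. -/
def NR (F : FusionSystem (⊤ : Subgroup G)) (E : Subgroup G) (z : G) : Prop :=
  ∀ β ∈ F.autGroup E, afn β z = z → β ∈ extAut F E

section Basic

variable (hG : IsPGroup p G) (hF : F.IsSaturated p) (hE : F.IsEssential p E)
include hG hF hE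

theorem conj_ext {g : G} (hg : g ∈ normalizer (E : Set G)) : conjAut E g hg ∈ extAut F E :=
  autInducedBy_le_extAut (lt_of_isEssential (hG.to_subgroup ⊤) hF hE)
    (conjAut_mem_autInducedBy (mem_top g) hg)

omit hF hE in
theorem conj_pow_eq {g : G} (hg : g ∈ normalizer (E : Set G)) :
    ∃ k, conjAut E g hg ^ p ^ k = 1 := by
  obtain ⟨k, hk⟩ := hG g
  refine ⟨k, ?_⟩
  rw [← conjAut_pow]
  exact MulEquiv.ext fun x => Subtype.ext (by simp [hk])

omit hG hF in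
theorem conj_not_Inn {g : G} (hg : g ∈ normalizer (E : Set G)) (h : g ∉ E) :
    conjAut E g hg ∉ Inn E := fun e => h ((mem_iff_conjAut_mem_Inn hE.1 trivial hg).1 e)

theorem mem_of_conj_ext {γ : MulAut E} (hγ : γ ∈ F.autGroup E) (hγ' : γ ∉ extAut F E) {g : G}
    (hg : g ∈ normalizer (E : Set G)) (h : γ⁻¹ * conjAut E g hg * γ ∈ extAut F E) : g ∈ E := by
  by_contra e
  obtain ⟨k, hk⟩ := conj_pow_eq hG hg
  exact hγ' (inv_mem_iff.1 (ext_mem (hG.to_subgroup ⊤) hF hE (inv_mem hγ) (conj_ext hG hF hE hg)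
    (conj_not_Inn hE hg e) hk (by rwa [inv_inv])))

theorem NR.mem (hz : z ∈ omZ p E) (hr : NR F E z) {γ : MulAut E} (hγ : γ ∈ F.autGroup E)
    (hγ' : γ ∉ extAut F E) {g : G} (hg : Commute g (afn γ z)) : g ∈ E := by
  by_contra e
  have hle : E ≤ centralizer {afn γ z} := fun x hx => mem_centralizer_singleton_iff.2 (by
    have := afn_commute γ (Fus2.afn_mem γ⁻¹ hx) hz.1 (hz.2.2 _ (Fus2.afn_mem γ⁻¹ hx)).symm
    rwa [Fus2.afn_afn_inv] at this)
  obtain ⟨t, ht, hN, ht'⟩ := exists_mem_normalizer_not_mem (hG.to_subgroup _)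
    (lt_of_le_not_ge hle fun e' => e (e' (mem_centralizer_singleton_iff.2 hg)))
  refine ht' (mem_of_conj_ext hG hF hE hγ hγ' hN (hr _ (mul_mem (mul_mem (inv_mem hγ)
    (conjAut_mem_autGroup le_top trivial hN)) hγ) ?_))
  rw [Fus2.afn_mul, Fus2.afn_mul, Fus2.afn_conjAut hN (Fus2.afn_mem γ hz.1),
    mem_centralizer_singleton_iff.1 ht, mul_inv_cancel_right, Fus2.afn_inv_afn]

/-- A transvection in the Sylow subgroup generates it modulo the inner automorphisms. -/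
theorem normalizer_eq_of_tv {t : G} (ht : t ∈ normalizer (E : Set G)) (hz : z ∈ center G)
    (hzE : z ∈ E) (htv : Tv p (conjAut E t ht) ⊤ ⟨z, hzE⟩) {γ : MulAut E} (hγ : γ ∈ F.autGroup E)
    (hγ' : γ ∉ extAut F E) (htE : t ∉ E) :
    (γ * conjAut E t ht * γ⁻¹) ⟨z, hzE⟩ ≠ ⟨z, hzE⟩ ∧ conjAut E t ht (γ ⟨z, hzE⟩) ≠ γ ⟨z, hzE⟩ ∧
      zpowers t ⊔ E = normalizer (E : Set G) := by
  have hS := hG.to_subgroup ⊤
  have hEp := hG.to_subgroup E
  set s := conjAut E t ht with hs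
  set y : E := ⟨z, hzE⟩
  have key : ∀ δ ∈ F.autGroup E, s (δ y) = δ y ∨ (δ * s * δ⁻¹) y = y → δ ∈ extAut F E :=
    fun δ hδ e => by_contra fun e' => by
      have h' := htv.conj (γ := δ) (fun _ _ => trivial) fun _ _ => trivial
      refine ext_pair hS hF hE hδ e' (conj_ext hG hF hE ht) (conj_ext hG hF hE ht)
        (conj_not_Inn hE ht htE) (conj_not_Inn hE ht htE) (Ctl.isPGroup ?_)
      exact e.elim (htv.ctl_of_fix hEp h') (htv.ctl_of_fix' hEp h')
  have e₁ : (γ * s * γ⁻¹) y ≠ y := fun e => hγ' (key γ hγ (Or.inr e))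
  have e₂ : s (γ y) ≠ γ y := fun e => hγ' (key γ hγ (Or.inl e))
  refine ⟨e₁, e₂, le_antisymm (sup_le (zpowers_le.2 ht) le_normalizer) fun g hg => ?_⟩
  have h' := htv.conj (γ := γ) (fun _ _ => trivial) fun _ _ => trivial
  have yc : y ∈ center E := Subgroup.mem_center_iff.2 fun x =>
    Subtype.ext (Subgroup.mem_center_iff.1 hz x)
  have wc : zpowers (γ y) ≤ center E := zpowers_le.2 (inv_char ⊤ _ γ trivial y yc)
  set c := (γ y)⁻¹ * s (γ y) with hc
  have c₁ : c ∈ zpowers y := htv.delta _ trivial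
  have c₂ : ∀ {g} (hg : g ∈ normalizer (E : Set G)), conjAut E g hg c = c := fun {g} hg =>
    (zpowers_le (H := fixSub _)).2 (Subtype.ext (by
      change g * z * g⁻¹ = z
      rw [Subgroup.mem_center_iff.1 hz g, mul_inv_cancel_right])) c₁
  have c₃ : c⁻¹ * (γ * s * γ⁻¹) c ≠ 1 := fun e => by
    have k := (eq_bot_or_eq_of_le_zpowers htv.pow (K := zpowers c) (zpowers_le.2 c₁)).resolve_left
      fun k => e₂ (inv_mul_eq_one.1 (mem_bot.1 (k.le (mem_zpowers c)))).symm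
    exact e₁ ((zpowers_le (H := fixSub _)).2 (inv_mul_eq_one.1 e).symm (k.ge (mem_zpowers y)))
  set a := (conjAut E g hg)⁻¹ (γ y)
  have c₄ := ((eq_bot_or_eq_of_le_zpowers h'.pow (K := zpowers _)
    (zpowers_le.2 (h'.delta c trivial))).resolve_left fun k =>
      c₃ (mem_bot.1 (k.le (mem_zpowers _)))).ge (inv_mem (h'.delta a trivial))
  obtain ⟨i, hi⟩ := (mem_powers_iff_mem_zpowers.2 c₄)
  have hN : g⁻¹ * t ^ i ∈ normalizer (E : Set G) := mul_mem (inv_mem hg) (_root_.pow_mem ht i)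
  have c₅ : conjAut E _ hN (γ y) = a * c ^ i := by
    rw [conjAut_mul (inv_mem hg) (_root_.pow_mem ht i), conjAut_pow ht, MulAut.mul_apply,
      pow_apply_of_fix (z := c) (by simp [hc, hs]) (c₂ ht), map_mul, map_pow, c₂, conjAut_inv]
  have c₆ : (γ * s * γ⁻¹) (a * c ^ i) = a * c ^ i := by
    have k₁ := (Subgroup.mem_center_iff.1 (wc (h'.delta c trivial)) c)
    rw [map_mul, map_pow, ← mul_inv_cancel_left c ((γ * s * γ⁻¹) c), Commute.mul_pow k₁]
    simp only at hi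
    rw [hi, Subgroup.mem_center_iff.1 (inv_mem (wc (h'.delta a trivial))) (c ^ i)]
    group
  have := mem_of_conj_ext hG hF hE hγ hγ' hN (key _ (mul_mem (mul_mem (inv_mem hγ)
    (conjAut_mem_autGroup le_top trivial hN)) hγ) (Or.inl (γ.injective (by
      simpa [c₅] using c₆))))
  simpa using mul_mem (mem_sup_left (npow_mem_zpowers t i)) (mem_sup_right (inv_mem this))

theorem exists_inv_of_tv {t : G} (ht : t ∈ normalizer (E : Set G)) (hz : z ∈ center G)
    (hzE : z ∈ E) (htv : Tv p (conjAut E t ht) ⊤ ⟨z, hzE⟩) (htE : t ∉ E) :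
    zpowers t ⊔ E = normalizer (E : Set G) ∧ ∃ f, M F (normalizer (E : Set G)) f ∧
      (∀ x ∈ normalizer (E : Set G), f x ∈ normalizer (E : Set G)) ∧ (f t)⁻¹ * t ∈ E ∧
      (∀ y ∈ E, Commute t y → y⁻¹ * f y ∈ zpowers z) ∧ f z = z⁻¹ := by
  have hS := hG.to_subgroup ⊤
  obtain ⟨γ, hγ, hγ'⟩ := exists_not_ext hS hF hE
  obtain ⟨e₁, e₂, hN⟩ := normalizer_eq_of_tv hG hF hE ht hz hzE htv hγ hγ' htE
  have h' := htv.conj (γ := γ) (fun _ _ => trivial) fun _ _ => trivial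
  obtain ⟨k, hk⟩ := conj_pow_eq hG ht
  have hA := conjAut_mem_autGroup (F := F) le_top (mem_top t) ht
  set s := conjAut E t ht with hs
  set y : E := ⟨z, hzE⟩
  have yc : y ∈ center E := Subgroup.mem_center_iff.2 fun x =>
    Subtype.ext (Subgroup.mem_center_iff.1 hz x)
  obtain ⟨τ, hτ, -, t₁, -, t₂⟩ := htv.exists_torus (hG.to_subgroup E) h' e₂ e₁
    (Subgroup.mem_center_iff.1 yc _).symm hk (n := k) (by rw [conj_pow, hk]; simp)
    (neg_ne_zero.2 one_ne_zero)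
  rw [neg_mul_neg, mul_one, ZMod.val_one, pow_one] at t₂
  rw [zp_neg htv.pow, zp_one htv.pow] at t₁
  have hτA : τ ∈ F.autGroup E := (closure_le _).2 (by
    rintro _ (rfl | rfl)
    exacts [hA, mul_mem (mul_mem hγ hA) (inv_mem hγ)]) hτ
  obtain ⟨f, hf, f₁, f₂⟩ := exists_ext_zpowers hS hF hE.1 hτA (g := t) (g' := t) ⟨trivial, ht⟩
    ⟨trivial, ht⟩ (by
      have : τ * s = s * τ := MulEquiv.ext fun x => t₂ x trivial
      rw [← hs, this, mul_inv_cancel_right, inv_mul_cancel]; exact one_mem _)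
  rw [sup_comm, hN] at hf
  refine ⟨hN, f, hf, fun x hx => ?_, f₂, fun x hx hc => ?_, ?_⟩
  · refine (hf.mono hN.le).homOn.mem_of_sup (fun x hx => ?_) (fun x hx => ?_) x (hN.ge hx)
    · obtain ⟨j, rfl⟩ := hx
      rw [hf.homOn.map_zpow ht]
      exact zpow_mem (by simpa using mul_mem ht (inv_mem (le_normalizer f₂))) j
    · exact le_normalizer (f₁ x hx ▸ Fus2.afn_mem τ hx)
  · have k₁ : s ⟨x, hx⟩ = ⟨x, hx⟩ := Subtype.ext (conj_eq_iff_commute.2 hc)
    have k₂ := trivOn_of_mem_closure (C := ⊤) (B := zpowers (γ y) ⊔ zpowers y) le_top (by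
      rintro _ (rfl | rfl)
      exacts [trivOn_mono htv.delta le_rfl le_sup_right, trivOn_mono h'.delta le_rfl le_sup_left])
      hτ ⟨x, hx⟩ trivial
    have k₃ := (eq_or_eq_of_relIndex_dvd (K := (zpowers (γ y) ⊔ zpowers y) ⊓ fixSub s)
      (le_inf le_sup_right (zpowers_le.2 htv.fix)) inf_le_left (relIndex_zpowers_sup_dvd
        (mem_normalizer_of_commute (by
          rintro _ ⟨j, rfl⟩; exact Commute.zpow_right (Subgroup.mem_center_iff.1 yc _) j))
        (by rw [h'.pow]; exact one_mem _))).resolve_right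
      fun e => e₂ (e.ge (mem_sup_left (mem_zpowers _))).2
    have := k₃.le ⟨k₂, mem_fixSub.2 (by rw [map_mul, map_inv, ← t₂ _ trivial, k₁])⟩
    rw [f₁ x hx, Fus2.afn_apply τ hx]
    exact mem_zpowers_mk_iff.1 this
  · rw [f₁ z hzE, Fus2.afn_apply τ hzE]
    exact congrArg Subtype.val t₁

end Basic

theorem not_x2 (hF : F.IsSaturated p) (hK : TwoStep p K) (h : MaxCl p n G) (h2 : p ≠ 2)
    (hE : F.IsEssential p E) (hEK : E ≤ K) (hne : ¬ E.Normal) (h4 : 4 ≤ n)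
    (hexc : ⁅K, lcs G (n - 3)⁆ ≠ ⊥) (hz : zpowers z = center G) (hzp : z ^ p = 1) (hz1 : z ≠ 1)
    (hr : NR F E z) : False := by
  have hG := h.isPGroup
  have hn := (hK.even h h2 h4 hexc).2
  have hZ : center G = lcs G (n - 2) := h.center_eq
  have hzc : z ∈ center G := hz.le (mem_zpowers z)
  have hzE := center_le_ess hE hzc
  have hzW : z ∈ omZ p E := ⟨hzE, hzp, fun y _ => (Subgroup.mem_center_iff.1 hzc y).symm⟩
  obtain ⟨γ, hγ, hγ'⟩ := exists_not_ext (hG.to_subgroup ⊤) hF hE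
  have hw := fun g => hr.mem hG hF hE hzW hγ hγ' (g := g)
  set w := afn γ z with hwd
  have wE : w ∈ E := Fus2.afn_mem γ hzE
  have wc : ∀ y ∈ E, Commute y w := fun y hy => by
    have := afn_commute γ (Fus2.afn_mem γ⁻¹ hy) hzE (hzW.2.2 _ (Fus2.afn_mem γ⁻¹ hy)).symm
    rwa [Fus2.afn_afn_inv] at this
  have wp : w ^ p = 1 := afn_pow_eq_one γ hzE hzp
  have wZ : w ∉ center G := fun e => hne (by
    rw [(eq_top_iff (a := E)).2 fun g _ => hw g (Subgroup.mem_center_iff.1 e g)]; infer_instance)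
  obtain ⟨i, -, hi, hi'⟩ := hK.exists_pos' h (hEK wE) fun e => wZ (e ▸ one_mem _)
  have hin : i + 3 ≤ n := by
    by_contra e
    exact wZ (hZ.ge ((tsr_of_pos K (by omega)).le (hK.anti (by omega) hi)))
  have hc : ∀ a b, n ≤ a + b + 2 → ∀ x ∈ tsr K a, ∀ y ∈ tsr K b, Commute x y :=
    fun a b hab x hx y hy => commutatorElement_eq_one_iff_commute.1
      ((h.eq_bot (by omega)).le (comm_tsr_le K a b (commutator_mem_commutator hx hy)))
  have hcZ : ∀ a b, n ≤ a + b + 3 → ∀ x ∈ tsr K a, ∀ y ∈ tsr K b, ⁅x, y⁆ ∈ zpowers z :=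
    fun a b hab x hx y hy => (hz.trans hZ).ge
      (lcs_anti (by omega) (comm_tsr_le K a b (commutator_mem_commutator hx hy)))
  have hT : ∀ a, n ≤ a + i + 2 → tsr K a ≤ E := fun a ha x hx => hw x (hc a i ha x hx w hi)
  have star : ∀ x ∈ E, (∀ y ∈ E, ⁅x, y⁆ ∈ zpowers z) → ∀ y ∈ E, Commute x y := fun x hx e => by
    have e' : ∀ y ∈ E, ⁅afn γ x, y⁆ ∈ zpowers w := fun y hy => by
      obtain ⟨k, hk⟩ := e _ (Fus2.afn_mem γ⁻¹ hy)
      exact ⟨k, by rw [afn_comm' γ hx hy, ← hk, (Fus2.homOn_afn γ).map_zpow hzE]⟩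
    intro y hy
    by_contra e₁
    have e₂ : ⁅afn γ x, afn γ y⁆ ≠ 1 := fun e₂ => e₁ (commutatorElement_eq_one_iff_commute.1
      (Fus2.afn_injective γ (by rw [afn_comm γ hx hy, e₂, (Fus2.homOn_afn γ).map_one])))
    obtain ⟨a, -, ha, ha'⟩ := hK.exists_pos' h (hEK (Fus2.afn_mem γ hx)) fun e₃ => e₂ (by simp [e₃])
    have e₃ : a + 1 ≤ i := by
      by_contra e₃
      exact hi' (hK.anti (by omega) (zpowers_le.2 ((hK.tsr_succ a).ge
        (commutator_mem_commutator ha trivial)) ((zpowers_eq_of_mem wp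
          (e' _ (Fus2.afn_mem γ hy)) e₂).ge (mem_zpowers w))))
    obtain ⟨u, hu, hu'⟩ := SetLike.exists_of_lt (hK.tsr_lt h (j := n - 3 - a) (by omega))
    refine hK.nonvan₂ h h2 h4 hexc (by omega) ha ha' hu hu'
      (commutatorElement_eq_one_iff_commute.1 (by_contra fun e₄ => wZ ?_))
    exact hz.le (zpowers_le.2 (hcZ _ _ (by omega) _ ha u hu) ((zpowers_eq_of_mem wp
      (e' u (hT _ (by omega) hu)) e₄).ge (mem_zpowers w)))
  have hEi : E ≤ tsr K i := by
    obtain ⟨j, -, hj, hj'⟩ := hK.exists_min h hEK fun e => hz1 (mem_bot.1 (e.le hzE))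
    refine hj.trans (hK.anti (not_lt.1 fun e => ?_))
    obtain ⟨y, hy, hy'⟩ := SetLike.not_le_iff_exists.1 hj'
    obtain ⟨u, hu, hu'⟩ := SetLike.exists_of_lt (hK.tsr_lt h (j := n - 3 - j) (by omega))
    exact hK.nonvan₂ h h2 h4 hexc (by omega) hu hu' (hj hy) hy' (star u (hT _ (by omega) hu)
      (fun x hx => hcZ _ _ (by omega) u hu x (hj hx)) y hy)
  have him : 2 * i + 4 ≤ n := by
    by_contra e
    exact hne ⟨fun x hx g => by
      simpa [commutatorElement_def] using mul_mem (hT _ (by omega) ((hK.tsr_succ i).ge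
        (comm_mem_symm (commutator_mem_commutator (hEi hx) (mem_top g))))) hx⟩
  obtain ⟨t, ht, ht'⟩ := SetLike.exists_of_lt (hK.tsr_lt h (j := n - 3 - i) (by omega))
  have hti : t ∈ tsr K (i + 1) := hK.anti (by omega) ht
  have hY : ∀ y ∈ E, Commute t y ↔ y ∈ tsr K (i + 1) := fun y hy =>
    ⟨fun e => by_contra fun e' => hK.nonvan₂ h h2 h4 hexc (by omega) ht ht' (hEi hy) e' e,
      hc _ _ (by omega) t ht y⟩
  have htE : t ∉ E := fun e => hi' ((hY w wE).1 (wc t e))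
  have htz : ∀ x ∈ E, ⁅x, t⁆ ∈ zpowers z := fun x hx => hcZ _ _ (by omega) x (hEi hx) t ht
  have hzE' : zpowers z ≤ E := zpowers_le.2 hzE
  have htN : t ∈ normalizer (E : Set G) :=
    mem_normalizer_of_comm_mem fun x hx => hzE' (comm_mem_symm (htz x hx))
  obtain ⟨hN, f, hf, f₁, f₂, f₃, f₄⟩ := exists_inv_of_tv hG hF hE htN hzc hzE
    (tv_conjAut htN hzE hzp (Subgroup.mem_center_iff.1 hzc t) htz) htE
  set N := normalizer (E : Set G) with hNd
  have hNi : N ≤ tsr K i := hN.ge.trans (sup_le (zpowers_le.2 (hK.anti (Nat.le_succ i) hti)) hEi)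
  obtain ⟨u, -, hu, hu'⟩ := exists_mem_normalizer_not_mem (hG.to_subgroup ⊤) (P := N)
    (lt_top_iff_ne_top.2 fun e => hne (normalizer_eq_top_iff.1 e))
  haveI := hK.normal_tsr (i + 1)
  have hnt : ∀ (X : Subgroup G) [X.Normal] (g : G), g ∈ normalizer (X : Set G) := fun X _ g => by
    rw [normalizer_eq_top]; trivial
  have hzn : (zpowers z).Normal := hz ▸ inferInstance
  have hzY : zpowers z ≤ E ⊓ tsr K (i + 1) :=
    zpowers_le.2 ⟨hzE, (hY z hzE).1 (Subgroup.mem_center_iff.1 hzc t)⟩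
  have hV : ∀ x, (∀ y ∈ N, ⁅y, x⁆ ∈ zpowers z) → x ∈ cMod N (zpowers z) := fun x e =>
    ⟨hnt _ x, fun y hy => by rw [inv_mul_conj_eq]; exact e _ (inv_mem hy)⟩
  have hgen : ∀ x, ⁅t, x⁆ ∈ zpowers z → (∀ y ∈ E, ⁅y, x⁆ ∈ zpowers z) →
      ∀ y ∈ N, ⁅y, x⁆ ∈ zpowers z := fun x e₁ e₂ y hy =>
    comm_mem_of_sup (fun g _ => hnt _ g) hN e₁ e₂ hy
  have hY' : E ⊓ tsr K (i + 1) = N ⊓ centralizer ((N ⊓ cMod N (zpowers z) : Subgroup G) : Set G) :=
    le_antisymm (fun y hy => ⟨le_normalizer hy.1, fun x hx => by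
      obtain ⟨k, e, he, rfl⟩ := (mem_zpowers_sup_iff htN).1 (hN.ge hx.1)
      have k₁ : e ∈ cMod N (zpowers z) := by
        simpa using mul_mem (inv_mem (zpow_mem (hV t (hgen t (by simp) htz)) k)) hx.2
      exact ((((hY y hy.1).2 hy.2).zpow_left k).mul_left (star e he (fun x hx => comm_mem_symm (by
        have := k₁.2 x⁻¹ (inv_mem (le_normalizer hx))
        rwa [inv_mul_conj_eq, inv_inv] at this)) y hy.1)).eq⟩)
      fun y hy => by
        have k₁ : y ∈ E := hw y (Commute.symm (hy.2 w ⟨le_normalizer wE, hV w (hgen w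
          (comm_mem_symm (htz w wE)) fun x hx => by rw [(wc x hx).commutator_eq]; exact one_mem _)⟩))
        exact ⟨k₁, (hY y k₁).1 (hy.2 t ⟨htN, hV t (hgen t (by simp) htz)⟩)⟩
  have iT : ∀ X : Subgroup G, X ≤ tsr K i → (X ⊓ tsr K (i + 1)).relIndex X ∣ p := fun X hX => by
    rw [inf_relIndex_left]
    exact relIndex_dvd_of_le' (hG.to_subgroup X) ((relIndex_le_of_le_right hX
      (ne_zero_of_dvd_ne_zero hp.out.ne_zero (hK.relIndex_dvd h i))).trans
        (Nat.le_of_dvd hp.out.pos (hK.relIndex_dvd h i)))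
  have iE : E.relIndex N ∣ p := hN ▸ relIndex_zpowers_sup_dvd htN
    (hT _ (by omega) (hK.pow_mem_tsr h _ t ht))
  have hYB : E ⊓ tsr K (i + 1) ≤ N ⊓ tsr K (i + 1) := inf_le_inf_right _ le_normalizer
  have iB : (E ⊓ tsr K (i + 1)).relIndex (N ⊓ tsr K (i + 1)) ∣ p := by
    rw [← inf_relIndex_right, inf_assoc, inf_left_comm (tsr K (i + 1)), inf_idem,
      inf_relIndex_right]
    exact relIndex_dvd_of_le' (hG.to_subgroup _) ((relIndex_le_of_le_right inf_le_left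
      (ne_zero_of_dvd_ne_zero hp.out.ne_zero iE)).trans (Nat.le_of_dvd hp.out.pos iE))
  have t₂ : ∀ y ∈ E ⊓ tsr K (i + 1), y⁻¹ * f y ∈ zpowers z := fun y hy =>
    f₃ y hy.1 ((hY y hy.1).2 hy.2)
  have hfB := img_le_of_fn hG hE.2.1 hf f₁ (Y := E ⊓ tsr K (i + 1)) (B := N ⊓ tsr K (i + 1))
    (fun x hx => by simpa using mul_mem hx (hzY (t₂ x hx))) hu
    (hY' ▸ mem_normalizer_inf hu (mem_normalizer_centralizer (mem_normalizer_inf hu
      (mem_normalizer_cMod hu (hnt _ u))))) (mem_normalizer_inf hu (hnt _ u)) hu' inf_le_left hYB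
    le_normalizer inf_le_left (iT E hEi) iB (iT N hNi) (fun e => hi' (e wE).2)
    (Fus2.card_lt_of_lt (lt_of_le_not_ge (fun g hg => mem_normalizer_inf (le_normalizer hg) (hnt _ g))
      fun e => hu' (e (mem_normalizer_inf hu (hnt _ u)))))
  obtain ⟨g, hg, g₁, g₂⟩ := exists_triv_mod h2 hG (hf.mono inf_le_left) hYB (hzY (mem_zpowers z))
    (fun x _ => Subgroup.mem_center_iff.1 hzc x) (triv_of_sup (hf.mono inf_le_left).homOn
      (fun x hx => mem_normalizer_inf hx.1 (hnt _ x))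
      (sup_eq_of_relIndex_prime' hYB iB ⟨htN, hti⟩ fun e => htE e.1)
      ⟨by simpa using inv_mem f₂, (tsr K _).mul_mem (inv_mem hti) (hfB t ⟨htN, hti⟩).2⟩
      fun y hy => hzY (t₂ y hy)) t₂ f₄
  obtain ⟨m, rfl⟩ : ∃ m, n = m + 5 := ⟨n - 5, by omega⟩
  have hL : lcs G (m + 1) ≤ N ⊓ tsr K (i + 1) := fun x hx =>
    ⟨mem_normalizer_of_comm_mem fun y hy => hzE' ((hz.trans hZ).ge (hK.comm_tsr₂ h h2 (i := m + 1)
      (j := 0) (by omega) (commutator_mem_commutator hx (hEK hy)))),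
      hK.anti (show i + 1 ≤ m + 1 by omega) hx⟩
  exact not_tv hF hK h h2 (hg.mono hL) (fun x hx => hz.le (g₁ x (hL hx))) hzc hz1 g₂

end Cfsg.Agent.Ess
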