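import Cfsg.Agent.Lib.MC.X2
import Cfsg.Agent.Lib.MC.Tor
import Cfsg.Agent.Lib.MC.Hom

/-!
Modules for automorphism groups of subgroups, and quadratic action in groups of maximal class.
-/

set_option autoImplicit false
set_option linter.style.haveILetI false
set_option linter.unusedVariables false
set_option linter.unusedSectionVars false

namespace Cfsg.Agent.Ess

open Subgroup Cfsg.Agent.Fus Cfsg.Agent.TwoGrp Module
open Cfsg.FusionSystem (normalizerIn centralizerIn)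
open Cfsg.Agent.Fus2 (M afn img HomOn)
open scoped commutatorElement

universe u v

variable {p : ℕ} [hp : Fact p.Prime]

theorem exists_aut_rep {G : Type u} [Group G] [Finite G] {E L D : Subgroup G}
    (hL : AI (⊤ : Subgroup (MulAut E)) L) (hD : AI (⊤ : Subgroup (MulAut E)) D)
    (hD' : phi p L ≤ D) :
    ∃ (V : Type u) (_ : AddCommGroup V) (_ : Module (ZMod p) V) (_ : Finite V)
      (ρ : MulAut E →* End (ZMod p) V) (π : G → V),
      Idn L D π ∧ ∀ α, ∀ x ∈ L, ρ α (π x) = π (afn α x) := by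
  classical
  obtain ⟨h₁, h₂⟩ := phi_le_iff.1 hD'
  haveI := normal_subgroupOf_of_phi_le hD'
  let _ : CommGroup (L ⧸ D.subgroupOf L) := { (inferInstance : Group (L ⧸ D.subgroupOf L)) with
    mul_comm := fun a b => by
      obtain ⟨a, rfl⟩ := QuotientGroup.mk_surjective a
      obtain ⟨b, rfl⟩ := QuotientGroup.mk_surjective b
      exact (mk_commute_iff (N := D.subgroupOf L).2 (h₂ a a.2 b b.2)).eq }
  obtain ⟨V, _, _, _, ρ, π, h₃, h₄, h₅, h₆⟩ := exists_rep_aux (p := p) (W := L ⧸ D.subgroupOf L)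
    (fun x => by
      obtain ⟨a, rfl⟩ := QuotientGroup.mk_surjective x
      exact (QuotientGroup.eq_one_iff (a ^ p)).2 (h₁ a a.2))
    (fun α : MulAut E => QuotientGroup.map _ _
      (((Fus2.homOn_afn α).mono hL.1).toHom.codRestrict L fun x => hL.2 α trivial x x.2)
      fun x hx => hD.2 α trivial x hx)
    (fun x => by
      obtain ⟨a, rfl⟩ := QuotientGroup.mk_surjective x
      exact congrArg QuotientGroup.mk (Subtype.ext (Fus2.afn_one _)))
    (fun g g' x => by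
      obtain ⟨a, rfl⟩ := QuotientGroup.mk_surjective x
      exact congrArg QuotientGroup.mk (Subtype.ext (Fus2.afn_mul _ _ _)))
  refine ⟨V, _, _, ‹_›, ρ, fun x => if h : x ∈ L then π (QuotientGroup.mk ⟨x, h⟩) else 0,
    ⟨fun x hx y hy => ?_, fun x hx => ?_, fun w => ?_⟩, fun g x hx => ?_⟩
  · simp only [dif_pos hx, dif_pos hy, dif_pos (mul_mem hx hy)]
    exact h₃ (QuotientGroup.mk ⟨x, hx⟩) (QuotientGroup.mk ⟨y, hy⟩)
  · simp only [dif_pos hx]
    exact (h₄ _).trans (QuotientGroup.eq_one_iff _)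
  · obtain ⟨x, rfl⟩ := h₅ w
    obtain ⟨a, rfl⟩ := QuotientGroup.mk_surjective x
    exact ⟨a, a.2, by simp only [dif_pos a.2]⟩
  · simp only [dif_pos hx, dif_pos (hL.2 g trivial x hx)]
    exact h₆ g _

theorem exists_faith {A R : Type*} [Group A] [Monoid R] (ρ : A →* R) :
    ∃ ρ' : A ⧸ ρ.ker →* R, Function.Injective ρ' ∧ ∀ a : A, ρ' a = ρ a :=
  ⟨QuotientGroup.lift _ ρ fun _ h => h, (injective_iff_map_eq_one _).2 fun a ha => by
    obtain ⟨a, rfl⟩ := QuotientGroup.mk_surjective a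
    exact (QuotientGroup.eq_one_iff a).2 ha, fun _ => rfl⟩

/-- A Frobenius group acting without free summand of the complement. -/
theorem frob {Y V : Type*} [Group Y] [Finite Y] [AddCommGroup V] [Module (ZMod p) V]
    (ρ : Y →* End (ZMod p) V) {R : Subgroup Y} [hn : R.Normal] (hR : ¬ p ∣ Nat.card R) {s : Y}
    (hs : s ^ p = 1) (hC : ∀ r ∈ R, Commute r s → r = 1) (hN : (ρ s - 1) ^ (p - 1) = 0) {r : Y}
    (hr : r ∈ R) : ρ r = 1 := by
  classical
  haveI := Fintype.ofFinite R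
  set T := ∑ x : R, ρ x with hT
  have h₁ : ∀ i ∈ Finset.range (p - 1),
      ∑ x : R, ρ x * ρ s ^ (i + 1) * ρ (x : Y)⁻¹ = T * ρ s ^ (i + 1) := fun i hi => by
    have hi' : ((i + 1 : ℕ) : ZMod p) ≠ 0 := fun e => by
      have := Nat.le_of_dvd (Nat.succ_pos i) ((ZMod.natCast_eq_zero_iff _ _).1 e)
      have := Finset.mem_range.1 hi
      omega
    let f : R → R := fun x => ⟨x * (s ^ (i + 1) * (x : Y)⁻¹ * (s ^ (i + 1))⁻¹),
      mul_mem x.2 (hn.conj_mem _ (inv_mem x.2) _)⟩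
    have hf : Function.Bijective f := Finite.injective_iff_bijective.1 fun x y e => by
      have e' := congrArg Subtype.val e
      simp only [f] at e'
      have k : Commute ((y : Y)⁻¹ * x) (s ^ (i + 1)) := by
        have : (y : Y)⁻¹ * x * s ^ (i + 1) = (y : Y)⁻¹ *
          (x * (s ^ (i + 1) * (x : Y)⁻¹ * (s ^ (i + 1))⁻¹)) * s ^ (i + 1) * x := by group
        rw [Commute, SemiconjBy, this, e']
        group
      have k' : s ∈ centralizer {(y : Y)⁻¹ * x} := MC.mem_of_pow_val_mem hs hi' (by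
        rw [ZMod.val_natCast, ← pow_eq_pow_mod _ hs]
        exact mem_centralizer_singleton_iff.2 k.eq.symm)
      exact Subtype.ext (inv_mul_eq_one.1 (hC _ (mul_mem (inv_mem y.2) x.2)
        (mem_centralizer_singleton_iff.1 k').symm)).symm
    rw [hT, Finset.sum_mul, ← hf.sum_comp fun x : R => ρ x * ρ s ^ (i + 1)]
    refine Finset.sum_congr rfl fun x _ => ?_
    simp only [f, ← map_pow, ← map_mul]
    congr 1
    group
  have h₂ : ∑ i ∈ Finset.range (p - 1), ρ s ^ (i + 1) = -1 := by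
    have := MC.geom_eq_pow (F := ZMod p) (p := p) (ρ s)
    have e := Finset.sum_range_succ' (fun c => ρ s ^ c) (p - 1)
    rw [Nat.sub_add_cancel hp.out.pos, this, hN, pow_zero] at e
    exact eq_neg_of_add_eq_zero_left e.symm
  have h₃ : T = (Nat.card R : ZMod p) • 1 := by
    have := Finset.sum_congr rfl h₁
    rw [← Finset.mul_sum, h₂, Finset.sum_comm] at this
    simp only [← Finset.sum_mul, ← Finset.mul_sum, h₂, mul_neg, neg_mul, mul_one, ← map_mul,
      mul_inv_cancel, map_one, Finset.sum_neg_distrib, neg_inj, Finset.sum_const,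
      Finset.card_univ] at this
    rw [← this, Nat.card_eq_fintype_card, Nat.cast_smul_eq_nsmul]
  have h₄ : ρ r * T = T := by
    rw [hT, Finset.mul_sum,
      ← (Group.mulLeft_bijective (⟨r, hr⟩ : R)).sum_comp fun x : R => ρ x]
    exact Finset.sum_congr rfl fun x _ => (map_mul _ _ _).symm
  rw [h₃, mul_smul_comm, mul_one] at h₄
  exact smul_right_injective _ (fun e => hR ((ZMod.natCast_eq_zero_iff _ _).1 e)) h₄

/-- The commutant of a nilpotent operator with one Jordan block is local. -/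
theorem local_of_fix {F V : Type*} [Field F] [AddCommGroup V] [Module F V] [Module.Finite F V]
    {N A : End F V} (hN : IsNilpotent N) {z : V} (hz : ∀ v, N v = 0 → ∃ c : F, v = c • z)
    (hz₀ : N z = 0) (hA : Commute A N) : ∃ c : F, IsNilpotent (A - c • 1) := by
  classical
  obtain ⟨c, hc⟩ := hz (A z) (by rw [← End.mul_apply, ← hA.eq, End.mul_apply, hz₀, map_zero])
  refine ⟨c, finrank F V, LinearMap.ext fun w => by_contra fun e => ?_⟩
  set B := A - c • 1 with hB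
  have h₁ : Commute B N := hA.sub_left ((Commute.one_left N).smul_left c)
  obtain ⟨k, hk⟩ := hN
  have h₂ : ∃ j, (N ^ j) ((B ^ finrank F V) w) = 0 := ⟨k, by rw [hk]; rfl⟩
  have h₃ := Nat.find_spec h₂
  obtain ⟨j, hj⟩ : ∃ j, Nat.find h₂ = j + 1 := Nat.exists_eq_succ_of_ne_zero fun e' => e (by
    rwa [e', pow_zero] at h₃)
  have h₄ := Nat.find_min h₂ (m := j) (by omega)
  rw [hj, pow_succ', End.mul_apply] at h₃
  obtain ⟨c', hc'⟩ := hz _ h₃
  have h₅ : ∀ d, (N ^ j) ((B ^ d) w) = (B ^ d) ((N ^ j) w) := fun d => by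
    rw [← End.mul_apply, ← (h₁.pow_pow d j).eq, End.mul_apply]
  refine h₄ ((h₅ _).trans (End.ker_pow_le_ker_pow_finrank B (finrank F V + 1) ?_))
  rw [LinearMap.mem_ker, pow_succ', End.mul_apply, ← h₅, hc', map_smul, hB, LinearMap.sub_apply,
    hc, LinearMap.smul_apply, End.one_apply, sub_self, smul_zero]

theorem mem_of_pair {A X : Type*} [Group A] [Group X] [Finite X] {q : A →* X}
    (hq : Function.Surjective q) {H : Subgroup A} (hk : q.ker ≤ H) {t γ : A} (ht : t ∈ H)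
    (hse : ∀ α, α * t * α⁻¹ ∈ H → α ∈ H)
    (h : IsPGroup p (closure {q t, q γ * q t * (q γ)⁻¹} : Subgroup X)) : γ ∈ H := by
  have hH : ∀ a, q a ∈ H.map q → a ∈ H := fun a ha => (comap_map_eq_self hk).le ha
  by_contra e
  obtain ⟨u, hU, hu, hu'⟩ := exists_mem_normalizer_not_mem h (P := _ ⊓ H.map q)
    (lt_of_le_not_ge inf_le_left fun e' => e (hse _ (hH _ (by
      rw [map_mul, map_mul, map_inv]; exact (e' (subset_closure (Or.inr rfl))).2))))
  obtain ⟨α, rfl⟩ := hq u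
  refine hu' ⟨hU, mem_map_of_mem q (hse α (hH _ ?_))⟩
  rw [map_mul, map_mul, map_inv]
  exact ((hu _).1 ⟨subset_closure (Or.inl rfl), mem_map_of_mem q ht⟩).2

variable {G : Type u} [Group G] [Finite G] {n : ℕ} {K : Subgroup G}

/-- The linear set-up on an elementary abelian term of the lower central series. -/
theorem TwoStep.exists_core' (hK : TwoStep p K) (h : MaxCl p n G) (h2 : p ≠ 2) (h4 : 4 ≤ n)
    (hne : ⁅K, lcs G (n - 3)⁆ = ⊥) {V : Type*} [AddCommGroup V] [Module (ZMod p) V] {i j d : ℕ}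
    (hi : 1 ≤ i) (hd : 1 ≤ d) (hdp : d < p) (hid : i + d + 1 = n) {π : G → V}
    (hπ : Idn (lcs G i) ⊥ π) {X : Type*} [Group X] [Finite X] {φ : G →* X}
    (hφ : tsr K (j + 1) ≤ φ.ker) (hidx : ¬ p ∣ φ.range.index) {ρ : X →* End (ZMod p) V}
    (hinj : Function.Injective ρ) (hρ : ∀ g, ∀ x ∈ lcs G i, ρ (φ g) (π x) = π (g * x * g⁻¹))
    {s t : G} (hs : s ∉ K) (ht : t ∈ tsr K j) (ht' : φ t ≠ 1) :
    ∃ v co, MC.Core ρ d v co φ.range (K.map φ) (φ s) (φ t) := by
  have hc : ∀ g, ∀ x ∈ lcs G i, (ρ (φ g) - 1) (π x) = π ⁅g, x⁆ := fun g x hx => by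
    rw [LinearMap.sub_apply, hρ g x hx, End.one_apply, commutatorElement_def,
      hπ.sub' ((inferInstance : (lcs G i).Normal).conj_mem x hx g) hx]
  have hL : ∀ a, lcs G (i + a) ≤ lcs G i := fun a => lcs_anti (by omega)
  have hpos := fun a ha => hK.pos_all h h2 hne (a + 1) a ha (Nat.lt_succ_self a)
  obtain ⟨y, hy, hy'⟩ := SetLike.exists_of_lt (lcs_lt h.isPGroup (h.ne_bot (j := i) (by omega)))
  obtain ⟨co, hreg, hfl⟩ := MC.exists_reg (N := ρ (φ s) - 1) (d := d)
    (Γ := fun a => hπ.gam p (lcs G (i + a))) (v₀ := π y)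
    (fun a b hab w ⟨x, hx, hx', e⟩ => ⟨x, lcs_anti (by omega) hx, hx', e⟩)
    (eq_top_iff.2 fun w _ => by
      obtain ⟨x, hx, rfl⟩ := hπ.surj w
      exact hπ.mem_gam hx hx)
    (eq_bot_iff.2 fun w ⟨x, hx, hx', e⟩ => e ▸ (hπ.zero x hx').2 ((h.eq_bot (by omega)).le hx))
    (by
      rintro a _ ⟨x, hx, hx', rfl⟩
      rw [hc s x hx']
      exact hπ.mem_gam (comm_mem_symm (comm_mem_lcs hx s))
        (hL (a + 1) (comm_mem_symm (comm_mem_lcs hx s))))
    (by
      rintro a ha _ ⟨x, hx, hx', rfl⟩ _ ⟨y, hy, hy', rfl⟩ hw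
      obtain ⟨m, hm⟩ := exists_pow_eig (p := p) (lcs_anti (Nat.le_succ _))
        (h.relIndex_dvd (by omega)) hy (fun e => hw (hπ.mem_gam e hy')) hx
      refine ⟨m, ?_⟩
      rw [← hπ.pow hy', ← hπ.sub hx' (_root_.pow_mem hy' m)]
      exact hπ.mem_gam hm (hL (a + 1) hm))
    (by
      rintro a ha _ ⟨x, hx, hx', rfl⟩ hw e
      rw [hc s x hx'] at e
      exact hK.comm_not_mem h hpos hs (j := i + a) (by omega)
        ((tsr_of_pos K (by omega)).ge hx)
        (fun e' => hw (hπ.mem_gam ((tsr_of_pos K (by omega)).le e') hx'))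
        (comm_mem_symm (hπ.mem_of_gam bot_le (hL (a + 1) (comm_mem_symm (comm_mem_lcs hx s))) e)))
    (fun e => hy' (hπ.mem_of_gam bot_le hy e))
  refine ⟨_, co, hinj, hreg, hdp, map_le_range φ K, ⟨s, rfl⟩, ?_, hidx, ?_, ?_,
    mem_map_of_mem φ (hK.anti (Nat.zero_le j) ht), ht', ?_⟩
  · rw [MonoidHom.range_eq_map]; exact (h.isPGroup.to_subgroup _).map φ
  · rintro _ ⟨k, hk, rfl⟩ a w hw
    rw [← hfl] at hw ⊢
    obtain ⟨x, hx, hx', rfl⟩ := hw
    rw [hc k x hx']
    exact hπ.mem_gam (hpos (i + a) (by omega) (commutator_mem_commutator hk hx))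
      (hL (a + 1) (comm_mem_symm (comm_mem_lcs hx k)))
  · rintro _ ⟨x, rfl⟩
    haveI := hK.normal
    obtain ⟨c, hc⟩ := exists_pow_eig (p := p) (X := ⊤) le_top
      (by rw [relIndex_top_right, hK.idx]) trivial hs (mem_top x)
    refine ⟨c, x * (s ^ c)⁻¹, ?_, by simp⟩
    simpa [mul_assoc] using hK.normal.conj_mem _ hc (s ^ c)
  · rintro _ ⟨x, rfl⟩
    rw [← commutatorElement_eq_one_iff_commute, ← map_commutatorElement]
    exact hφ ((hK.tsr_succ j).ge (commutator_mem_commutator ht trivial))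

/-- Quadratic action on an elementary abelian term. -/
theorem TwoStep.quad (hK : TwoStep p K) (h : MaxCl p n G) (h2 : p ≠ 2) (h4 : 4 ≤ n)
    (hne : ⁅K, lcs G (n - 3)⁆ = ⊥) {i m : ℕ} (hi : 1 ≤ i) (hip : n ≤ i + p)
    (hel : Elem p (lcs G i)) (hc : ∀ x ∈ tsr K (m + 2), ∀ y ∈ lcs G i, Commute x y) {t y : G}
    (ht : t ∈ tsr K (m + 1)) (hy : y ∈ lcs G i) : Commute t ⁅t, y⁆ := by
  have hy' : ⁅t, y⁆ ∈ lcs G i := lcs_anti (Nat.le_succ i) (comm_mem_symm (comm_mem_lcs hy t))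
  by_contra e
  have hin : i + 2 ≤ n := by
    by_contra e'
    rw [h.eq_bot (by omega), mem_bot] at hy'
    exact e (hy' ▸ Commute.one_right t)
  obtain ⟨V, _, _, _, ρ₀, π, h₁, h₂, h₃, h₄⟩ := exists_rep (p := p) (E := lcs G i) (D := ⊥)
    hel.phi_eq.le
  have hπ : Idn (lcs G i) ⊥ π := ⟨h₁, h₂, h₃⟩
  haveI : Module.Finite (ZMod p) V := Module.Finite.of_finite
  obtain ⟨ρ, hρ, h₅⟩ := exists_faith ρ₀
  set φ := QuotientGroup.mk' ρ₀.ker with hφ
  have h₆ : ∀ g, ∀ x ∈ lcs G i, (ρ (φ g) - 1) (π x) = π ⁅g, x⁆ := fun g x hx => by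
    rw [LinearMap.sub_apply, hφ, QuotientGroup.mk'_apply, h₅, h₄ g x hx, End.one_apply,
      commutatorElement_def, hπ.sub' ((inferInstance : (lcs G i).Normal).conj_mem x hx g) hx]
  have h₇ : (ρ (φ t) - 1) * (ρ (φ t) - 1) ≠ 0 := fun e' => e (by
    have := h₆ t _ hy'
    rw [← h₆ t y hy, ← End.mul_apply, e', LinearMap.zero_apply, eq_comm, hπ.zero _
      (lcs_anti (Nat.le_succ i) (comm_mem_symm (comm_mem_lcs hy' t)))] at this
    exact commutatorElement_eq_one_iff_commute.1 this)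
  have h₈ : φ t ≠ 1 := fun e' => h₇ (by rw [e', map_one, sub_self, mul_zero])
  have h₉ : tsr K (m + 2) ≤ φ.ker := fun x hx => hρ (by
    rw [map_one, ← sub_eq_zero]
    refine LinearMap.ext fun w => ?_
    obtain ⟨y, hy, rfl⟩ := h₃ w
    rw [h₆ x y hy, (hc x hx y hy).commutator_eq, hπ.one, LinearMap.zero_apply])
  have ht' : t ∉ tsr K (m + 2) := fun e' => h₈ (h₉ e')
  have hm : m + 3 ≤ n := by
    by_contra e'
    exact ht' ((bot_le.trans' (h.eq_bot (j := m + 1) (by omega)).le) ht)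
  obtain ⟨s, hs⟩ := hK.exists_not_mem
  obtain ⟨v, co, hcore⟩ := hK.exists_core' h h2 h4 hne (d := n - 1 - i) hi (by omega) (by omega)
    (by omega) hπ h₉ (by
      rw [MonoidHom.range_eq_top.2 (QuotientGroup.mk'_surjective _), index_top]
      exact hp.out.not_dvd_one) hρ (fun g x hx => by
      rw [hφ, QuotientGroup.mk'_apply, h₅, h₄ g x hx]) hs ht h₈
  obtain ⟨k, hk₁, hk₂, hk⟩ := hcore.exists_k
  obtain ⟨u, hu, hu'⟩ := SetLike.exists_of_lt (hK.tsr_lt h (j := m) (by omega))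
  have k₁ : ⁅u, s⁆ ∈ tsr K (m + 1) := (hK.tsr_succ m).ge (commutator_mem_commutator hu trivial)
  have k₂ : ⁅u, s⁆ ∉ tsr K (m + 2) := hK.comm_not_mem h
    (fun a ha => hK.pos_all h h2 hne (a + 1) a ha (Nat.lt_succ_self a)) hs hm hu hu'
  have := hcore.lt_two_mul hk (by omega) hk₂ (u := φ u) ⟨u, rfl⟩ (by
    have := mem_map_of_mem φ ((sup_eq_of_relIndex_prime' (hK.anti (Nat.le_succ _))
      (hK.relIndex_dvd h (m + 1)) ht ht').ge k₁)
    rwa [Subgroup.map_sup, MonoidHom.map_zpowers, (Subgroup.map_eq_bot_iff _).2 h₉, sup_bot_eq,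
      map_commutatorElement] at this)
    fun e' => h₈ (hK.le_of_mem h k₁ k₂ (E := φ.ker) (by
      rwa [MonoidHom.mem_ker, map_commutatorElement]) h₉ ht)
  exact h₇ (hcore.reg.eq_zero_of_dg (hk.1.mul hk.1) (by omega))

end Cfsg.Agent.Ess
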