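import Cfsg.Agent.Lib.MC.Y1

/-!
A maximal counterexample inside the two-step centralizer, in the nonexceptional case: the torus.
-/

set_option autoImplicit false
set_option linter.style.haveILetI false
set_option linter.unusedVariables false
set_option linter.unusedSectionVars false

namespace Cfsg.Agent.Ess

open Subgroup Cfsg.Agent.Fus Cfsg.Agent.TwoGrp Module
open Cfsg.FusionSystem (normalizerIn centralizerIn)
open Cfsg.Agent.Fus2 (M afn img HomOn)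
open scoped commutatorElement

universe u

variable {G : Type u} [Group G] [Finite G] {p n : ℕ} [hp : Fact p.Prime] {K E : Subgroup G}
  {F : FusionSystem (⊤ : Subgroup G)}

theorem TwoStep.pos_of_pow (hK : TwoStep p K) (h : MaxCl p n G) (h2 : p ≠ 2)
    (hne : ⁅K, lcs G (n - 3)⁆ = ⊥) {j : ℕ} {y : G} (hy : y ∈ tsr K j) (hy' : y ∉ tsr K (j + 1))
    (e : y ^ p = 1) : n ≤ j + p ∨ j = 0 ∧ n = p + 1 := by
  have hpos := fun a ha => hK.pos_all h h2 hne (a + 1) a ha (Nat.lt_succ_self a)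
  obtain ⟨x, hx⟩ := hK.exists_not_mem
  by_contra e'
  cases j with
  | zero => exact (hK.pow_not_mem h hpos (by omega) hy hy').2 (e ▸ one_mem _)
  | succ j =>
    exact pow_not_mem_lcs h.card h.le (hK.card_centralizer_le h hpos hx) (by omega) (by omega) hy
      hy' (e ▸ one_mem _)

theorem TwoStep.pow_eq_one (hK : TwoStep p K) (h : MaxCl p n G) (h2 : p ≠ 2)
    (hne : ⁅K, lcs G (n - 3)⁆ = ⊥) {j : ℕ} (hj : 1 ≤ j) (hj' : n ≤ j + p) {y : G}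
    (hy : y ∈ lcs G j) : y ^ p = 1 := by
  obtain ⟨x, hx⟩ := hK.exists_not_mem
  exact (h.eq_bot (by omega)).le (pow_mem_lcs h.card h.le (hK.card_centralizer_le h
    (fun a ha => hK.pos_all h h2 hne (a + 1) a ha (Nat.lt_succ_self a)) hx) hj hy)

/-- The deviation of `f` from raising to the power `c`. -/
def Dv (f : G → G) (c : ZMod p) (u : G) : G := (u ^ c.val)⁻¹ * f u

theorem Idn.inj {V : Type*} [AddCommGroup V] {L : Subgroup G} {π : G → V} (h : Idn L ⊥ π) {x y : G}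
    (hx : x ∈ L) (hy : y ∈ L) (e : π x = π y) : x = y :=
  (inv_mul_eq_one.1 ((h.zero _ (mul_mem (inv_mem hy) hx)).1 (by rw [h.sub hx hy, e, sub_self]))).symm

theorem Idn.dv {V : Type*} [AddCommGroup V] [Module (ZMod p) V] {L D : Subgroup G} {π : G → V}
    (h : Idn L D π) {f : G → G} {x : G} (hx : x ∈ L) (hf : f x ∈ L) (c : ZMod p) :
    Dv f c x ∈ L ∧ π (Dv f c x) = π (f x) - c • π x :=
  ⟨mul_mem (inv_mem (_root_.pow_mem hx _)) hf, by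
    rw [Dv, h.sub hf (_root_.pow_mem hx _), h.pow (p := p) hx, ZMod.natCast_zmod_val]⟩

/-- An element of the torus. -/
structure TD (F : FusionSystem (⊤ : Subgroup G)) (E : Subgroup G) (l : ZMod p) (κ : MulAut K) :
    Prop where
  mem : κ ∈ F.autGroup K
  inv : ∀ x ∈ E, afn κ x ∈ E
  f₁ : ∀ u ∈ omZ p E, Dv (afn κ) l (Dv (afn κ) l⁻¹ (Dv (afn κ) (1 : ZMod p) u)) = 1
  f₂ : ∀ u ∈ omZ p K, Dv (afn κ) l (Dv (afn κ) (1 : ZMod p) u) = 1
  f₃ : ∀ u ∈ omZ p E, Dv (afn κ) l⁻¹ (Dv (afn κ) (1 : ZMod p) u) ∈ ⁅K, K⁆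
  f₄ : l ≠ 1 → ∃ β ∈ F.autGroup E, β ∉ extAut F E ∧ ∀ u ∈ omZ p E, afn κ u = u → afn β u = u

/-- The configuration to be excluded. -/
structure Bad (p n : ℕ) (F : FusionSystem (⊤ : Subgroup G)) (K E : Subgroup G) : Prop where
  sat : F.IsSaturated p
  two : TwoStep p K
  mc : MaxCl p n G
  h5 : 5 ≤ p
  n5 : 5 ≤ n
  non : ⁅K, lcs G (n - 3)⁆ = ⊥
  ess : F.IsEssential p E
  lt : E < K
  max : ∀ E', F.IsEssential p E' → Nat.card E < Nat.card E' → E' = K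
  nr : ∀ E', F.IsEssential p E' → E' < K → ∀ z ∈ center G, z ≠ 1 → NR F E' z

namespace Bad

variable (h : Bad p n F K E)
include h

theorem h2 : p ≠ 2 := by have := h.h5; omega

theorem n4 : 4 ≤ n := by have := h.n5; omega

theorem hS : IsPGroup p (⊤ : Subgroup G) := h.mc.isPGroup.to_subgroup ⊤

theorem not_normal : ¬ E.Normal := fun hn => by
  have := h.n5
  rcases (normal_essential_top h.sat h.two h.mc h.h5 h.n4 h.ess).2 with e | e | e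
  exacts [h.lt.ne e, h.lt.ne (e.trans (h.two.cent_eq h.mc h.n4 h.non)), by omega]

theorem norm_le : normalizer (E : Set G) ≤ K := fun x hx => by_contra fun e => by
  obtain ⟨j, -, hj⟩ := h.two.exists_inf_eq h.mc h.h2 e hx
    (h.mc.center_eq.ge.trans (center_le_ess h.ess))
  rw [inf_eq_left.2 h.lt.le] at hj
  exact h.not_normal (hj ▸ h.two.normal_tsr j)

theorem exists_res {f : G → G} (hf : M F ⊤ f) :
    ∃ κ ∈ F.autGroup K, ∀ x ∈ K, afn κ x = f x := by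
  obtain ⟨σ, hσ⟩ := exists_mulAut hf
  exact (hf.mono le_top).exists_aut' fun x hx => hσ x ▸ h.two.inv h.mc h.n4 ⊤ σ trivial x hx

theorem extM {R : Subgroup G} (hR : R ≤ K) (hc : Nat.card E < Nat.card R) {f : G → G}
    (hf : M F R f) : ∃ κ ∈ F.autGroup K, ∀ x ∈ R, afn κ x = f x :=
  alperin_M h.hS h.sat (C := fun f => ∃ κ ∈ F.autGroup K, ∀ x ∈ R, afn κ x = f x)
    (fun f f' ⟨g, hg, e⟩ e' => ⟨g, hg, fun x hx => (e x hx).trans (e' x hx)⟩)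
    (fun _ => ⟨1, one_mem _, fun x _ => Fus2.afn_one x⟩)
    (fun f Q α hQ hα hf ⟨g, hg, e⟩ hfQ => by
      rcases hQ with rfl | hQ
      · obtain ⟨κ, hκ, e'⟩ := h.exists_res (M_afn le_rfl hα)
        exact ⟨κ * g, mul_mem hκ hg, fun x hx => by
          rw [Fus2.afn_mul, e' _ (Fus2.afn_mem g (hR hx)), e x hx]⟩
      · obtain rfl := h.max Q hQ (hc.trans_le (hf.card_img.ge.trans
          (Subgroup.card_le_of_le (Fus2.img_le_iff.2 hfQ))))
        exact ⟨α * g, mul_mem hα hg, fun x hx => by rw [Fus2.afn_mul, e x hx]⟩) hf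

theorem extK {α : MulAut E} (hα : α ∈ extAut F E) :
    ∃ κ ∈ F.autGroup K, ∀ x ∈ E, afn κ x = afn α x := by
  induction hα using closure_induction with
  | mem α hα =>
    obtain ⟨Q, hQ, φ, hφ, e⟩ := hα
    obtain ⟨g, hg, hN, hg'⟩ := exists_mem_normalizer_not_mem (h.mc.isPGroup.to_subgroup Q) hQ
    have hle : E ≤ Q ⊓ normalizer (E : Set G) := le_inf hQ.le le_normalizer
    obtain ⟨κ, hκ, e'⟩ := h.extM (inf_le_right.trans h.norm_le) (Fus2.card_lt_of_lt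
      (lt_of_le_not_ge hle fun e' => hg' (e' ⟨hg, hN⟩))) ((Fus2.M_fn hφ).mono inf_le_left)
    exact ⟨κ, hκ, fun x hx => by
      rw [e' x (hle hx), Fus2.fn_apply φ (hQ.le hx), Fus2.afn_apply α hx]; exact e ⟨x, hx⟩⟩
  | one => exact ⟨1, one_mem _, fun x _ => by rw [Fus2.afn_one, Fus2.afn_one]⟩
  | mul α β _ _ h₁ h₂ =>
    obtain ⟨κ, hκ, e⟩ := h₁
    obtain ⟨κ', hκ', e'⟩ := h₂
    exact ⟨κ * κ', mul_mem hκ hκ', fun x hx => by
      rw [Fus2.afn_mul, Fus2.afn_mul, e' x hx, e _ (Fus2.afn_mem β hx)]⟩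
  | inv α _ h₁ =>
    obtain ⟨κ, hκ, e⟩ := h₁
    exact ⟨κ⁻¹, inv_mem hκ, fun x hx => Fus2.afn_injective κ (by
      rw [Fus2.afn_afn_inv, e _ (Fus2.afn_mem _ hx), Fus2.afn_afn_inv])⟩

theorem img {g : MulAut K} (hg : g ∈ F.autGroup K) : Bad p n F K (img E (afn g)) := by
  have hM := M_afn (F := F) le_top hg
  have hE := hM.mono h.lt.le
  refine ⟨h.sat, h.two, h.mc, h.h5, h.n5, h.non, isEssential_of_isConj h.ess hE.isConj
    ⟨le_top, fun Q hQ => (h.ess.2.1.2 Q (isConj_trans hE.isConj hQ)).trans ?_⟩,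
    lt_of_le_of_ne (Fus2.img_le_iff.2 fun x hx => Fus2.afn_mem g (h.lt.le hx)) fun e =>
      (Fus2.card_lt_of_lt h.lt).ne (by rw [← hE.card_img, e]),
    fun E' hE' hc => h.max E' hE' (hE.card_img ▸ hc), h.nr⟩
  have hN : normalizerIn ⊤ E ≤ K := fun x hx => h.norm_le hx.2
  rw [← (hM.mono hN).card_img]
  exact Subgroup.card_le_of_le (Fus2.img_le_iff.2 fun x hx =>
    hM.mem_normalizerIn h.lt.le (hN hx) hx.2)

theorem conj_mem {β : MulAut E} (hβ : β ∈ extAut F E) {t : G} (ht : t ∈ normalizer (E : Set G)) :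
    β * conjAut E t ht * β⁻¹ ∈ autInducedBy ⊤ E := by
  obtain ⟨κ, hκ, e⟩ := h.extK hβ
  refine Fus2.mem_autInducedBy_iff.2 ⟨afn κ t, trivial, fun x hx => ?_⟩
  have hx' := Fus2.afn_mem β⁻¹ hx
  rw [Fus2.afn_mul, Fus2.afn_mul, Fus2.afn_conjAut ht hx', ← e _ ((ht _).1 hx'),
    (Fus2.homOn_afn κ).map_conj (h.norm_le ht) (h.lt.le hx'), e _ hx', Fus2.afn_afn_inv]

theorem omZ_le : omZ p K ≤ omZ p E := fun x hx =>
  ⟨mem_of_comm h.ess fun e he => hx.2.2 e (h.lt.le he), hx.2.1, fun y hy => hx.2.2 y (h.lt.le hy)⟩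

theorem exists_z : ∃ z ∈ omZ p K, z ∈ center G ∧ z ≠ 1 := by
  obtain ⟨z, h₁, h₂, h₃⟩ := h.mc.exists_gen
  have h₄ : z ∈ center G := h₃.le (mem_zpowers z)
  exact ⟨z, ⟨h.lt.le (center_le_ess h.ess h₄), h₂, fun y _ =>
    (Subgroup.mem_center_iff.1 h₄ y).symm⟩, h₄, h₁⟩

theorem exists_quad : ∃ t ∈ normalizer (E : Set G), t ∉ E ∧
    (∀ y ∈ omZ p E, Commute t ⁅t, y⁆) ∧ (p < 7 → ∀ y ∈ omZ p E, ⁅t, y⁆ ∈ center G) := by
  classical
  have hK := h.two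
  have hn := h.n5
  obtain ⟨z, hz, -, hz1⟩ := h.exists_z
  obtain ⟨i, hi, hW, hW'⟩ := hK.exists_min h.mc (X := omZ p E) (Ess.omZ_le.trans h.lt.le)
    fun e => hz1 (mem_bot.1 (e.le (h.omZ_le hz)))
  have hex : ∃ j, tsr K j ≤ E :=
    ⟨n - 2 + 1, (h.mc.eq_bot (j := n - 2 + 1) (by omega)).le.trans bot_le⟩
  obtain ⟨m, hm⟩ : ∃ m, Nat.find hex = m + 2 := by
    have := Nat.find_spec hex
    rcases e : Nat.find hex with _ | _ | m
    · rw [e] at this; exact absurd this h.lt.not_ge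
    · rw [e] at this; exact absurd (Normal.of_commutator_le G this) h.not_normal
    · exact ⟨m, rfl⟩
  have hT : tsr K (m + 2) ≤ E := hm ▸ Nat.find_spec hex
  obtain ⟨t, ht, ht'⟩ := SetLike.not_le_iff_exists.1 (Nat.find_min hex (m := m + 1) (by omega))
  have ht₂ : ∀ g, ⁅t, g⁆ ∈ tsr K (m + 2) := fun g =>
    (hK.tsr_succ _).ge (commutator_mem_commutator ht trivial)
  haveI := hK.normal
  haveI := hK.normal_tsr (m + 2)
  obtain ⟨j, -, hj⟩ := hK.exists_tsr_eq h.mc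
    (N := K ⊓ centralizer (tsr K (m + 2) : Set G)) inf_le_left
  have hWj : omZ p E ≤ tsr K j := fun x hx =>
    hj.le ⟨h.lt.le hx.1, fun y hy => (hx.2.2 y (hT hy)).eq.symm⟩
  have hc : ∀ x ∈ tsr K (m + 2), ∀ y ∈ tsr K i, Commute x y := fun x hx y hy =>
    (hj.ge (hK.anti (not_lt.1 fun e => hW' (hWj.trans (hK.anti e))) hy)).2 x hx
  obtain ⟨w, hw, hw'⟩ := SetLike.not_le_iff_exists.1 hW'
  have hpos := hK.pos_of_pow h.mc h.h2 h.non (hW hw) hw' hw.2.1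
  refine ⟨t, mem_normalizer_of_comm_mem fun x _ => hT (ht₂ x), ht', fun y hy => ?_,
    fun h7 y hy => ?_⟩
  · by_cases e : i ≤ m + 1
    · exact (hc _ (ht₂ y) t (hK.anti e ht)).symm
    have e' := tsr_of_pos K (i := i) (by omega)
    exact hK.quad h.mc h.h2 h.n4 h.non (i := i) (by omega) (by omega)
      ⟨fun a ha b hb => hc a (hK.anti (by omega) (e'.ge ha)) b (e'.ge hb),
        fun a ha => hK.pow_eq_one h.mc h.h2 h.non (by omega) (by omega) ha⟩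
      (fun a ha b hb => hc a ha b (e'.ge hb)) ht (e'.le (hW hy))
  · have h5 : p = 5 := by
      have := h.h5
      by_contra e
      exact absurd hp.out (by rw [show p = 6 by omega]; norm_num)
    by_cases e : n ≤ m + i + 5
    · exact h.mc.center_eq.ge (lcs_anti (j := m + 1 + i + 2) (by omega) (hK.comm_tsr h.mc
        (fun a ha => hK.pos_all h.mc h.h2 h.non (a + 1) a ha (Nat.lt_succ_self a)) (m + 1) i
        (commutator_mem_commutator ht (hW hy))))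
    obtain ⟨rfl, rfl⟩ : i = 0 ∧ m = 0 := by omega
    have k₁ : ⁅lcs G 2, K⁆ ≤ ⊥ := comm_le_bot_iff.2 hc
    have k₂ : ⁅⁅lcs G 1, K⁆, ⊤⁆ ≤ ⊥ := three_sub (by
      rw [hK.commutator_top]
      exact commutator_le_of_relIndex (lcs_anti one_le_two) (h.mc.relIndex_dvd le_rfl)
        ((commutator_mono le_rfl hK.le).trans k₁)) (by rwa [commutator_comm ⊤])
    exact Subgroup.mem_center_iff.2 fun g => (comm_le_bot_iff.1 k₂ _
      (commutator_mem_commutator ht (hW hy)) g trivial).eq.symm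

theorem exists_td : ∃ κ : ZMod p → MulAut K, (∀ l, l ≠ 0 → TD F E l (κ l)) ∧
    ∀ u ∈ omZ p K, (u⁻¹ * afn (κ 2) u)⁻¹ * afn (κ 2) (u⁻¹ * afn (κ 2) u) = u⁻¹ * afn (κ 2) u ∧
      (p < 7 → u⁻¹ * afn (κ 2) u ∈ center G) ∧
      ∀ l, l ≠ 0 → afn (κ l) u = u * (u⁻¹ * afn (κ 2) u) ^ (l - 1).val := by
  have hG := h.mc.isPGroup
  obtain ⟨t, ht, htE, hq, h7⟩ := h.exists_quad
  have hW : AI (⊤ : Subgroup (MulAut E)) (omZ p E) := ai_self.omZ
  obtain ⟨V, _, _, _, ρ₀, π, hπ, h₀⟩ := exists_aut_rep hW ai_bot elem_omZ.phi_eq.le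
  haveI : Module.Finite (ZMod p) V := Module.Finite.of_finite
  obtain ⟨ρ, hρ, h₁⟩ := exists_faith (ρ₀.comp (F.autGroup E).subtype)
  set q := QuotientGroup.mk' (ρ₀.comp (F.autGroup E).subtype).ker with hq'
  have hqs : Function.Surjective q := QuotientGroup.mk'_surjective _
  have h₂ : ∀ a : F.autGroup E, ∀ x ∈ omZ p E, ρ (q a) (π x) = π (afn a.1 x) := fun a x hx => by
    rw [← h₀ _ x hx]; exact congrArg (· (π x)) (h₁ a)
  let s : F.autGroup E := ⟨conjAut E t ht, conjAut_mem_autGroup le_top trivial ht⟩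
  have h₃ : ∀ x ∈ omZ p E, ⁅t, x⁆ ∈ omZ p E ∧ (ρ (q s) - 1) (π x) = π ⁅t, x⁆ := fun x hx => by
    have := hW.2 s trivial x hx
    rw [Fus2.afn_conjAut ht hx.1] at this
    refine ⟨mul_mem this (inv_mem hx), ?_⟩
    rw [LinearMap.sub_apply, h₂ s x hx, Fus2.afn_conjAut ht hx.1, End.one_apply,
      commutatorElement_def, hπ.sub' this hx]
  have hQ : MC.Qd ρ (q s) := LinearMap.ext fun w => by
    obtain ⟨x, hx, rfl⟩ := hπ.surj w
    rw [End.mul_apply, (h₃ x hx).2, (h₃ _ (h₃ x hx).1).2, (hq x hx).commutator_eq, hπ.one,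
      LinearMap.zero_apply]
  obtain ⟨z, hz, hzc, hz1⟩ := h.exists_z
  obtain ⟨k, hk⟩ := conj_pow_eq hG ht
  have h₄ : ∀ γ : F.autGroup E, IsPGroup p (closure {q s, q γ * q s * (q γ)⁻¹} : Subgroup _) ↔
      γ.1 ∈ extAut F E := fun γ => ⟨mem_of_pair hqs (H := (extAut F E).subgroupOf _)
    (fun a ha => h.nr E h.ess h.lt z hzc hz1 a a.2 (hπ.inj (hW.2 _ trivial z (h.omZ_le hz))
      (h.omZ_le hz) (by rw [← h₂ a z (h.omZ_le hz), MonoidHom.mem_ker.1 ha, map_one]; rfl)))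
    (conj_ext hG h.sat h.ess ht) fun α => ext_mem h.hS h.sat h.ess α.2 (conj_ext hG h.sat h.ess ht)
      (conj_not_Inn h.ess ht htE) hk, fun hγ =>
    (((isPGroup_autInducedBy h.hS E).comap_subtype (K := F.autGroup E)).map q).to_le
      ((closure_le _).2 (by
        rintro _ (rfl | rfl)
        exacts [mem_map_of_mem q (x := s) (conjAut_mem_autInducedBy (mem_top t) ht),
          ⟨γ * s * γ⁻¹, h.conj_mem hγ ht, by rw [map_mul, map_mul, map_inv]⟩]))⟩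
  obtain ⟨γ, hγ, hγ'⟩ := exists_not_ext h.hS h.sat h.ess
  obtain ⟨y, c, hy⟩ := MC.exists_QP h.h2 hρ hQ (mt (h₄ ⟨γ, hγ⟩).1 hγ')
  obtain ⟨e₁, e₂, h11, h22, h12, h21, k₂, k₁, hτ, β, hβ, hβ'⟩ := hy.torus h.h2 hρ hQ
  replace h11 : ∀ v, e₁ (e₁ v) = e₁ v := fun v => congrArg (· v) h11
  replace h22 : ∀ v, e₂ (e₂ v) = e₂ v := fun v => congrArg (· v) h22
  replace h12 : ∀ v, e₁ (e₂ v) = 0 := fun v => congrArg (· v) h12
  replace h21 : ∀ v, e₂ (e₁ v) = 0 := fun v => congrArg (· v) h21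
  obtain ⟨β, rfl⟩ := hqs β
  have h₅ : ∀ l : ZMod p, ∃ κ : MulAut K, l ≠ 0 → κ ∈ F.autGroup K ∧ (∀ x ∈ E, afn κ x ∈ E) ∧
      ∀ x ∈ omZ p E, afn κ x ∈ omZ p E ∧
        π (afn κ x) = π x + (l - 1) • e₁ (π x) + (l⁻¹ - 1) • e₂ (π x) := fun l => by
    by_cases hl : l = 0
    · exact ⟨1, fun e => absurd hl e⟩
    obtain ⟨τ, h₆, h₇⟩ := hτ l hl
    obtain ⟨τ, rfl⟩ := hqs τ
    obtain ⟨κ, hκ, e⟩ := h.extK ((h₄ τ).1 h₇)
    refine ⟨κ, fun _ => ⟨hκ, fun x hx => e x hx ▸ Fus2.afn_mem _ hx, fun x hx => ?_⟩⟩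
    rw [e x hx.1, ← h₂ τ x hx, h₆]
    exact ⟨hW.2 _ trivial x hx, rfl⟩
  choose κ hκ using h₅
  have h₆ : ∀ u ∈ omZ p K, e₂ (π u) = 0 := fun u hu => k₂ _ (by
    rw [(h₃ u (h.omZ_le hu)).2, (hu.2.2 t (h.norm_le ht)).symm.commutator_eq, hπ.one])
  have h₇ : ∀ (c : ZMod p) (v : V), ∃ u ∈ omZ p E, ⁅t, u⁆ ∈ omZ p E ∧ π ⁅t, u⁆ = c • e₁ v :=
    fun c v => by
      obtain ⟨w, hw⟩ := k₁ (c • v)
      obtain ⟨u, hu, rfl⟩ := hπ.surj w
      exact ⟨u, hu, (h₃ u hu).1, by rw [← (h₃ u hu).2, ← hw, map_smul]⟩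
  refine ⟨κ, fun l hl => ?_, fun u hu => ?_⟩
  · obtain ⟨m₁, m₂, m₃⟩ := hκ l hl
    have d := fun x hx c => hπ.dv (p := p) hx (m₃ x hx).1 c
    have m₄ : ∀ u ∈ omZ p E, π (Dv (afn (κ l)) l⁻¹ (Dv (afn (κ l)) (1 : ZMod p) u)) =
        ((l - 1) * (l - l⁻¹)) • e₁ (π u) := fun u hu => by
      simp only [(d _ (d u hu 1).1 _).2, (m₃ _ (d u hu 1).1).2, (d u hu 1).2, (m₃ u hu).2, map_add,
        map_sub, map_smul, h11, h12, h21, h22]
      module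
    refine ⟨m₁, m₂, fun u hu => ?_, fun u hu => ?_, fun u hu => ?_, fun hl' =>
      ⟨β, β.2, mt (h₄ β).2 hβ', fun u hu e => ?_⟩⟩
    · have m₅ := (d _ (d u hu 1).1 l⁻¹).1
      refine (hπ.zero _ (d _ m₅ l).1).1 ?_
      simp only [(d _ m₅ l).2, (m₃ _ m₅).2, m₄ u hu, map_smul, h11, h21]
      module
    · have hu' := h.omZ_le hu
      refine (hπ.zero _ (d _ (d u hu' 1).1 l).1).1 ?_
      simp only [(d _ (d u hu' 1).1 _).2, (m₃ _ (d u hu' 1).1).2, (d u hu' 1).2, (m₃ u hu').2,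
        map_add, map_sub, map_smul, h11, h12, h21, h22, h₆ u hu, map_zero]
      module
    · obtain ⟨w, hw, w₁, w₂⟩ := h₇ ((l - 1) * (l - l⁻¹)) (π u)
      rw [hπ.inj (d _ (d u hu 1).1 l⁻¹).1 w₁ ((m₄ u hu).trans w₂.symm)]
      exact commutator_mem_commutator (h.norm_le ht) (h.lt.le hw.1)
    · have m₅ := (m₃ u hu).2
      rw [e, add_assoc, left_eq_add] at m₅
      have m₆ := congrArg e₁ m₅
      have m₇ := congrArg e₂ m₅
      simp only [map_add, map_smul, h11, h12, h21, h22, smul_zero, add_zero, zero_add, map_zero,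
        smul_eq_zero, sub_eq_zero, inv_eq_one, hl', false_or] at m₆ m₇
      exact hπ.inj (hW.2 _ trivial u hu) hu ((h₂ β u hu).symm.trans (hβ _ m₆ m₇))
  · have hu' := h.omZ_le hu
    obtain ⟨-, -, m₃⟩ := hκ 2 (two_ne_zero_of_ne_two h.h2)
    have m₁ : u⁻¹ * afn (κ 2) u ∈ omZ p E := mul_mem (inv_mem hu') (m₃ u hu').1
    have m₂ : π (u⁻¹ * afn (κ 2) u) = e₁ (π u) := by
      rw [hπ.sub (m₃ u hu').1 hu', (m₃ u hu').2, h₆ u hu]
      module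
    refine ⟨hπ.inj (mul_mem (inv_mem m₁) (m₃ _ m₁).1) m₁ ?_, fun e => ?_, fun l hl => ?_⟩
    · rw [hπ.sub (m₃ _ m₁).1 m₁, (m₃ _ m₁).2, m₂, h11, h21]
      module
    · obtain ⟨w, hw, w₁, w₂⟩ := h₇ 1 (π u)
      rw [hπ.inj m₁ w₁ (by rw [m₂, w₂, one_smul])]
      exact h7 e w hw
    · obtain ⟨-, -, m₄⟩ := hκ l hl
      refine hπ.inj (m₄ u hu').1 (mul_mem hu' (_root_.pow_mem m₁ _)) ?_
      rw [(m₄ u hu').2, hπ.add _ hu' _ (_root_.pow_mem m₁ _), hπ.pow (p := p) m₁, m₂, h₆ u hu,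
        ZMod.natCast_zmod_val, smul_zero, add_zero]

theorem td_conj {l : ZMod p} {κ g : MulAut K} (hκ : TD F E l κ) (hg : g ∈ F.autGroup K) :
    TD F (Fus2.img E (afn g)) l (g * κ * g⁻¹) := by
  have hM := M_afn (F := F) le_top hg
  have hE := hM.mono h.lt.le
  have h₁ : ∀ x, afn (g * κ * g⁻¹) (afn g x) = afn g (afn κ x) := fun x => by
    rw [Fus2.afn_mul, Fus2.afn_mul, Fus2.afn_inv_afn]
  have h₂ : ∀ (c : ZMod p), ∀ x ∈ K, Dv (afn κ) c x ∈ K ∧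
      Dv (afn (g * κ * g⁻¹)) c (afn g x) = afn g (Dv (afn κ) c x) := fun c x hx =>
    ⟨mul_mem (inv_mem (_root_.pow_mem hx _)) (Fus2.afn_mem κ hx), by
      rw [Dv, Dv, h₁, afn_mul' g (inv_mem (_root_.pow_mem hx _)) (Fus2.afn_mem κ hx),
        afn_inv' g (_root_.pow_mem hx _), afn_pow g hx]⟩
  have h₃ : ∀ u ∈ omZ p (Fus2.img E (afn g)), ∃ x ∈ omZ p E, afn g x = u := fun u hu => by
    obtain ⟨x, hx, rfl⟩ := hE.mem_img.1 hu.1
    refine ⟨x, ⟨hx, (afn_eq_one_iff g).1 (by rw [afn_pow g (h.lt.le hx), hu.2.1]), fun y hy => ?_⟩,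
      rfl⟩
    have := afn_commute g⁻¹ (Fus2.afn_mem g (h.lt.le hx)) (Fus2.afn_mem g (h.lt.le hy))
      (hu.2.2 _ (Fus2.mem_img_of_mem _ hy))
    rwa [Fus2.afn_inv_afn, Fus2.afn_inv_afn] at this
  refine ⟨mul_mem (mul_mem hg hκ.mem) (inv_mem hg), fun u hu => ?_, fun u hu => ?_,
    fun u hu => ?_, fun u hu => ?_, fun hl => ?_⟩
  · obtain ⟨x, hx, rfl⟩ := hE.mem_img.1 hu
    exact h₁ x ▸ Fus2.mem_img_of_mem _ (hκ.inv x hx)
  · obtain ⟨x, hx, rfl⟩ := h₃ u hu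
    have k := h₂ 1 x (h.lt.le hx.1)
    rw [k.2, (h₂ _ _ k.1).2, (h₂ _ _ (h₂ _ _ k.1).1).2, hκ.f₁ x hx, (Fus2.homOn_afn g).map_one]
  · have hx := (ai_self (A := ⊤)).omZ.2 g⁻¹ trivial u hu
    have k := h₂ 1 _ hx.1
    rw [← Fus2.afn_afn_inv g u, k.2, (h₂ _ _ k.1).2, hκ.f₂ _ hx, (Fus2.homOn_afn g).map_one]
  · obtain ⟨x, hx, rfl⟩ := h₃ u hu
    have k := h₂ 1 x (h.lt.le hx.1)
    rw [k.2, (h₂ _ _ k.1).2]
    exact afn_mem_commutator g (hκ.f₃ x hx)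
  · obtain ⟨β, hβ, hβ', e⟩ := hκ.f₄ hl
    have k := fun x hx => Fus2.afn_congr (hE.equiv rfl) (f := afn g) (fun _ => rfl) β (x := x) hx
    refine ⟨_, (hE.isIso rfl).congr_mem hβ, fun e' => hβ' ?_, fun u hu e' => ?_⟩
    · obtain ⟨δ, hδ, e''⟩ := (h.img hg).extK e'
      refine mem_extAut_of_M h.hS h.sat h.lt
        (M_afn le_top (mul_mem (mul_mem (inv_mem hg) hδ) hg)) fun x hx => ?_
      rw [Fus2.afn_mul, Fus2.afn_mul, e'' _ (Fus2.mem_img_of_mem _ hx), k x hx, Fus2.afn_inv_afn]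
    · obtain ⟨x, hx, rfl⟩ := h₃ u hu
      rw [k x hx.1, e x hx (Fus2.afn_injective g ((h₁ x).symm.trans e'))]

end Bad

end Cfsg.Agent.Ess
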