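import Cfsg.Agent.Lib.MC.Y2

/-!
The nonexceptional case: the torus extends to the whole group, and its weights are impossible.
-/

set_option autoImplicit false
set_option linter.style.haveILetI false
set_option linter.unusedVariables false
set_option linter.unusedSectionVars false

namespace Cfsg.Agent.Ess

open Subgroup Cfsg.Agent.Fus Cfsg.Agent.TwoGrp Module
open Cfsg.FusionSystem (normalizerIn centralizerIn)
open Cfsg.Agent.Fus2 (M afn img HomOn)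
open scoped commutatorElement

universe u

variable {G : Type u} [Group G] [Finite G] {p n : ℕ} [hp : Fact p.Prime] {K E : Subgroup G}
  {F : FusionSystem (⊤ : Subgroup G)}

theorem exists_prim : ∃ l : ZMod p, l ≠ 0 ∧ ∀ r, 0 < r → r + 1 < p → l ^ r ≠ 1 := by
  obtain ⟨g, hg⟩ := IsCyclic.exists_ofOrder_eq_natCard (α := (ZMod p)ˣ)
  rw [Nat.card_eq_fintype_card, ZMod.card_units] at hg
  exact ⟨g, g.ne_zero, fun r h₁ h₂ e => pow_ne_one_of_lt_orderOf (x := g) h₁.ne' (by omega)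
    (Units.ext (by simpa using e))⟩

theorem exists_out_rep {L D : Subgroup G} (hL : AI (⊤ : Subgroup (MulAut K)) L)
    (hD : AI (⊤ : Subgroup (MulAut K)) D) (hD' : phi p L ≤ D)
    (hc : ∀ g ∈ K, ∀ x ∈ L, ⁅g, x⁆ ∈ D) :
    ∃ (V : Type u) (_ : AddCommGroup V) (_ : Module (ZMod p) V) (_ : Finite V)
      (ρ : OutF F K →* End (ZMod p) V) (π : G → V),
      Idn L D π ∧ ∀ α, ∀ x ∈ L, ρ (outMk F K α) (π x) = π (afn α.1 x) := by
  obtain ⟨V, _, _, _, ρ, π, hπ, h⟩ := exists_aut_rep hL hD hD'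
  refine ⟨V, _, _, ‹_›, QuotientGroup.lift _ (ρ.comp (F.autGroup K).subtype) fun α hα =>
    LinearMap.ext fun w => ?_, π, hπ, fun α => h α⟩
  obtain ⟨x, hx, rfl⟩ := hπ.surj w
  obtain ⟨g, hg, e⟩ := (Fus2.mem_Inn_iff (α := α.1)).1 hα
  have k := hL.2 α trivial x hx
  refine (h α x hx).trans (sub_eq_zero.1 ?_)
  rw [End.one_apply, ← hπ.sub' k hx, hπ.zero _ (mul_mem k (inv_mem hx)), e x (hL.1 hx)]
  exact hc g hg x hx

namespace TwoStep

variable (hK : TwoStep p K) (h : MaxCl p n G) (h4 : 4 ≤ n) (hne : ⁅K, lcs G (n - 3)⁆ = ⊥)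
  {σ : MulAut G} {a b : ZMod p}
include hK h h4 hne

theorem wts_all (hw : Wts n K σ a b) {j : ℕ} (hj : j + 2 ≤ n) :
    ∀ y ∈ tsr K j, Sc σ (tsr K (j + 1)) y (b * a ^ j) := fun y hy => by
  by_cases e : j + 3 ≤ n
  · exact hw.mid j e y hy
  obtain rfl : j = n - 2 := by omega
  exact (hw.non hne y ((tsr_of_pos K (by omega)).le hy)).mono bot_le

theorem eq_one_of_wts (hna : ⁅K, K⁆ ≠ ⊥) (hw : Wts n K σ 1 b) : b = 1 := by
  have hb : tsr K (n - 2 + 1) = ⊥ := h.eq_bot (j := n - 2 + 1) (by omega)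
  obtain ⟨i, i₁, i₂⟩ := Nat.exists_not_and_succ_of_not_zero_of_exists
    (p := fun i => ⁅tsr K i, K⁆ = ⊥) hna ⟨_, by rw [hb, commutator_bot_left]⟩
  obtain ⟨j, j₁, j₂⟩ := Nat.exists_not_and_succ_of_not_zero_of_exists
    (p := fun j => ⁅tsr K i, tsr K j⁆ = ⊥) i₁ ⟨_, by rw [hb, commutator_bot_right]⟩
  replace i₂ : ⁅tsr K (i + 1), tsr K j⁆ ≤ ⊥ :=
    (commutator_mono le_rfl (hK.anti (Nat.zero_le j))).trans i₂.le
  obtain ⟨x, hx, y, hy, e⟩ : ∃ x ∈ tsr K i, ∃ y ∈ tsr K j, ⁅x, y⁆ ∉ (⊥ : Subgroup G) := by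
    by_contra e
    push Not at e
    exact j₁ (eq_bot_iff.2 (commutator_le.2 e))
  have hle : ∀ k, ∀ x ∈ tsr K k, x ≠ 1 → k + 2 ≤ n := fun k x hx e => by
    by_contra e'
    exact e (hb.le (hK.anti (by omega) hx))
  have hc : ⁅⁅tsr K i, tsr K j⁆, ⊤⁆ ≤ ⊥ := three_sub
    (by rw [← hK.tsr_succ, commutator_comm, j₂]) (by rwa [commutator_comm ⊤, ← hK.tsr_succ])
  have := eig_pair_eq (p := p) (hK.wts_all h h4 hne hw (hle i x hx fun e' => e (by simp [e'])))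
    (hK.wts_all h h4 hne hw (hle j y hy fun e' => e (by simp [e']))) (hw.non hne) hx hy
    (hK.inv_tsr h h4 ⊤ _ σ trivial y hy) i₂ j₂.le (h.eq_bot (j := n - 2 + 1) (by omega)).le
    (h.center_eq.le (Subgroup.mem_center_iff.2 fun g => (comm_le_bot_iff.1 hc _
      (commutator_mem_commutator hx hy) g trivial).eq.symm)) e fun w hw => hb.le
        (hK.pow_mem_tsr h _ w ((tsr_of_pos K (by omega)).ge hw))
  simpa [hw.hb] using this

end TwoStep

namespace Bad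

variable (h : Bad p n F K E)
include h

theorem pos : ∀ a, 1 ≤ a → ⁅K, lcs G a⁆ ≤ lcs G (a + 2) :=
  fun a ha => h.two.pos_all h.mc h.h2 h.non (a + 1) a ha (Nat.lt_succ_self a)

theorem not_comm : ⁅K, K⁆ ≠ ⊥ := fun e => h.lt.not_ge fun x hx =>
  mem_of_comm h.ess fun y hy => comm_le_bot_iff.1 e.le x hx y (h.lt.le hy)

theorem le_omZ : tsr K (n - 3) ≤ omZ p K := fun y hy => by
  have := h.n5
  have := h.h5
  have hy' := (tsr_of_pos K (by omega)).le hy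
  exact ⟨h.two.anti (Nat.zero_le _) hy, h.two.pow_eq_one h.mc h.h2 h.non (by omega) (by omega) hy',
    fun x hx => (comm_le_bot_iff.1 h.non.le x hx y hy').symm⟩

theorem not_ext {l : ZMod p} (hl : ∀ r, 0 < r → r + 1 < p → l ^ r ≠ 1) {κ : MulAut K}
    (hκ : TD F E l κ) {σ : MulAut G} (hσ : ∀ x ∈ K, σ x = afn κ x) : False := by
  have hK := h.two
  have hn := h.n5
  have h5 := h.h5
  have hG := h.mc.isPGroup
  have hl₁ : l ≠ 1 := by simpa using hl 1 one_pos (by omega)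
  obtain ⟨a, b, hw⟩ := hK.exists_wts h.mc h.h2 h.n4 σ
  have h₁ : ∀ j, j + 2 ≤ n → ∀ y ∈ tsr K j, Sc (afn κ) (tsr K (j + 1)) y (b * a ^ j) :=
    fun j hj y hy => by
      rw [Sc, ← hσ y (hK.anti (Nat.zero_le j) hy)]; exact hK.wts_all h.mc h.n4 h.non hw hj y hy
  have h₂ : ∀ j, j + 2 ≤ n → ∀ c, c ≠ b * a ^ j → ∀ y, y ∈ tsr K j ∧ y ∉ tsr K (j + 1) →
      Dv (afn κ) c y ∈ tsr K j ∧ Dv (afn κ) c y ∉ tsr K (j + 1) := fun j hj c hc y hy =>
    ⟨mul_mem (inv_mem (_root_.pow_mem hy.1 _)) (hσ y (hK.anti (Nat.zero_le j) hy.1) ▸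
      hK.inv_tsr h.mc h.n4 ⊤ _ σ trivial y hy.1), fun e =>
      hc (Sc.unique e (h₁ j hj y hy.1) hy.2 (hK.pow_mem_tsr h.mc j y hy.1))⟩
  have h₃ : ∀ j, j + 2 ≤ n → ∀ y ∈ omZ p K, y ∈ tsr K j ∧ y ∉ tsr K (j + 1) → 1 ≠ b * a ^ j →
      l = b * a ^ j := fun j hj y hy hy' e => by_contra fun e' =>
    (h₂ j hj l e' _ (h₂ j hj 1 e y hy')).2 (hκ.f₂ y hy ▸ one_mem _)
  have hb : tsr K (n - 2 + 1) = ⊥ := h.mc.eq_bot (j := n - 2 + 1) (by omega)
  obtain ⟨z, hz, hzc, hz1⟩ := h.exists_z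
  have hr := h.nr E h.ess h.lt z hzc hz1
  have hz' : z ∈ tsr K (n - 2) := (tsr_of_pos K (by omega)).ge (h.mc.center_eq.le hzc)
  have w₁ : l = b * a ^ (n - 2) := h₃ _ (by omega) z hz ⟨hz', by rwa [hb]⟩ fun e => by
    obtain ⟨β, hβ, hβ', e'⟩ := hκ.f₄ hl₁
    have := h₁ _ (by omega) z hz'
    rw [← e, hb] at this
    exact hβ' (hr β hβ (e' z (h.omZ_le hz) (inv_mul_eq_one.1 this.one).symm))
  have w₂ : 1 = b * a ^ (n - 3) := by_contra fun e => by
    obtain ⟨y, hy⟩ := SetLike.exists_of_lt (hK.tsr_lt h.mc (j := n - 3) (by omega))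
    have k := h₃ _ (by omega) y (h.le_omZ hy.1) hy e
    rw [show n - 2 = n - 3 + 1 by omega, pow_succ, ← mul_assoc, ← k, eq_comm,
      mul_eq_left₀ (k ▸ mul_ne_zero hw.hb (pow_ne_zero _ hw.ha))] at w₁
    subst w₁
    exact e (by rw [hK.eq_one_of_wts h.mc h.n4 h.non h.not_comm hw, one_pow, one_mul])
  rw [show n - 2 = n - 3 + 1 by omega, pow_succ, ← mul_assoc, ← w₂, one_mul] at w₁
  subst w₁
  have h₄ : omZ p E ≤ tsr K (n - 4) := fun u hu => by_contra fun e => by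
    obtain ⟨j, -, hj⟩ := hK.exists_pos' h.mc (h.lt.le hu.1) fun e' => e (e' ▸ one_mem _)
    obtain ⟨r, hr⟩ : ∃ r, j + (r + 2) + 3 = n := ⟨n - 5 - j, by
      have : ¬ n - 4 ≤ j := fun e' => e (hK.anti e' hj.1)
      omega⟩
    have k : b * l ^ j * l ^ (r + 2) = 1 := by
      rw [w₂, mul_assoc, ← pow_add, show j + (r + 2) = n - 3 by omega]
    have hpos := hK.pos_of_pow h.mc h.h2 h.non hj.1 hj.2 hu.2.1
    have k₁ := h₂ j (by omega) l⁻¹ (fun e => hl (r + 1) (by omega) (by omega) (by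
      rw [← k, ← e, pow_succ' l (r + 1), inv_mul_cancel_left₀ hw.ha])) _
      (h₂ j (by omega) 1 (fun e => hl (r + 2) (by omega) (by omega) (by
        rw [← k, ← e, one_mul])) u hj)
    rcases hpos with e' | ⟨rfl, e'⟩
    · exact (h₂ j (by omega) l (fun e => hl (r + 3) (by omega) (by omega) (by
        rw [← k, ← e, pow_succ'])) _ k₁).2 (hκ.f₁ u hu ▸ one_mem _)
    · exact k₁.2 (lcs_anti (i := 1) (j := 3) (by omega) (hK.comm_self h.mc (hκ.f₃ u hu)))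
  obtain ⟨γ, hγ, hγ'⟩ := exists_not_ext h.hS h.sat h.ess
  have h₅ := fun g => hr.mem hG h.sat h.ess (h.omZ_le hz) hγ hγ' (g := g)
  have h₆ : afn γ z ∈ omZ p E := (ai_self (A := ⊤)).omZ.2 γ trivial z (h.omZ_le hz)
  have h₇ : tsr K (n - 4) ≤ omZ p E := hK.le_of_mem h.mc (h₄ h₆) (fun e => h.lt.not_ge
    fun g hg => h₅ g ((h.le_omZ (hK.anti (by omega) e)).2.2 g hg).symm) h₆
    ((hK.anti (by omega)).trans (h.le_omZ.trans h.omZ_le))
  haveI := hK.normal_tsr (n - 4)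
  refine h.not_normal ((le_antisymm (fun x hx y hy => ((h₇ hy).2.2 x hx).eq) fun g hg =>
    h₅ g (hg _ (h₄ h₆)).symm : E = centralizer (tsr K (n - 4) : Set G)) ▸ inferInstance)

theorem tsr_le_phi : tsr K (p - 1) ≤ phi p K := by
  have hK := h.two
  haveI := hK.normal
  haveI : (phi p K).Normal := normal_phi
  obtain ⟨j, -, hj⟩ := hK.exists_tsr_eq h.mc (N := phi p K) phi_le
  refine (hK.anti (not_lt.1 fun e => ?_)).trans hj.ge
  have := h.h5
  have k : phi p K ≤ lcs G p := hj.le.trans ((hK.anti (b := j) (a := p) (by omega)).trans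
    (tsr_of_pos K (by omega)).le)
  by_cases e' : p + 2 ≤ n
  · obtain ⟨y, hy, hy'⟩ := SetLike.exists_of_lt (hK.tsr_lt h.mc (j := 0) (by omega))
    exact (hK.pow_not_mem h.mc h.pos e' hy hy').2 (k (pow_mem_phi hy))
  · exact h.not_comm (eq_bot_iff.2 (commutator_le_phi.trans (k.trans (h.mc.eq_bot (by omega)).le)))

theorem exists_ext {l : ZMod p} (hl : l ≠ 0) : ∃ (E' : Subgroup G) (κ : MulAut K) (σ : MulAut G),
    Bad p n F K E' ∧ TD F E' l κ ∧ ∀ x ∈ K, σ x = afn κ x := by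
  have hK := h.two
  have hn := h.n5
  have hG := h.mc.isPGroup
  haveI := hK.normal
  obtain ⟨κ, hκ, hT⟩ := h.exists_td
  obtain ⟨x₀, hx₀⟩ := hK.exists_not_mem
  have hN : ∀ g : G, g ∈ normalizer (K : Set G) := fun g => by rw [normalizer_eq_top]; trivial
  have hcen : F.IsCentric K := isCentric_of_le h.ess.1 h.lt.le le_top
  have hfn : F.IsFullyNormalized K := isFullyNormalized_of_normal le_top fun g _ => hN g
  let c : G →* F.autGroup K := MonoidHom.mk' (fun g => ⟨conjAut K g (hN g),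
    conjAut_mem_autGroup le_top trivial (hN g)⟩) fun a b => Subtype.ext (conjAut_mul _ _)
  have hc : ∀ g, ∀ x ∈ K, afn (c g).1 x = g * x * g⁻¹ := fun g x hx => Fus2.afn_conjAut (hN g) hx
  have hc' : ∀ g, outMk F K (c g) = 1 ↔ g ∈ K := fun g =>
    outMk_eq_one_iff.trans (mem_iff_conjAut_mem_Inn hcen trivial (hN g))
  set s := outMk F K (c x₀) with hs
  have hq : Function.Surjective (outMk F K) := QuotientGroup.mk'_surjective _
  have s₁ : s ≠ 1 := fun e => hx₀ ((hc' _).1 e)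
  have s₂ : s ^ p = 1 := by rw [hs, ← map_pow, ← map_pow, hc']; exact hK.pow_mem h.mc x₀
  have s₃ : outS F K ≤ zpowers s := by
    rintro _ ⟨α, hα, rfl⟩
    obtain ⟨g, hg, e⟩ := mem_autInducedBy_iff'.1 hα
    obtain ⟨k, y, hy, rfl⟩ := (mem_zpowers_sup_iff (hN x₀)).1 ((hK.sup_eq hx₀).ge (mem_top g))
    exact ⟨k, by
      rw [show α = c (x₀ ^ k * y) from Subtype.ext e, map_mul, map_mul, (hc' y).2 hy, mul_one,
        map_zpow, map_zpow]⟩
  have s₄ := isSylowIn_outS (sat_automized h.hS h.sat hfn)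
  have hext : ∀ (τ : F.autGroup K) (k : ℤ), outMk F K τ * s * (outMk F K τ)⁻¹ = s ^ k →
      ∃ σ : MulAut G, (∀ x ∈ K, σ x = afn τ.1 x) ∧ (σ x₀)⁻¹ * x₀ ^ k ∈ K := fun τ k e => by
    obtain ⟨f, hf, f₁, f₂⟩ := exists_ext_zpowers h.hS h.sat hcen τ.2 (g := x₀) (g' := x₀ ^ k)
      ⟨trivial, hN _⟩ ⟨trivial, hN _⟩
      ((outMk_eq_one_iff (a := (τ * c x₀ * τ⁻¹)⁻¹ * c (x₀ ^ k))).1 (by
        simp only [map_mul, map_inv, map_zpow, ← hs, e, inv_mul_cancel]))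
    rw [sup_comm, hK.sup_eq hx₀] at hf
    obtain ⟨σ, hσ⟩ := exists_mulAut hf
    exact ⟨σ, fun x hx => (hσ x).trans (f₁ x hx), hσ x₀ ▸ f₂⟩
  have hC : ∀ y, Commute y s → ∃ k, y ^ p ^ k = 1 := fun y hy => by
    obtain ⟨τ, rfl⟩ := hq y
    obtain ⟨σ, h₁, h₂⟩ := hext τ 1 (by rw [hy.eq, mul_inv_cancel_right, zpow_one])
    obtain ⟨a, b, hw⟩ := hK.exists_wts h.mc h.h2 h.n4 σ
    obtain rfl : a = 1 := (hw.top x₀).unique (sc_one (by simpa using inv_mem h₂)) hx₀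
      (hK.pow_mem h.mc x₀)
    obtain rfl := hK.eq_one_of_wts h.mc h.n4 h.non h.not_comm hw
    obtain ⟨k, hk⟩ := hK.pow_eq_one_of_triv h.mc h.n4 (fun y => (hw.top y).one) fun y hy =>
      Sc.one (p := p) (by have := hw.mid 0 (by omega) y hy; rwa [pow_zero, mul_one] at this)
    have h₃ : ∀ m : ℕ, ∀ x ∈ K, afn (τ.1 ^ m) x = (σ ^ m) x := fun m => by
      induction m with
      | zero => simp
      | succ m ih =>
        intro x hx
        rw [pow_succ', pow_succ', Fus2.afn_mul, ← h₁ _ (Fus2.afn_mem _ hx), ih x hx]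
        rfl
    exact ⟨k, by
      rw [← map_pow, show τ ^ p ^ k = 1 from Subtype.ext (Fus2.aut_ext fun x hx => by
        simpa [hk] using h₃ (p ^ k) x hx), map_one]⟩
  have hO : ∀ R : Subgroup (OutF F K), R.Normal → ¬ p ∣ Nat.card R → R = ⊥ := fun R hR hR' => by
    have k₁ : ∀ r ∈ R, (∃ k, r ^ p ^ k = 1) → r = 1 := fun r hr ⟨k, hk⟩ =>
      orderOf_eq_one_iff.1 (Nat.eq_one_of_dvd_coprimes
        (((Nat.Prime.coprime_iff_not_dvd hp.out).2 hR').pow_left k) (orderOf_dvd_of_pow_eq_one hk)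
        (orderOf_dvd_natCard R hr))
    obtain ⟨U, _, _, _, ρ, π, hπ, k₂⟩ := exists_out_rep (F := F) (p := p) ai_self ai_self.phi le_rfl
      fun g hg x hx => comm_mem_phi hg hx
    have k₃ : ∀ m, ∀ x ∈ K, ∃ y ∈ tsr K m, ((ρ s - 1) ^ m) (π x) = π y := fun m x hx => by
      induction m with
      | zero => exact ⟨x, hx, rfl⟩
      | succ m ih =>
        obtain ⟨y, hy, e⟩ := ih
        have hy' := hK.anti (Nat.zero_le m) hy
        refine ⟨⁅x₀, y⁆, comm_mem_symm ((hK.tsr_succ m).ge (commutator_mem_commutator hy trivial)),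
          ?_⟩
        rw [pow_succ', End.mul_apply, e, LinearMap.sub_apply, k₂ _ y hy', hc _ y hy', End.one_apply,
          commutatorElement_def, hπ.sub' (hK.normal.conj_mem y hy' x₀) hy']
    refine eq_bot_iff.2 fun r hr => k₁ r hr ?_
    have k₄ := frob ρ hR' s₂ (fun r hr e => k₁ r hr (hC r e)) (LinearMap.ext fun w => by
      obtain ⟨x, hx, rfl⟩ := hπ.surj w
      obtain ⟨y, hy, e⟩ := k₃ (p - 1) x hx
      exact e.trans ((hπ.zero y (phi_le (h.tsr_le_phi hy))).2 (h.tsr_le_phi hy))) hr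
    obtain ⟨τ, rfl⟩ := hq r
    obtain ⟨k, hk⟩ := exists_pow_coprime (p := p) τ.1
    refine ⟨k, ?_⟩
    rw [← map_pow, show τ ^ p ^ k = 1 from Subtype.ext (trivOn_top_bot_iff.1
      (trivOn_bot_of_nonGen (hG.to_subgroup K) (nonGen_phi (p := p)
        ((hG.to_subgroup K).to_subgroup ⊤)) le_top hk fun x _ => ?_)), map_one]
    have k₅ := k₂ (τ ^ p ^ k) x x.2
    rw [map_pow, map_pow, k₄, one_pow, End.one_apply, eq_comm, ← sub_eq_zero,
      ← hπ.sub (Fus2.afn_mem _ x.2) x.2, hπ.zero _ (mul_mem (inv_mem x.2) (Fus2.afn_mem _ x.2)),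
      Fus2.afn_coe] at k₅
    rw [← subgroupOf_self, ← phi_subgroupOf le_rfl]
    exact k₅
  have hV : AI (⊤ : Subgroup (MulAut K)) (omZ p K) := ai_self.omZ
  obtain ⟨V, _, _, _, ρ, π, hπ, h₀⟩ := exists_out_rep (F := F) hV ai_bot elem_omZ.phi_eq.le
    fun g hg x hx => (hx.2.2 g hg).symm.commutator_eq
  haveI : Module.Finite (ZMod p) V := Module.Finite.of_finite
  have h₁ : ∀ u ∈ omZ p K, ρ s (π u) = π u ↔ u ∈ center G := fun u hu => by
    rw [h₀ _ u hu]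
    refine ⟨fun e => Subgroup.mem_center_iff.2 fun g => ?_, fun e => by
      rw [hc _ u hu.1, Subgroup.mem_center_iff.1 e, mul_inv_cancel_right]⟩
    have k := hπ.inj (hV.2 _ trivial u hu) hu e
    rw [hc _ u hu.1, mul_inv_eq_iff_eq_mul] at k
    exact mem_centralizer_singleton_iff.1 ((hK.sup_eq hx₀).ge.trans (sup_le
      (zpowers_le.2 (mem_centralizer_singleton_iff.2 k)) fun y hy =>
        mem_centralizer_singleton_iff.2 (hu.2.2 y hy).eq.symm) (mem_top g))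
  have hinj : Function.Injective ρ := ρ.ker_eq_bot_iff.1 (hO _ inferInstance fun e => by
    obtain ⟨⟨y, hy⟩, hy'⟩ := exists_prime_orderOf_dvd_card' p e
    rw [orderOf_mk] at hy'
    obtain ⟨g, -, hg⟩ := s₄.exists_conj_mem_of_pow (mem_top y) (k := 1)
      (by rw [pow_one, ← hy', pow_orderOf_eq_one])
    have k : s ∈ ρ.ker := zpowers_le.2 (ρ.normal_ker.conj_mem y hy g)
      ((zpowers_eq_of_mem s₂ (s₃ hg) fun e' => hp.out.ne_one (by
        rw [← hy', conj_eq_one_iff.1 e', orderOf_one])).ge (mem_zpowers s))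
    obtain ⟨u, hu, hu'⟩ := SetLike.exists_of_lt (hK.tsr_lt h.mc (j := n - 3) (by omega))
    exact hu' (hK.anti (by omega) ((tsr_of_pos K (i := n - 2) (by omega)).ge (h.mc.center_eq.le
      ((h₁ u (h.le_omZ hu)).1 (by rw [MonoidHom.mem_ker.1 k]; rfl))))))
  have m₂ := (hκ 2 (two_ne_zero_of_ne_two h.h2)).mem
  set e := ρ (outMk F K ⟨κ 2, m₂⟩) - 1 with he
  have h₂ : ∀ u ∈ omZ p K, u⁻¹ * afn (κ 2) u ∈ omZ p K ∧ e (π u) = π (u⁻¹ * afn (κ 2) u) :=
    fun u hu => ⟨mul_mem (inv_mem hu) (hV.2 _ trivial u hu), by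
      rw [he, LinearMap.sub_apply, h₀ _ u hu, hπ.sub (hV.2 _ trivial u hu) hu]; rfl⟩
  have h₃ : ∀ l (hl : l ≠ 0), ρ (outMk F K ⟨κ l, (hκ l hl).mem⟩) = 1 + (l - 1) • e :=
    fun l hl => LinearMap.ext fun w => by
      obtain ⟨u, hu, rfl⟩ := hπ.surj w
      rw [h₀ _ u hu, (hT u hu).2.2 l hl, hπ.add _ hu _ (_root_.pow_mem (h₂ u hu).1 _),
        hπ.pow (p := p) (h₂ u hu).1, ZMod.natCast_zmod_val, ← (h₂ u hu).2]
      rfl
  have h₄ : ∀ u ∈ omZ p K, e (e (π u)) = e (π u) := fun u hu => by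
    rw [(h₂ u hu).2, (h₂ _ (h₂ u hu).1).2, (hT u hu).1]
  obtain ⟨z, z₁, z₂, z₃⟩ := h.mc.exists_gen
  have z₄ : z ∈ center G := z₃.le (mem_zpowers z)
  have z₅ : z ∈ omZ p K := ⟨h.lt.le (center_le_ess h.ess z₄), z₂, fun y _ =>
    (Subgroup.mem_center_iff.1 z₄ y).symm⟩
  obtain ⟨g, hg⟩ := MC.hom p (OutF F K) V ρ s e h.h5 hinj (orderOf_eq_prime s₂ s₁)
    (fun e => s₄.not_dvd_relIndex (by
      rw [relIndex_top_right]; exact e.trans (index_dvd_of_le s₃))) hO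
    (fun A hA => local_of_fix (N := ρ s - 1) (z := π z)
      ⟨p, by rw [← MC.pow_char_sub_one (F := ZMod p), ← map_pow, s₂, map_one, sub_self]⟩
      (fun w hw => by
        obtain ⟨u, hu, rfl⟩ := hπ.surj w
        obtain ⟨i, rfl⟩ := mem_powers_iff_mem_zpowers.2
          (z₃.ge ((h₁ u hu).1 (sub_eq_zero.1 hw)))
        exact ⟨i, hπ.pow z₅ i⟩)
      (sub_eq_zero.2 ((h₁ z z₅).2 z₄)) (hA.sub_right (Commute.one_right A)))
    (LinearMap.ext fun w => by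
      obtain ⟨u, hu, rfl⟩ := hπ.surj w
      exact h₄ u hu)
    (fun l hl => ⟨_, h₃ l hl⟩)
    ((le_or_gt 7 p).imp_right fun h7 => LinearMap.ext fun w => by
      obtain ⟨u, hu, rfl⟩ := hπ.surj w
      have k := (h₁ _ (h₂ u hu).1).2 ((hT u hu).2.1 h7)
      rw [← (h₂ u hu).2] at k
      rw [End.mul_apply, End.mul_apply, End.mul_apply, k, h₄ u hu])
  obtain ⟨γ, rfl⟩ := hq g
  obtain ⟨k, hk⟩ := (hg _ l (h₃ l hl) _).1 (mem_zpowers _)
  obtain ⟨σ, hσ, -⟩ := hext (γ⁻¹ * ⟨κ l, (hκ l hl).mem⟩ * γ⁻¹⁻¹) k (by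
    simp only [conj_zpow] at hk
    rw [map_mul, map_mul, map_inv, map_inv, map_inv, ← inv_mul_cancel_left (outMk F K γ) (s ^ k),
      mul_inv_eq_iff_eq_mul.1 hk]
    group)
  exact ⟨_, _, σ, h.img (inv_mem γ.2), h.td_conj (hκ l hl) (inv_mem γ.2), hσ⟩

theorem elim : False := by
  obtain ⟨l, hl, hl'⟩ := exists_prim (p := p)
  obtain ⟨E', κ, σ, h₁, h₂, h₃⟩ := h.exists_ext hl
  exact h₁.not_ext hl' h₂ h₃

end Bad

end Cfsg.Agent.Ess
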